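import Cfsg.Agent.Lib.LowDeg.PM2c
import Cfsg.Agent.Lib.LowDeg.L2p

set_option autoImplicit false

namespace CfsgLib.LowD2

open Cfsg CfsgLib.Char CfsgLib.PF CfsgLib.BG CfsgLib.DefectOne CfsgLib.DefectOne.B43 CfsgLib.Tuan
  CfsgLib.ChDeg CfsgLib.LowDeg Subgroup
open scoped MatrixGroups ComplexConjugate

variable {G : Type*} [Group G] [Finite G] {p : ℕ} [hp : Fact p.Prime] {x : G} (hs : Syl p x)
  {χ : G → ℂ} {d : ℕ}
include hs

theorem halfA (hgen : ∀ H : Subgroup G, (∀ g, p ∣ orderOf g → g ∈ H) → H = ⊤) (he : ee x ≠ 1)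
    (hχ : IsIrr ⊤ χ) (hd : χ 1 = d) (hdp : d + 2 ≤ p) (hx : χ x ≠ χ 1) (hB : d + ee x ≠ p) :
    2 * ee x + 1 = p := by
  classical
  obtain ⟨ω, hω⟩ := exists_prim p
  have hd0 : 0 < d := by
    obtain ⟨n, hn, h⟩ := hχ.one_pos
    rw [hd] at h; obtain rfl : d = n := by exact_mod_cast h
    exact hn
  have hp2 : p ≠ 2 := by omega
  have he0 := ee_pos x
  obtain ⟨θ, a, D, hθ, rfl, hE, h1⟩ := small hs hω hχ hd hdp hx
  have hcl := hs.card_EE_mul hθ
  change _ = ee x at hcl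
  replace h1 := h1.resolve_right fun h => hB h.2.2.1
  obtain ⟨t, ht0, ht⟩ := hθ.1.one_pos
  have hdt : d = ee x * t := by
    have := h1 1 (one_mem _)
    rw [hd, Ind_apply_one (CC_le_NN x), hs.lt_one, ht] at this
    exact_mod_cast this
  have hed : ee x ≤ d := hdt ▸ Nat.le_mul_of_pos_right _ ht0
  obtain ⟨c, hc⟩ : ∃ c, c ∉ hs.EE (cf1 (CC x)) := by
    by_contra! h
    have := card_EE_cf1 hs
    rw [(eq_top_iff' _).2 h, card_top, Nat.card_eq_fintype_card, ZMod.card_units] at this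
    omega
  have hc' : ∀ g ∈ NN x, hs.nu g ≠ c := fun g hg e =>
    hc (hs.mem_EE.2 ⟨g, hg, cfJ_cf1 (NN_le_normalizer_CC x hg), e⟩)
  have hχ' := D.Y_irr (a * c)
  have hψ1 := hχ.isChar.mul hχ.isChar.conj
  have hψ2 := hχ.isChar.mul hχ'.isChar.conj
  set ψ1 := D.Y a * conjFun (D.Y a) with hψ1d
  set ψ2 := D.Y a * conjFun (D.Y (a * c)) with hψ2d
  have hreg : ∀ g, ¬ p ∣ orderOf g → (ψ1 - ψ2) g = 0 := fun g hg => by
    simp only [hψ1d, hψ2d, Pi.sub_apply, Pi.mul_apply, conjFun_apply, D.Y_reg (a * c) a hg,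
      sub_self]
  have hone : dot ⊤ (ψ1 - ψ2) (cf1 ⊤) = 1 := by
    rw [dot_sub_left, dot_mul_left, dot_mul_left, conjFun_conjFun, conjFun_conjFun, mul_cf1 hχ.1,
      mul_cf1 hχ'.1, hχ.dot_self, hχ.dot_of_ne hχ', sub_zero]
    intro e
    obtain ⟨g, hg, -, h⟩ := hs.mem_EE.1 ((D.Y_eq_iff _ _).1 e)
    exact hc' g hg (by simpa using h)
  have hP : ∑ j : ZMod p, ψ2 (x ^ j.val) = 0 := by
    have h2 : ∀ j : ZMod p, D.Y (a * c) (x ^ j.val) = D.Y a (x ^ (j * c).val) := fun j => by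
      have := hs.pow_mul_pow_kk hs.expo j c (one_mem _)
      rw [mul_one, mul_one] at this
      rw [← D.Y_gal, gal_apply, this]
    simp only [hψ2d, Pi.mul_apply, conjFun_apply, h2, h1 _ (pow_mem (self_mem_CC x) _),
      Ind_lt_pow hs hθ, map_mul, map_sum, ← AddChar.map_neg_eq_conj, mul_mul_mul_comm _ (∑ _ ∈ _, _),
      Finset.sum_mul_sum, ← AddChar.map_add_eq_mul, ← Finset.mul_sum]
    rw [Finset.sum_comm]
    refine mul_eq_zero_of_right _ (Finset.sum_eq_zero fun g hg => ?_)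
    rw [Finset.sum_comm]
    refine Finset.sum_eq_zero fun k hk => ?_
    have h3 := AddChar.sum_mulShift (a * (hs.nu g - hs.nu k * c)) hω
    rw [if_neg (mul_ne_zero a.ne_zero (sub_ne_zero.2 fun e => hc' (k⁻¹ * g)
      (mul_mem (inv_mem (mem_els.1 hk)) (mem_els.1 hg)) (by
        rw [hs.nu_mul (inv_mem (mem_els.1 hk)) (mem_els.1 hg), e, ← mul_assoc,
          ← hs.nu_mul (inv_mem (mem_els.1 hk)) (mem_els.1 hk), inv_mul_cancel, hs.nu_one,
          one_mul]))), Nat.cast_zero] at h3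
    rw [← h3]
    exact Finset.sum_congr rfl fun j _ => by congr 1; ring
  have hK : dot hs.KK ψ2 (cf1 hs.KK) = (ee x * Nat.card (hs.EE θ) : ℕ) := by
    have h2 : ∀ y ∈ hs.KK, D.Y a y = Ind (NN x) (CC x) θ y := fun y hy => by
      rw [h1 y hy.1, Ind_lt_KK hs hθ _ hy]
    rw [dot_mul_left, conjFun_conjFun, dot_congr h2 (ψ' := Ind (NN x) (CC x) θ) fun y hy => by
      rw [Pi.mul_apply, cf1_apply_of_mem hy, mul_one, D.Y_reg (a * c) a hy.2, h2 y hy],
      dot_KK hs (Ind_pow_mul hθ) (Ind_pow_mul hθ), ← dot_of_le (CC_le_NN x)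
        fun g hg => Ind_zero_of_normal (NN_le_normalizer_CC x) θ hg,
      cfnorm_Ind_irr (CC_normal_NN x) hθ.1, hs.card_EE]
    push_cast; rfl
  obtain ⟨ζ, hζ, ⟨D0⟩⟩ := exists_data hs
  have hne : ∀ {η : G → ℂ}, IsChar ⊤ η → dot ⊤ (ψ1 - ψ2) η = -1 → dot ⊤ ψ2 η ≠ 0 := by
    intro η hη h h0
    obtain ⟨n, hn⟩ := hψ1.dot_nat hη
    rw [dot_sub_left, h0, hn, sub_zero] at h
    have : (n : ℤ) = -1 := by exact_mod_cast h
    omega
  let Xm := (D0.X.erase (irrOne G)).filter fun η => D0.δ η = -1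
  have hXm : ∀ η ∈ Xm, dg η + 1 = p ∧ (IsIrr ⊤ (η : G → ℂ) ∧ dot ⊤ ψ2 η ≠ 0) ∧
      InKer hs.KK η := fun η hη => by
    obtain ⟨h2, h3⟩ := Finset.mem_filter.1 hη
    replace h2 := Finset.mem_of_mem_erase h2
    have h4 := isIrr_top.2 η.2
    have h5 : dot ⊤ ψ2 η ≠ 0 := hne h4.isChar (by
      rw [dot_sing hreg (D0.X_val η h2), hone, h3]; simp)
    have h6 := sumP_X D0 hs h2 (Commute.one_right x) not_dvd_orderOf_one
    simp only [mul_one] at h6
    rw [sumP_eq_zero hs hψ2 h4 h5 hP, h3, ← dg_cast] at h6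
    have h7 : dg η + 1 = p := by
      have : ((dg η + 1 : ℕ) : ℂ) = p := by push_cast at h6 ⊢; linear_combination -h6
      exact_mod_cast this
    exact ⟨h7, ⟨h4, h5⟩, fun y hy => X_ker D0 hs hp2 h2 h7 (mem_CC.1 hy.1) hy.2⟩
  have hXp : ∀ η ∈ D0.X.erase (irrOne G), η ∉ Xm → D0.δ η = 1 ∧ p + 1 ≤ dg η := fun η hη h => by
    have h2 := Finset.mem_of_mem_erase hη
    have h3 : D0.δ η = 1 := (D0.δ_sign η h2).resolve_right fun e => h (Finset.mem_filter.2 ⟨hη, e⟩)
    have h4 := D0.X_deg η h2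
    rw [h3] at h4
    obtain ⟨u, hu⟩ : ∃ u, charDegree (η : G → ℂ) = u * p + 1 := by
      have h5 : charDegree (η : G → ℂ) ≡ 1 [MOD p] := by exact_mod_cast h4
      refine ⟨charDegree (η : G → ℂ) / p, ?_⟩
      rw [← Nat.mod_eq_of_lt hp.out.one_lt, ← h5, Nat.div_add_mod']
    refine ⟨h3, ?_⟩
    rcases Nat.eq_zero_or_pos u with rfl | h5
    · refine absurd (Subtype.ext (irr_eq_one_of_cker_eq_top η.2 (hgen _ fun g hg => ?_)))
        (Finset.ne_of_mem_erase hη)
      rw [mem_cker (irr_isCharacter η), D0.X_val η h2 g hg, h3, ← irr_deg_cast, hu]; simp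
    · change _ ≤ charDegree _
      nlinarith
  have hcard := card_erase D0 hs
  have hXle : Xm.card ≤ (D0.X.erase (irrOne G)).card := Finset.card_filter_le _ _
  have hdeg : 1 + ((ee x : ℤ) - 1 - Xm.card) * (p + 1) - Xm.card * (p - 1) ≤ D0.ε * z0 D0 := by
    rw [Tuan.deg_eq', ← Finset.sum_filter_add_sum_filter_not _ fun η => D0.δ η = -1,
      Finset.sum_congr rfl (g := fun _ => -((p : ℤ) - 1)) fun η hη => by
        rw [(Finset.mem_filter.1 hη).2, ← (hXm η hη).1]; push_cast; ring]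
    have h2 := Finset.card_nsmul_le_sum ((D0.X.erase (irrOne G)).filter fun η => ¬ D0.δ η = -1)
      (fun η => D0.δ η * dg η) (p + 1) fun η hη => by
        obtain ⟨h3, h4⟩ := Finset.mem_filter.1 hη
        obtain ⟨h5, h6⟩ := hXp η h3 fun h => h4 (Finset.mem_filter.1 h).2
        rw [h5, one_mul]; exact_mod_cast h6
    have h3 := Finset.card_filter_add_card_filter_not (s := D0.X.erase (irrOne G))
      fun η => D0.δ η = -1
    rw [nsmul_eq_mul, show (((D0.X.erase (irrOne G)).filter fun η => ¬ D0.δ η = -1).card : ℤ) =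
      ee x - 1 - Xm.card by rw [← hcard, ← h3]; push_cast; ring] at h2
    rw [Finset.sum_const, nsmul_eq_mul]
    linarith
  have hsum : ∑ η ∈ Xm.image Subtype.val, (η 1).re = Xm.card * (p - 1) := by
    rw [Finset.sum_image fun _ _ _ _ e => Subtype.ext e, Finset.sum_congr rfl
      (g := fun _ => (p : ℝ) - 1) fun η hη => by
        rw [← dg_cast, ← (hXm η hη).1]; simp, Finset.sum_const, nsmul_eq_mul]
  have hS : ∀ η ∈ Xm.image Subtype.val, (IsIrr ⊤ η ∧ dot ⊤ ψ2 η ≠ 0) ∧ InKer hs.KK η :=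
    fun η hη => by
      obtain ⟨η, h2, rfl⟩ := Finset.mem_image.1 hη
      exact (hXm η h2).2
  have htt := card_Ys_mul D0
  rw [card_U D0 hs] at htt
  have htp : (Ys D0).card * ee x + 1 = p := by have := hp.out.pos; omega
  have htR : (p : ℝ) - 1 = (Ys D0).card * ee x := by
    rw [sub_eq_iff_eq_add]; exact_mod_cast htp.symm
  have ht2 : 2 ≤ (Ys D0).card := by
    by_contra h
    have : (Ys D0).card * ee x ≤ 1 * ee x := Nat.mul_le_mul_right _ (by omega)
    omega
  have hEe : Nat.card (hs.EE θ) ≤ ee x := hcl ▸ Nat.le_mul_of_pos_right _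
    (Finset.card_pos.2 ⟨_, self_mem_cfclass _ _⟩)
  have key : (Ys D0).card = 2 ∧ Nat.card (hs.EE θ) = ee x := by
    rcases D0.ε_sign with hε | hε
    · obtain ⟨η, hη, h2⟩ : ∃ η ∈ Ys D0, dot ⊤ ψ2 η ≠ 0 := by
        by_contra! h
        refine hne (η := ∑ η ∈ Ys D0, (η : G → ℂ))
          (isChar_sum _ fun η _ => (isIrr_top.2 η.2).isChar) ?_ ?_
        · rw [dot_sing hreg (c := -1) fun g hg => by
            rw [Finset.sum_apply, sum_Ys_sing hs D0 hζ hg, hε]; simp, hone]; simp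
        · rw [dot_sum_right]; exact Finset.sum_eq_zero h
      obtain ⟨b, rfl⟩ := (mem_Ys D0).1 hη
      have h3 := sumP_Y D0 hζ b (Commute.one_right x) not_dvd_orderOf_one
      simp only [mul_one] at h3
      rw [sumP_eq_zero hs hψ2 (isIrr_top.2 (D0.Y b).2) h2 hP, Y_one, card_U D0 hs, eq_comm,
        sub_eq_zero] at h3
      have h4 : (z0 D0 : ℤ) = D0.ε * ee x := by exact_mod_cast h3
      have h5 := sum_le_dot_cf1 hψ2 hs.KK (S := insert (D0.Y b : G → ℂ) (Xm.image Subtype.val))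
        fun η hη => by
          rcases Finset.mem_insert.1 hη with rfl | hη
          · exact ⟨⟨isIrr_top.2 (D0.Y b).2, h2⟩,
              fun y hy => Y_ker_pos D0 hs hζ h4 b (mem_CC.1 hy.1) hy.2⟩
          · exact hS η hη
      rw [Finset.sum_insert (fun h => by
        obtain ⟨η, h6, h7⟩ := Finset.mem_image.1 h
        exact D0.Y_notMem b (Subtype.ext h7 ▸
          Finset.mem_of_mem_erase (Finset.mem_filter.1 h6).1)), hsum, hK, Y_one, h3, hε, htR] at h5
      simp only [Int.cast_one, one_mul, Complex.natCast_re] at h5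
      have h6 : ee x * (1 + Xm.card * (Ys D0).card) ≤ ee x * Nat.card (hs.EE θ) := by
        have : (ee x : ℝ) * (1 + Xm.card * (Ys D0).card) ≤ (ee x * Nat.card (hs.EE θ) : ℕ) := by
          push_cast at h5 ⊢; linarith
        exact_mod_cast this
      have h7 := Nat.le_of_mul_le_mul_left h6 he0
      rw [h4, hε] at hdeg
      have h8 : (ee x : ℤ) - 1 - Xm.card ≤ Xm.card := by
        have : (0 : ℤ) < p := by exact_mod_cast hp.out.pos
        nlinarith
      have h9 : Xm.card * (Ys D0).card ≤ Xm.card * 2 := by omega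
      have := Nat.le_of_mul_le_mul_left h9 (by omega)
      have h10 : (Ys D0).card = 2 := by omega
      rw [h10] at h7
      exact ⟨h10, by omega⟩
    · have h5 := sum_le_dot_cf1 hψ2 hs.KK hS
      rw [hsum, hK, htR, Complex.natCast_re] at h5
      have h6 : ee x * (Xm.card * (Ys D0).card) ≤ ee x * Nat.card (hs.EE θ) := by
        have : (ee x : ℝ) * (Xm.card * (Ys D0).card) ≤ (ee x * Nat.card (hs.EE θ) : ℕ) := by
          push_cast at h5 ⊢; linarith
        exact_mod_cast this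
      have h7 := Nat.le_of_mul_le_mul_left h6 he0
      rw [hε] at hdeg
      have h8 : (ee x : ℤ) - 1 - Xm.card < Xm.card := by
        have : (0 : ℤ) < p := by exact_mod_cast hp.out.pos
        have : (0 : ℤ) ≤ z0 D0 := by positivity
        have : (0 : ℤ) < ee x := by exact_mod_cast he0
        nlinarith
      have h9 : Xm.card * (Ys D0).card ≤ Xm.card * 2 := by omega
      have := Nat.le_of_mul_le_mul_left h9 (by omega)
      have h10 : (Ys D0).card = 2 := by omega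
      rw [h10] at h7
      exact ⟨h10, by omega⟩
  rw [key.1] at htp
  exact htp

theorem half_ee_le {L : Subgroup G} (hx : x ∈ L) : ee (⟨x, hx⟩ : L) ≤ ee x := by
  rw [← card_EE_cf1 hs, ← card_EE_cf1 (hs.subgroup hx)]
  refine card_le_of_le fun a ha => ?_
  rw [Syl.mem_EE_cf1] at ha ⊢
  simpa using L.subtype.map_isConj ha

theorem half_sum_ne (hχ : IsIrr ⊤ χ) (hd : χ 1 = d) (hdp : d + 2 ≤ p) (hx : χ x ≠ χ 1)
    (hB : d + ee x = p) : ∑ j : ZMod p, χ (x ^ j.val) ≠ 0 := by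
  obtain ⟨ω, hω⟩ := exists_prim p
  obtain ⟨θ, a, D, hθ, rfl, -, h5 | ⟨h5, h6, -, h7, -⟩⟩ := small hs hω hχ hd hdp hx
  · obtain ⟨t, -, ht⟩ := hθ.1.one_pos
    have h6 := h5 1 (one_mem _)
    rw [hd, Ind_apply_one (CC_le_NN x), hs.lt_one, ht] at h6
    have h7 : ee x ∣ d := ⟨t, by exact_mod_cast h6⟩
    have h8 := Nat.dvd_sub (hB ▸ dvd_add h7 dvd_rfl) (ee_dvd hs)
    rw [show p - (p - 1) = 1 by omega, Nat.dvd_one] at h8
    omega
  · have h8 := D.sum_Y hω le_top hθ a (one_mem _)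
    have h9 := hs.card_EE_mul hθ
    rw [h6, Finset.card_singleton, mul_one] at h9
    simp only [mul_one, h6, Finset.sum_singleton, h5, h7, h9] at h8
    rw [sum_zmod, h8, ZMod.val_zero, pow_zero, hd]
    have h10 : ((d + ee x : ℕ) : ℂ) ≠ 0 := Nat.cast_ne_zero.2 (by omega)
    simpa [ee] using h10

theorem half_dich (hnn : ¬ (zpowers x).Normal) (hχ : IsCharacter G χ) (hd : χ 1 = d)
    (hdp : d + 2 ≤ p) (hf : ∀ g, χ g = χ 1 → g = 1) :
    2 * ee (⟨x, self_mem_Sing hs⟩ : Sing G p) + 1 = p ∨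
      (p ≤ d + ee (⟨x, self_mem_Sing hs⟩ : Sing G p) ∧ ∑ j : ZMod p, χ (x ^ j.val) ≠ 0) := by
  have hs' := hs.subgroup (self_mem_Sing hs)
  have hχ' := isChar_top.2 (isCharacter_restrict (Sing G p) hχ)
  obtain ⟨η, hη, h2, h3⟩ := exists_constt_ne hχ' (g := ⟨x, self_mem_Sing hs⟩)
    fun h => hs.ne_one (hf x h)
  obtain ⟨d1, -, h4, h5⟩ := exists_nat_le hχ' hη h2 hd
  by_cases h : d1 + ee (⟨x, self_mem_Sing hs⟩ : Sing G p) = p
  · exact Or.inr ⟨by omega, fun h0 => half_sum_ne hs' hη h5 (by omega) h3 h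
      (sumP_eq_zero hs' hχ' hη h2 h0)⟩
  · exact Or.inl (halfA hs' gen_Sing (ee_Sing_ne_one hs hnn hχ hd hdp hf) hη h5 (by omega) h3 h)

theorem caseA (hnn : ¬ (zpowers x).Normal) (hχ : IsIrr ⊤ χ) (hd : χ 1 = d) (hdp : d + 2 ≤ p)
    (hf : ∀ g, χ g = χ 1 → g = 1) (hB : d + ee x ≠ p) : 2 * d + 1 = p := by
  obtain ⟨ω, hω⟩ := exists_prim p
  obtain ⟨θ, a, D, hθ, -, -, h1⟩ := small hs hω hχ hd hdp fun h => hs.ne_one (hf x h)
  replace h1 := h1.resolve_right fun h => hB h.2.2.1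
  have h2 := (half_dich hs hnn (isChar_top.1 hχ.isChar) hd hdp hf).resolve_right fun h => h.2 (by
    simp only [h1 _ (pow_mem (self_mem_CC x) _), Ind_lt_pow hs hθ, ← Finset.mul_sum]
    rw [Finset.sum_comm]
    refine mul_eq_zero_of_right _ (Finset.sum_eq_zero fun g hg => ?_)
    simp only [mul_comm (_ * hs.nu g)]
    rw [AddChar.sum_mulShift _ hω, if_neg (mul_ne_zero a.ne_zero (hs.nu_ne_zero (mem_els.1 hg))),
      Nat.cast_zero])
  have h3 := half_ee_le hs (self_mem_Sing hs)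
  obtain ⟨t, ht0, ht⟩ := hθ.1.one_pos
  have h4 : d = ee x * t := by
    have := h1 1 (one_mem _)
    rw [hd, Ind_apply_one (CC_le_NN x), hs.lt_one, ht] at this
    exact_mod_cast this
  obtain ⟨u, hu⟩ := ee_dvd hs
  have h5 : t = 1 := by
    by_contra h
    have := Nat.mul_le_mul_left (ee x) (show 2 ≤ t by omega)
    omega
  have h6 : 2 ≤ u := by
    by_contra h
    have := Nat.mul_le_mul_left (ee x) (show u ≤ 1 by omega)
    rw [h5] at h4
    omega
  have := Nat.mul_le_mul_left (ee x) h6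
  rw [h5] at h4
  omega

omit hs in
theorem half_not_normal (hs : Syl p x) (hnn : ¬ (zpowers x).Normal) {L : Subgroup G} [L.Normal]
    (hx : x ∈ L) : ¬ (zpowers (⟨x, hx⟩ : L)).Normal := fun h => by
  obtain ⟨P, hP⟩ := (hs.subgroup hx).exists_sylow
  have := P.characteristic_of_normal (hP ▸ h)
  have h5 := ConjAct.normal_of_characteristic_of_normal (H := L) (K := P)
  rw [hP, MonoidHom.map_zpowers] at h5
  exact hnn h5

theorem le_ee_normal (hnn : ¬ (zpowers x).Normal) (hχ : IsCharacter G χ) (hd : χ 1 = d)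
    (hdp : d + 2 ≤ p) (hf : ∀ g, χ g = χ 1 → g = 1) (hB : d + ee x = p) (h2 : 2 * ee x < p)
    {L : Subgroup G} [L.Normal] (hx : x ∈ L) : ee x ≤ ee (⟨x, hx⟩ : L) := by
  have h3 := half_dich (hs.subgroup hx) (half_not_normal hs hnn hx) (isCharacter_restrict L hχ) hd
    hdp fun g hg => Subtype.ext (hf g hg)
  have h4 := half_ee_le (hs.subgroup hx) (self_mem_Sing (hs.subgroup hx))
  omega

theorem half_perfect (hχ : IsCharacter G χ) (hd : χ 1 = d) (hdp : d + 2 ≤ p)
    (hf : ∀ g, χ g = χ 1 → g = 1) (h5 : 5 ≤ p) (h4 : hs.KK ≤ center G)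
    (hperf : _root_.commutator G = ⊤) {k : Type} [Field k] [CharP k p] [IsAlgClosed k]
    (φ : G →* OrthE.O (OrthE.qOdd k 1)) (hφ : φ x ≠ 1) :
    Nonempty (G ⧸ center G ≃* PSL(2, ZMod p)) := by
  obtain ⟨f, hf'⟩ := exists_pgl_hom (fun h => (Nat.le_of_dvd two_pos
    ((CharP.cast_eq_zero_iff k p 2).1 (by exact_mod_cast h))).not_gt (by omega)) hperf φ hφ
    (hp.out.odd_of_ne_two (by omega)) hs.pow_p
  obtain ⟨e⟩ := range_psl h5 hperf hs.nsq f hf' hs.pow_p
  have h7 : ¬ p ∣ Nat.card f.ker := fun h => hf' (mem_of_normal hs _ h)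
  have h8 : f.ker ≤ center G := fun g hg => h4 (hs.mem_KK.2 ⟨le_CC_of_normal hs hχ hd (by omega) hf
    _ h7 hg, fun h => h7 (h.trans (orderOf_dvd_natCard _ hg))⟩)
  have := Classical.psl_fin_isSimpleGroup (F := ZMod p) 2 le_rfl fun _ => by rw [ZMod.card]; omega
  have := e.isSimpleGroup
  have h9 : center G = f.ker := by
    refine le_antisymm (fun g hg => ?_) h8
    have h10 : ((center G).map f.rangeRestrict).Normal :=
      Normal.map inferInstance _ f.rangeRestrict_surjective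
    rcases h10.eq_bot_or_eq_top with h | h
    · have : f.rangeRestrict g ∈ (⊥ : Subgroup f.range) := h ▸ mem_map_of_mem _ hg
      exact congrArg Subtype.val (mem_bot.1 this)
    · refine absurd ?_ hf'
      have h11 : _root_.commutator G ≤ f.ker := commutator_le.2 fun a _ b _ => by
        obtain ⟨c, hc, e⟩ : f.rangeRestrict a ∈ (center G).map f.rangeRestrict := h ▸ mem_top _
        rw [MonoidHom.mem_ker, map_commutatorElement, commutatorElement_eq_one_iff_mul_comm,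
          ← show f c = f a from congrArg Subtype.val e, ← map_mul, ← map_mul, mem_center_iff.1 hc]
      exact h11 (hperf ▸ mem_top x)
  exact ⟨((QuotientGroup.quotientMulEquivOfEq h9).trans
    (QuotientGroup.quotientKerEquivRange f)).trans e⟩

theorem psl_of_hom (hnn : ¬ (zpowers x).Normal) (hχ : IsCharacter G χ) (hd : χ 1 = d)
    (hdp : d + 2 ≤ p) (hf : ∀ g, χ g = χ 1 → g = 1) (hB : d + ee x = p) (h2 : 2 * ee x < p)
    (hK : hs.KK ≤ center G) {k : Type} [Field k] [CharP k p] [IsAlgClosed k]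
    (φ : G →* OrthE.O (OrthE.qOdd k 1)) (hφ : φ x ≠ 1) :
    Nonempty (G ⧸ center G ≃* PSL(2, ZMod p)) := by
  have hx := mem_commutator_of_ee hs (by omega)
  have h5 := exists_mul_center hs hK hx (le_ee_normal hs hnn hχ hd hdp hf hB h2 hx)
  obtain ⟨e⟩ := half_perfect (hs.subgroup hx) (isCharacter_restrict _ hχ) hd hdp
    (fun g hg => Subtype.ext (hf g hg)) (by omega) (fun y hy => mem_center_iff.2 fun g =>
      Subtype.ext (mem_center_iff.1 (hK ⟨mem_CC.2 (congrArg Subtype.val (mem_CC.1 hy.1).eq),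
        by rw [orderOf_coe]; exact hy.2⟩) g)) (perfect_commutator h5)
    (φ.comp (_root_.commutator G).subtype) hφ
  let f := (QuotientGroup.mk' (center G)).comp (_root_.commutator G).subtype
  have h6 : Function.Surjective f := by
    intro q
    obtain ⟨g, rfl⟩ := QuotientGroup.mk_surjective q
    obtain ⟨y, hy, h⟩ := h5 g
    exact ⟨⟨y, hy⟩, QuotientGroup.eq.2 h⟩
  have h7 : f.ker = center _ := by
    ext a
    rw [MonoidHom.mem_ker, MonoidHom.comp_apply, QuotientGroup.mk'_apply, QuotientGroup.eq_one_iff,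
      mem_center_iff, mem_center_iff]
    refine ⟨fun h b => Subtype.ext (h b), fun h g => ?_⟩
    obtain ⟨y, hy, h'⟩ := h5 g
    have h8 : y * a = a * y := congrArg Subtype.val (h ⟨y, hy⟩)
    rw [coe_subtype, ← mul_inv_cancel_left y g, mul_assoc, ← mem_center_iff.1 h', ← mul_assoc, h8,
      mul_assoc]
  exact ⟨((QuotientGroup.quotientKerEquivOfSurjective f h6).symm.trans
    (QuotientGroup.quotientMulEquivOfEq h7)).trans e⟩

theorem classes_mul_ee :
    Nat.card {c : ConjClasses G // ∃ g, ConjClasses.mk g = c ∧ orderOf g = p} * ee x = p - 1 := by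
  have h0 : ∀ y : G, orderOf y = p → Nat.card (CC y) = Nat.card (CC x) := fun y hy => by
    obtain ⟨g, hg⟩ := hs.exists_conj_mem (hy ▸ pow_orderOf_eq_one y)
    have h1 := hs.zpowers_eq hg fun h => (syl_of_orderOf hs hy).ne_one (by simpa using h)
    rw [CC, CC, ← SmallSimple.centralizer_zpowers x, ← h1, SmallSimple.centralizer_zpowers]
    exact Nat.card_congr ((MulAut.conj g).toEquiv.subtypeEquiv fun a => by
      rw [mem_centralizer_singleton_iff, mem_centralizer_singleton_iff,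
        ← (MulAut.conj g).injective.eq_iff, map_mul, map_mul]
      rfl)
  have h1 := PSL2Rec.card_mul_eq_of_centralizer_const (G := G) (fun g => orderOf g = p)
    (fun a b hab ha => (PSL2Rec.orderOf_eq_of_isConj hab).symm.trans ha) h0
  rw [PSL2Rec.card_orderOf_eq_prime (card_sylow_eq_p hs), ← card_sylow_mul hs, card_NN] at h1
  have h3 : 0 < Nat.card (Sylow p G) * Nat.card (CC x) := Nat.mul_pos Nat.card_pos Nat.card_pos
  refine Nat.eq_of_mul_eq_mul_left h3 ?_
  linear_combination (exp := 1) h1.symm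

end CfsgLib.LowD2
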