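import Cfsg.Agent.Lib.LowD2.Defs
import Cfsg.Agent.Lib.Cyc.Tr

set_option autoImplicit false
set_option linter.unusedSectionVars false
set_option maxHeartbeats 400000

namespace CfsgLib.LowD2

open Module Polynomial

variable {k : Type} [Field k] {e p : ℕ} [NeZero e] [Fact p.Prime] [CharP k p]

theorem op_X_pow (k : Type) [Field k] (n : ℕ) :
    ∃ r : k[X], X ^ n = 1 + C (n : k) * (X - 1) + (X - 1) * ((X - 1) * r) := by
  induction n with
  | zero => exact ⟨0, by simp⟩
  | succ n ih =>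
    obtain ⟨r, hr⟩ := ih
    refine ⟨r + C (n : k) + (X - 1) * r, ?_⟩
    rw [pow_succ, hr, Nat.cast_succ, map_add, map_one]
    ring

theorem op_comm {R : Type} [Ring R] [Algebra k R] (x : R) (f g : k[X]) : Commute (aeval x f) (aeval x g) :=
  (Commute.all f g).map (aeval x)

theorem op_exists (hp : p ≠ 2) : ∃ q : k[X], ∀ {R : Type} [Ring R] [Algebra k R] (x : R),
    DD k p x = aeval x ((X - 1) * (-1 + (X - 1) * q)) := by
  choose r hr using op_X_pow k
  let c := ZMod.castHom (dvd_refl p) k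
  have h1 : ∑ a : (ZMod p)ˣ, c ((a⁻¹ : (ZMod p)ˣ) : ZMod p) = 0 := by
    have h2 : (2 : k) ≠ 0 := fun h => hp ((Nat.prime_dvd_prime_iff_eq Fact.out Nat.prime_two).1
      ((CharP.cast_eq_zero_iff k p 2).1 (by exact_mod_cast h)))
    have h3 := Equiv.sum_comp (Equiv.neg (ZMod p)ˣ) fun a => c ((a⁻¹ : (ZMod p)ˣ) : ZMod p)
    simp only [Equiv.neg_apply, inv_neg, Units.val_neg, map_neg, Finset.sum_neg_distrib] at h3
    exact (mul_eq_zero.1 (by linear_combination -h3)).resolve_left h2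
  have h2 : ∑ a : (ZMod p)ˣ, c ((a⁻¹ : (ZMod p)ˣ) : ZMod p) * ((a : ZMod p).val : k) = -1 := by
    have h3 : ∀ a : (ZMod p)ˣ, c ((a⁻¹ : (ZMod p)ˣ) : ZMod p) * ((a : ZMod p).val : k) = 1 := fun a => by
      rw [ZMod.natCast_val, ← ZMod.castHom_apply (h := dvd_refl p), ← map_mul, Units.inv_mul, map_one]
    simp only [h3, Finset.sum_const, Finset.card_univ, ZMod.card_units, nsmul_eq_mul, mul_one]
    rw [Nat.cast_sub (Fact.out : p.Prime).one_le, CharP.cast_eq_zero, Nat.cast_one, zero_sub]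
  refine ⟨∑ a : (ZMod p)ˣ, C (c ((a⁻¹ : (ZMod p)ˣ) : ZMod p)) * r (a : ZMod p).val, fun x => ?_⟩
  have h3 : ∑ a : (ZMod p)ˣ, C (c ((a⁻¹ : (ZMod p)ˣ) : ZMod p)) * X ^ (a : ZMod p).val =
      (X - 1) * (-1 + (X - 1) * ∑ a : (ZMod p)ˣ, C (c ((a⁻¹ : (ZMod p)ˣ) : ZMod p)) * r (a : ZMod p).val) := by
    have h4 := congrArg (C (R := k)) h1
    have h5 := congrArg (C (R := k)) h2
    simp only [map_sum, map_mul, map_zero, map_neg, map_one] at h4 h5
    rw [← h5, ← zero_add ((X - 1) * _), ← h4]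
    simp only [mul_add, Finset.mul_sum, ← Finset.sum_add_distrib]
    exact Finset.sum_congr rfl fun a _ => by rw [hr (a : ZMod p).val]; ring
  rw [← h3, DD, map_sum]
  exact Finset.sum_congr rfl fun a _ => by rw [map_mul, aeval_C, map_pow, aeval_X, Algebra.smul_def]

theorem op_unit (hp : p ≠ 2) {R : Type} [Ring R] [Algebra k R] {x : R} (hx : x ^ p = 1) :
    ∃ q q' : k[X], DD k p x = aeval x ((X - 1) * q) ∧ aeval x (q * q') = 1 := by
  obtain ⟨q, hq⟩ := op_exists (k := k) hp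
  refine ⟨_, -∑ i ∈ Finset.range p, ((X - 1) * q) ^ i, hq x, ?_⟩
  rw [show (-1 + (X - 1) * q) * -∑ i ∈ Finset.range p, ((X - 1) * q) ^ i = 1 - ((X - 1) * q) ^ p by
    linear_combination -mul_geom_sum ((X - 1) * q) p, mul_pow, sub_pow_char]
  simp [hx]


theorem exists_DD_eq (hp : p ≠ 2) {R : Type} [Ring R] [Algebra k R] (X : R) :
    ∃ q : k[X], DD k p X = (X - 1) * (-1 + (X - 1) * aeval X q) := by
  obtain ⟨q, hq⟩ := op_exists (k := k) hp
  exact ⟨q, by simp [hq X]⟩

theorem exists_DD_unit (hp : p ≠ 2) {R : Type} [Ring R] [Algebra k R] {X : R} (hX : X ^ p = 1) :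
    ∃ q q' : k[X], DD k p X = (X - 1) * aeval X q ∧ X - 1 = DD k p X * aeval X q' := by
  obtain ⟨q, q', h1, h2⟩ := op_unit (k := k) hp hX
  refine ⟨q, q', by simp [h1], ?_⟩
  rw [h1, ← map_mul, mul_assoc, map_mul, h2]
  simp

theorem op_pow (hp : p ≠ 2) {R : Type} [Ring R] [Algebra k R] {x : R} (hx : x ^ p = 1) (n : ℕ) :
    ∃ u u' : R, DD k p x ^ n = (x - 1) ^ n * u ∧ DD k p x ^ n = u * (x - 1) ^ n ∧
      (x - 1) ^ n = DD k p x ^ n * u' ∧ (x - 1) ^ n = u' * DD k p x ^ n := by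
  obtain ⟨q, q', h1, h2⟩ := op_unit (k := k) hp hx
  have h3 : x - 1 = aeval x (X - 1 : k[X]) := by simp
  have h4 : (aeval x (X - 1 : k[X])) ^ n = aeval x (((X - 1) * q) ^ n * q' ^ n) := by
    rw [← mul_pow, mul_assoc, map_pow, map_mul, h2, mul_one]
  refine ⟨aeval x (q ^ n), aeval x (q' ^ n), ?_, ?_, ?_, ?_⟩ <;> rw [h1, h3]
  · rw [← map_pow, ← map_pow, ← map_mul, mul_pow]
  · rw [← map_pow, ← map_pow, ← map_mul, mul_pow, mul_comm]
  · rw [h4, map_mul, map_pow]
  · rw [h4, mul_comm, map_mul, map_pow _ (_ * _)]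

theorem op_sub_pow {R : Type} [Ring R] [Algebra k R] {x : R} (hx : x ^ p = 1) : (x - 1) ^ p = 0 := by
  have h := congrArg (aeval x) (sub_pow_char (X : k[X]) 1 (p := p))
  simpa [hx] using h


variable {V : Type} [AddCommGroup V] [Module k V]

theorem range_DD_pow (hp : p ≠ 2) {X : End k V} (hX : X ^ p = 1) (n : ℕ) :
    LinearMap.range (DD k p X ^ n) = LinearMap.range ((X - 1) ^ n) := by
  obtain ⟨u, u', h1, -, h2, -⟩ := op_pow (k := k) hp hX n
  refine le_antisymm ?_ ?_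
  · rw [h1]; exact LinearMap.range_comp_le_range _ _
  · rw [h2]; exact LinearMap.range_comp_le_range _ _

theorem DD_pow_apply_eq_zero (hp : p ≠ 2) {X : End k V} (hX : X ^ p = 1) (n : ℕ) (v : V) :
    (DD k p X ^ n) v = 0 ↔ ((X - 1) ^ n) v = 0 := by
  obtain ⟨u, u', -, h1, -, h2⟩ := op_pow (k := k) hp hX n
  exact ⟨fun h => by rw [h2, End.mul_apply, h, map_zero], fun h => by rw [h1, End.mul_apply, h, map_zero]⟩

variable {w : AddChar (ZMod e) k} {ν : (ZMod p)ˣ} {A X : End k V}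

theorem natCast_ne_zero_of_inj (hw : Function.Injective w) : (e : k) ≠ 0 := by
  have h1 : ∀ n : ℕ, w 1 ^ n = w n := fun n => by rw [← AddChar.map_nsmul_eq_pow, nsmul_one]
  have h2 : IsPrimitiveRoot (w 1) e := ⟨by rw [h1, ZMod.natCast_self, AddChar.map_zero_eq_one], fun l hl =>
    (ZMod.natCast_eq_zero_iff l e).1 (hw (by rw [← h1, hl, AddChar.map_zero_eq_one]))⟩
  exact h2.neZero'.out

theorem op_sum (hw : Function.Injective w) (b : ZMod e) : ∑ j, w (j * b) = if b = 0 then (e : k) else 0 := by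
  rw [AddChar.sum_mulShift b fun a ha h => ha (hw (by
    simpa using congrArg (fun ψ : AddChar (ZMod e) k => ψ 1) h)), ZMod.card]
  split_ifs <;> simp

theorem op_val (hA : A ^ e = 1) (n : ℕ) : A ^ (n : ZMod e).val = A ^ n := by
  rw [ZMod.val_natCast, ← pow_eq_pow_mod n hA]

theorem op_mul_PP (hA : A ^ e = 1) (n : ℕ) (β : ZMod e) : A ^ n * PP w A β = w (β * n) • PP w A β := by
  rw [PP, mul_smul_comm, smul_comm (w _), Finset.mul_sum, Finset.smul_sum (r := w _),
    ← Equiv.sum_comp (Equiv.addLeft (n : ZMod e)) fun j => w (β * n) • w (-(β * j)) • A ^ j.val]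
  refine congrArg _ (Finset.sum_congr rfl fun j _ => ?_)
  rw [Equiv.coe_addLeft, mul_smul_comm, smul_smul, ← AddChar.map_add_eq_mul, ← pow_add, ← op_val hA, Nat.cast_add,
    ZMod.natCast_zmod_val]
  congr 2
  ring

theorem op_orth (hw : Function.Injective w) (hA : A ^ e = 1) (β γ : ZMod e) :
    PP w A β * PP w A γ = if β = γ then PP w A β else 0 := by
  nth_rewrite 1 [PP]
  rw [smul_mul_assoc, Finset.sum_mul]
  have h1 : ∀ j : ZMod e, w (-(β * j)) • A ^ j.val * PP w A γ = w (j * (γ - β)) • PP w A γ := fun j => by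
    rw [smul_mul_assoc, op_mul_PP hA, smul_smul, ← AddChar.map_add_eq_mul, ZMod.natCast_zmod_val]
    congr 2
    ring
  simp only [h1]
  rw [← Finset.sum_smul, op_sum hw, smul_smul]
  by_cases h : β = γ
  · rw [if_pos h, if_pos (by rw [h, sub_self]), inv_mul_cancel₀ (natCast_ne_zero_of_inj hw), one_smul, h]
  · rw [if_neg h, if_neg fun e => h (sub_eq_zero.1 e).symm, mul_zero, zero_smul]

theorem IsMd.op_mul_DD (h : IsMd w ν A X) : A * DD k p X = w 1 • (DD k p X * A) := by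
  have h1 : ∀ n : ℕ, A * X ^ n = X ^ ((ν : ZMod p).val * n) * A := fun n => by
    rw [pow_mul]; exact (SemiconjBy.pow_right h.comm n).eq
  rw [DD, Finset.mul_sum, Finset.sum_mul, Finset.smul_sum, ← Equiv.sum_comp (Equiv.mulLeft ν) fun a : (ZMod p)ˣ =>
    w 1 • (ZMod.castHom (dvd_refl p) k ((a⁻¹ : (ZMod p)ˣ) : ZMod p) • X ^ (a : ZMod p).val * A)]
  refine Finset.sum_congr rfl fun a _ => ?_
  rw [Equiv.coe_mulLeft, mul_smul_comm, smul_mul_assoc, smul_smul, h1, h.one, ← map_mul, ← Units.val_mul,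
    mul_inv, mul_inv_cancel_left, Units.val_mul, ZMod.val_mul, ← pow_eq_pow_mod _ h.powX]

theorem IsMd.op_pow_mul_DD (h : IsMd w ν A X) (n : ℕ) : A ^ n * DD k p X = w n • (DD k p X * A ^ n) := by
  induction n with
  | zero => simp
  | succ n ih =>
    rw [pow_succ', mul_assoc, ih, mul_smul_comm, ← mul_assoc, h.op_mul_DD, smul_mul_assoc, smul_smul,
      ← AddChar.map_add_eq_mul, Nat.cast_succ, mul_assoc]


theorem IsMd.isGr (h : IsMd w ν A X) (hp : p ≠ 2) : IsGr p (PP w A) (DD k p X) := by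
  refine ⟨?_, op_orth h.inj h.powA, fun β => ?_, ?_⟩
  · simp only [PP]
    rw [← Finset.smul_sum, Finset.sum_comm]
    have h1 : ∀ j : ZMod e, ∑ β, w (-(β * j)) • A ^ j.val = if j = 0 then (e : k) • (1 : End k V) else 0 :=
      fun j => by
        simp only [← mul_neg]
        rw [← Finset.sum_smul, op_sum h.inj]
        by_cases hj : j = 0 <;> simp [hj]
    simp only [h1, Finset.sum_ite_eq', Finset.mem_univ, if_true]
    rw [smul_smul, inv_mul_cancel₀ (natCast_ne_zero_of_inj h.inj), one_smul]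
  · simp only [PP]
    rw [smul_mul_assoc, mul_smul_comm, Finset.sum_mul, Finset.mul_sum]
    refine congrArg _ (Finset.sum_congr rfl fun j _ => ?_)
    rw [smul_mul_assoc, h.op_pow_mul_DD, mul_smul_comm, smul_smul, ← AddChar.map_add_eq_mul, ZMod.natCast_zmod_val]
    congr 2
    ring
  · obtain ⟨u, -, h1, -⟩ := op_pow (k := k) hp h.powX p
    rw [h1, op_sub_pow (k := k) h.powX, zero_mul]

theorem IsMd.PP_apply_eq_iff (h : IsMd w ν A X) (β : ZMod e) (v : V) :
    PP w A β v = v ↔ A v = w β • v := by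
  constructor
  · intro hv
    have h1 := congrArg (fun f : End k V => f v) (op_mul_PP (w := w) h.powA 1 β)
    simpa [hv] using h1
  · intro hv
    have h1 : ∀ n : ℕ, (A ^ n) v = w (β * n) • v := fun n => by
      induction n with
      | zero => simp
      | succ n ih =>
        rw [pow_succ', End.mul_apply, ih, map_smul, hv, smul_smul, ← AddChar.map_add_eq_mul, Nat.cast_succ,
          mul_add, mul_one]
    simp only [PP, LinearMap.smul_apply, LinearMap.sum_apply, h1, smul_smul, ← AddChar.map_add_eq_mul,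
      ZMod.natCast_zmod_val, neg_add_cancel, AddChar.map_zero_eq_one, one_smul, Finset.sum_const,
      Finset.card_univ, ZMod.card]
    rw [← Nat.cast_smul_eq_nsmul k, smul_smul, inv_mul_cancel₀ (natCast_ne_zero_of_inj h.inj), one_smul]

theorem IsMd.range_PP (h : IsMd w ν A X) (β : ZMod e) :
    LinearMap.range (PP w A β) = LinearMap.ker (w (-β) • A - 1) := by
  have h0 : w (-β) * w β = 1 := by rw [← AddChar.map_add_eq_mul, neg_add_cancel, AddChar.map_zero_eq_one]
  ext v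
  rw [LinearMap.mem_ker, LinearMap.sub_apply, LinearMap.smul_apply, End.one_apply, sub_eq_zero]
  constructor
  · rintro ⟨u, rfl⟩
    rw [(h.PP_apply_eq_iff β _).1 (by rw [← End.mul_apply, op_orth h.inj h.powA, if_pos rfl]), smul_smul, h0,
      one_smul]
  · intro hv
    refine ⟨v, (h.PP_apply_eq_iff β v).2 ?_⟩
    nth_rewrite 2 [← hv]
    rw [smul_smul, mul_comm, h0, one_smul]

variable {W : Type} [AddCommGroup W] [Module k W]

theorem op_comp_pow {A' : End k W} {f : V →ₗ[k] W} (hf : f ∘ₗ A = A' ∘ₗ f) (n : ℕ) (v : V) :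
    f ((A ^ n) v) = (A' ^ n) (f v) := by
  induction n with
  | zero => rfl
  | succ n ih => rw [pow_succ', pow_succ', End.mul_apply, End.mul_apply, ← ih]; exact LinearMap.congr_fun hf _


omit [Fact p.Prime] [CharP k p] in
theorem comp_PP {A' : End k W} {f : V →ₗ[k] W} (hf : f ∘ₗ A = A' ∘ₗ f) (β : ZMod e) :
    f ∘ₗ PP w A β = PP w A' β ∘ₗ f := by
  ext v
  simp only [PP, LinearMap.comp_apply, LinearMap.smul_apply, LinearMap.sum_apply, map_smul, map_sum,
    op_comp_pow hf]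

omit [NeZero e] in
theorem comp_DD {X' : End k W} {f : V →ₗ[k] W} (hf : f ∘ₗ X = X' ∘ₗ f) :
    f ∘ₗ DD k p X = DD k p X' ∘ₗ f := by
  ext v
  simp only [DD, LinearMap.comp_apply, LinearMap.smul_apply, LinearMap.sum_apply, map_smul, map_sum,
    op_comp_pow hf]

omit [NeZero e] in
theorem tr_mem_range {Y : End k V} {X' : End k W} (hX : X ^ p = 1) (hX' : X' ^ p = 1)
    (hY : Y * X = 1) (η : V →ₗ[k] W) {l : ℕ} {v : V} (hv : ((X - 1) ^ l) v = 0) :
    (∑ j ∈ Finset.range p, (X' ^ j) ∘ₗ η ∘ₗ (Y ^ j)) v ∈ LinearMap.range ((X' - 1) ^ (p - l)) := by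
  let L (a : End k W) : End k (V →ₗ[k] W) :=
    { toFun := fun g => a ∘ₗ g, map_add' := fun _ _ => by ext; simp, map_smul' := fun _ _ => by ext; simp }
  let R (a : End k V) : End k (V →ₗ[k] W) :=
    { toFun := fun g => g ∘ₗ a, map_add' := fun _ _ => by ext; simp, map_smul' := fun _ _ => by ext; simp }
  have hL : ∀ a n g, (L a ^ n) g = (a ^ n) ∘ₗ g := fun a n g => by
    induction n with
    | zero => rfl
    | succ n ih => rw [pow_succ', pow_succ', End.mul_apply, ih]; rfl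
  have hR : ∀ a n g, (R a ^ n) g = g ∘ₗ (a ^ n) := fun a n g => by
    induction n with
    | zero => rfl
    | succ n ih => rw [pow_succ', pow_succ, End.mul_apply, ih]; rfl
  have hL1 : L X' - 1 = L (X' - 1) := by ext; simp [L]
  have hR1 : R X - 1 = R (X - 1) := by ext; simp [R]
  have h0 : (p : End k (V →ₗ[k] W)) = 0 := by
    rw [← map_natCast (algebraMap k (End k (V →ₗ[k] W))), CharP.cast_eq_zero, map_zero]
  have key := congrArg (fun f : End k (V →ₗ[k] W) => f (η ∘ₗ (Y ^ (p - 1))) v)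
    (Cyc.geom_eq_sub_one h0 1 (a := L X') (b := R X) rfl)
  simp only [pow_one, hL1, hR1, LinearMap.sum_apply, End.mul_apply, hL, hR, LinearMap.comp_apply] at key
  have h1 : ∀ m : ℕ, Y ^ m * X ^ m = 1 := fun m => by
    induction m with
    | zero => simp
    | succ m ih => rw [pow_succ, pow_succ', mul_assoc, ← mul_assoc Y, hY, one_mul, ih]
  have h2 : ∀ j ∈ Finset.range p, (X' ^ j) (η ((Y ^ (p - 1)) ((X ^ (p - 1 - j)) v))) = (X' ^ j) (η ((Y ^ j) v)) :=
    fun j hj => by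
      rw [← End.mul_apply, show p - 1 = j + (p - 1 - j) by have := Finset.mem_range.1 hj; omega, pow_add,
        mul_assoc, add_tsub_cancel_left, h1, mul_one]
  simp only [LinearMap.sum_apply, LinearMap.comp_apply]
  rw [← Finset.sum_congr rfl h2, key]
  refine Submodule.sum_mem _ fun i hi => ?_
  rcases le_or_gt (p - l) i with h3 | h3
  · obtain ⟨m, rfl⟩ := Nat.exists_eq_add_of_le h3
    exact ⟨_, by rw [pow_add, End.mul_apply]⟩
  · obtain ⟨m, hm⟩ := Nat.exists_eq_add_of_le' (show l ≤ p - 1 - i by omega)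
    rw [hm, pow_add, End.mul_apply, hv]
    simp

end CfsgLib.LowD2
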