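import Cfsg.Agent.Lib.LowD2.B1a
import Cfsg.Agent.Lib.LowD2.Op

set_option autoImplicit false

namespace CfsgLib.LowD2

open Subgroup CfsgLib.DefectOne CfsgLib.LowDeg Module

variable {k : Type} [Field k] {p : ℕ}

section alg

variable {V : Type} [AddCommGroup V] [Module k V]

theorem b1b_sum (c : k) (n : ℕ) :
    30 * ∑ i ∈ Finset.range n, (i : k) * (c - i) * ((i - 1) * (c - i + 1)) =
      n * (n - 1) * ((2 * n - 1) * (3 * n ^ 2 - 3 * n - 1) - 15 * (c + 1) * n * (n - 1) +
        5 * (c ^ 2 + 3 * c + 1) * (2 * n - 1) - 15 * (c ^ 2 + c)) := by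
  induction n with
  | zero => simp
  | succ n ih => rw [Finset.sum_range_succ, mul_add, ih]; push_cast; ring

/-- the commutator with `T` -/
def b1bAd (T : End k V) : End k (End k V) := LinearMap.mulLeft k T + LinearMap.mulRight k (-T)

theorem b1bAd_apply (T a : End k V) : b1bAd T a = T * a - a * T := by
  simp [b1bAd, sub_eq_add_neg]

theorem b1bAd_mul (T : End k V) (n : ℕ) : ∀ (a b : ℕ) (u w : End k V), a + b ≤ n + 1 →
    (b1bAd T ^ a) u = 0 → (b1bAd T ^ b) w = 0 → (b1bAd T ^ n) (u * w) = 0 := by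
  induction n with
  | zero =>
    intro a b u w hab hu hw
    rcases a with _ | a
    · rw [show u = 0 from hu, zero_mul, map_zero]
    · obtain rfl : b = 0 := by omega
      rw [show w = 0 from hw, mul_zero, map_zero]
  | succ n ih =>
    intro a b u w hab hu hw
    rcases a with _ | a
    · rw [show u = 0 from hu, zero_mul, map_zero]
    rcases b with _ | b
    · rw [show w = 0 from hw, mul_zero, map_zero]
    have h1 : b1bAd T (u * w) = b1bAd T u * w + u * b1bAd T w := by
      simp only [b1bAd_apply]; noncomm_ring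
    rw [pow_succ, End.mul_apply, h1, map_add, ih a (b + 1) _ _ (by omega) hu hw,
      ih (a + 1) b _ _ (by omega) hu hw, add_zero]

theorem b1bAd_trace [FiniteDimensional k V] (T : End k V) (m : ℕ) : ∀ a u : End k V,
    (b1bAd T ^ m) u = 0 → LinearMap.trace k V ((b1bAd T ^ m) a * u) = 0 := by
  induction m with
  | zero => intro a u hu; rw [show u = 0 from hu, mul_zero, map_zero]
  | succ m ih =>
    intro a u hu
    have h1 := ih a (b1bAd T u) hu
    rw [pow_succ', End.mul_apply, b1bAd_apply, sub_mul, map_sub, mul_assoc,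
      LinearMap.trace_mul_comm, mul_assoc]
    rw [b1bAd_apply, mul_sub, map_sub] at h1
    rw [mul_assoc]
    linear_combination -h1

theorem b1b_trace_wt [FiniteDimensional k V] {H a : End k V} {m : k} (hm : m ≠ 0)
    (h : H * a - a * H = m • a) : LinearMap.trace k V a = 0 := by
  have := congrArg (LinearMap.trace k V) h
  rw [map_sub, LinearMap.trace_mul_comm, sub_self, map_smul, smul_eq_mul] at this
  exact (mul_eq_zero.1 this.symm).resolve_left hm

theorem b1b_wt_mul {H a b : End k V} {m n : k} (ha : H * a - a * H = m • a)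
    (hb : H * b - b * H = n • b) : H * (a * b) - a * b * H = (m + n) • (a * b) := by
  rw [add_smul, ← smul_mul_assoc, ← mul_smul_comm, ← ha, ← hb]
  noncomm_ring

theorem b1b_wt_pow {H a : End k V} (ha : H * a - a * H = (1 : k) • a) (j : ℕ) :
    H * a ^ j - a ^ j * H = (j : k) • a ^ j := by
  induction j with
  | zero => simp
  | succ j ih => rw [pow_succ, b1b_wt_mul ih ha]; push_cast; rfl

open Polynomial in
theorem b1b_trace_poly [CharP k p] [FiniteDimensional k V] {H T u : End k V} {r i : ℕ}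
    (hT : T ^ (r + 1) = 0) (hr : r < p) (h1 : H * T - T * H = (1 : k) • T)
    (h2 : H * u - u * H = (-(i : k)) • u) (q : k[X]) :
    LinearMap.trace k V (T ^ (i + 1) * aeval T q * u) = 0 := by
  rw [aeval_eq_sum_range, Finset.mul_sum, Finset.sum_mul, map_sum]
  refine Finset.sum_eq_zero fun s _ => ?_
  rw [mul_smul_comm, smul_mul_assoc, map_smul, ← pow_add]
  refine smul_eq_zero_of_right _ ?_
  rcases le_or_gt (r + 1) (i + 1 + s) with h | h
  · rw [pow_eq_zero_of_le h hT, zero_mul, map_zero]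
  · refine b1b_trace_wt ?_ (b1b_wt_mul (b1b_wt_pow h1 _) h2)
    have : ((i + 1 + s : ℕ) : k) + -(i : k) = ((1 + s : ℕ) : k) := by push_cast; ring
    rw [this, Ne, CharP.cast_eq_zero_iff k p]
    exact fun h' => (Nat.le_of_dvd (by omega) h').not_gt (by omega)

theorem b1b_lower [CharP k p] {T : End k V} {r : ℕ} {v : V} (b : Basis (Fin (r + 1)) k V)
    (hr : 2 ≤ r) (hrp : r + 3 < p) (hT : T ^ (r + 1) = 0) (hb : ∀ i, b i = (T ^ (i : ℕ)) v) :
    ∃ H Z : End k V, H * T - T * H = (1 : k) • T ∧ H * Z - Z * H = (-1 : k) • Z ∧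
      (b1bAd T ^ 3) Z = 0 ∧ LinearMap.trace k V (T * Z) ≠ 0 ∧
      LinearMap.trace k V (T * T * (Z * Z)) ≠ 0 := by
  have := Module.Finite.of_basis b
  have := Module.Free.of_basis b
  have hne : ∀ j : ℕ, 0 < j → j < p → (j : k) ≠ 0 := fun j h1 h2 h =>
    (Nat.le_of_dvd h1 ((CharP.cast_eq_zero_iff k p j).1 h)).not_gt h2
  let c : ℕ → k := fun i => i * ((r + 1 : ℕ) - i)
  let Z : End k V := b.constr k fun i => c i • (T ^ ((i : ℕ) - 1)) v
  let H : End k V := b.constr k fun i => ((i : ℕ) : k) • b i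
  have h3 : ∀ i : ℕ, Z ((T ^ i) v) = c i • (T ^ (i - 1)) v := by
    intro i
    rcases lt_trichotomy i (r + 1) with h | rfl | h
    · have := hb ⟨i, h⟩
      simp only at this
      rw [← this, Basis.constr_basis]
    · simp [hT, c]
    · simp [pow_eq_zero_of_le h.le hT, pow_eq_zero_of_le (n := i - 1) (by omega) hT]
  have h3' : ∀ i : ℕ, H ((T ^ i) v) = (i : k) • (T ^ i) v := by
    intro i
    rcases lt_or_ge i (r + 1) with h | h
    · have := hb ⟨i, h⟩
      simp only at this
      rw [← this, Basis.constr_basis]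
    · simp [pow_eq_zero_of_le h hT]
  have h4 : ∀ i : ℕ, T ((T ^ i) v) = (T ^ (i + 1)) v := fun i => by simp [pow_succ']
  have h5 : ∀ i : ℕ, T (Z ((T ^ i) v)) = c i • (T ^ i) v := by
    intro i
    rw [h3, map_smul]
    rcases i with _ | i
    · simp [c]
    · rw [h4, Nat.add_sub_cancel]
  have hHT : H * T - T * H = (1 : k) • T := b.ext fun i => by
    simp only [hb, LinearMap.sub_apply, LinearMap.smul_apply, End.mul_apply, map_smul, h4, h3']
    rw [← sub_smul]
    push_cast
    ring_nf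
  have htr : ∀ (a : End k V) (f : ℕ → k), (∀ i : ℕ, a ((T ^ i) v) = f i • (T ^ i) v) →
      LinearMap.trace k V a = ∑ i ∈ Finset.range (r + 1), f i := by
    intro a f ha
    rw [LinearMap.trace_eq_matrix_trace k b, Matrix.trace, ← Fin.sum_univ_eq_sum_range f]
    refine Finset.sum_congr rfl fun i _ => ?_
    rw [Matrix.diag_apply, LinearMap.toMatrix_apply, hb, ha, ← hb]
    simp
  refine ⟨H, Z, hHT, b.ext fun i => ?_, ?_, fun h => ?_, fun h => ?_⟩
  · simp only [hb, LinearMap.sub_apply, LinearMap.smul_apply, End.mul_apply, map_smul, h3, h3',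
      smul_smul]
    rw [← sub_smul]
    rcases (i : ℕ) with _ | i
    · simp [c]
    · rw [Nat.add_sub_cancel]
      push_cast
      ring_nf
  · have e1 : b1bAd T Z = (2 : k) • H - (r : k) • 1 := b.ext fun i => by
      have h6 : Z ((T ^ ((i : ℕ) + 1)) v) = c (i + 1) • (T ^ (i : ℕ)) v := h3 _
      simp only [hb, b1bAd_apply, LinearMap.sub_apply, LinearMap.smul_apply, End.mul_apply, h4, h5,
        h6, h3', End.one_apply, smul_smul, ← sub_smul]
      congr 1
      simp only [c]
      push_cast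
      ring
    have e2 : b1bAd T H = -T := by
      rw [b1bAd_apply, ← neg_sub, hHT, one_smul]
    have e3 : b1bAd T 1 = 0 := by simp [b1bAd_apply]
    have e4 : b1bAd T T = 0 := by simp [b1bAd_apply]
    simp only [pow_succ, pow_zero, one_mul, End.mul_apply, e1, map_sub, map_smul, e2, e3, map_neg,
      e4, smul_zero, neg_zero, sub_zero, map_zero]
  · rw [htr _ c h5] at h
    have h7 := sum_mul_sub ((r + 1 : ℕ) : k) (r + 1)
    rw [h] at h7
    refine mul_ne_zero (mul_ne_zero (hne (r + 1) (by omega) (by omega)) (hne r (by omega) (by omega)))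
      (hne (r + 2) (by omega) (by omega)) ?_
    push_cast at h7 ⊢
    linear_combination -h7
  · rw [htr _ (fun i => c i * (((i : k) - 1) * ((r + 1 : ℕ) - i + 1)))] at h
    · have h7 := b1b_sum ((r + 1 : ℕ) : k) (r + 1)
      rw [h] at h7
      obtain ⟨s, rfl⟩ := Nat.exists_eq_add_of_le' hr
      refine mul_ne_zero (mul_ne_zero (mul_ne_zero (mul_ne_zero (hne (s + 3) (by omega) (by omega))
        (hne (s + 2) (by omega) (by omega))) (hne (s + 4) (by omega) (by omega)))
        (hne (s + 1) (by omega) (by omega))) (hne (s + 5) (by omega) (by omega)) ?_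
      push_cast at h7 ⊢
      linear_combination -h7
    · intro i
      rw [End.mul_apply, End.mul_apply, End.mul_apply, h3, map_smul, map_smul, h5, map_smul,
        map_smul, h4]
      rcases i with _ | i
      · simp [c]
      · rw [Nat.add_sub_cancel, smul_smul]
        congr 1
        simp only [c]
        push_cast
        ring

theorem b1b_top {T : End k V} {r : ℕ} {v : V} (b : Basis (Fin (r + 1)) k V)
    (hT : T ^ (r + 1) = 0) (hb : ∀ i, b i = (T ^ (i : ℕ)) v) (a : End k V) :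
    ∃ c : k, (b1bAd T ^ (2 * r)) a = c • T ^ r := by
  have h1 : ∀ i : Fin (r + 1), i ≠ 0 → (T ^ r) (b i) = 0 := fun i hi => by
    rw [hb, ← End.mul_apply, ← pow_add, pow_eq_zero_of_le (by
      have : (i : ℕ) ≠ 0 := fun h => hi (Fin.ext h)
      omega) hT, LinearMap.zero_apply]
  have h2 : ∀ η : End k V, ∃ c : k, T ^ r * η * T ^ r = c • T ^ r := by
    intro η
    refine ⟨b.repr (η ((T ^ r) (b 0))) 0, b.ext fun i => ?_⟩
    by_cases hi : i = 0
    · rw [hi, End.mul_apply, End.mul_apply, LinearMap.smul_apply]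
      conv_lhs => rw [← b.sum_repr (η ((T ^ r) (b 0))), map_sum]
      rw [Finset.sum_eq_single 0, map_smul]
      · intro j _ hj
        rw [map_smul, h1 j hj, smul_zero]
      · simp
    · simp [h1 i hi]
  simp only [eq_comm (a := (_ : End k (End k V)) a)]
  rw [← Submodule.mem_span_singleton, b1bAd, (LinearMap.commute_mulLeft_right T (-T)).add_pow,
    LinearMap.sum_apply]
  refine Submodule.sum_mem _ fun i _ => ?_
  rw [End.mul_apply, End.mul_apply, LinearMap.pow_mulLeft, LinearMap.pow_mulRight,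
    LinearMap.mulLeft_apply, LinearMap.mulRight_apply]
  rcases lt_trichotomy i r with h | rfl | h
  · rw [neg_pow, pow_eq_zero_of_le (n := 2 * r - i) (by omega) hT]
    simp
  · rw [show 2 * i - i = i by omega, neg_pow, ← mul_assoc, ← mul_assoc, mul_assoc (T ^ i)]
    obtain ⟨c, hc⟩ := h2 (_ * (-1) ^ i)
    rw [hc]
    exact Submodule.smul_mem _ _ (Submodule.mem_span_singleton_self _)
  · rw [pow_eq_zero_of_le h hT]
    simp

end alg

variable [Fact p.Prime] [CharP k p] {G : Type*} [Group G] [Finite G] {x : G}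

theorem b1b_conj_DD (hs : Syl p x) {A : Type} [Ring A] [Algebra k A] (ρ : G →* A) {g : G}
    (hg : g ∈ NN x) :
    ρ g * DD k p (ρ x) * ρ g⁻¹ = ZMod.castHom (dvd_refl p) k (hs.nu g) • DD k p (ρ x) := by
  let u : (ZMod p)ˣ := hs.nuHom ⟨g, hg⟩
  have hu : hs.nu g = u := rfl
  rw [DD, Finset.mul_sum, Finset.sum_mul, Finset.smul_sum]
  refine Fintype.sum_equiv (Equiv.mulLeft u) _ _ fun a => ?_
  rw [mul_smul_comm, smul_mul_assoc, smul_smul, ← map_mul, Equiv.coe_mulLeft, hu, ← Units.val_mul,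
    mul_inv, mul_inv_cancel_left, ← map_pow, ← map_pow, ← map_mul, ← map_mul, ← conj_pow,
    conj_eq_pow hs hg, ← pow_mul, hu]
  congr 2
  refine hs.pow_eq_of_natCast_eq ?_
  simp

theorem exists_orth_hom' [IsAlgClosed k] (hs : Syl p x) (hK : hs.KK ≤ center G) {r : ℕ}
    (hr : 2 * r + 1 = p) (h5 : 5 ≤ r) {h0 : G} (hh : h0 ∈ NN x) {ν : (ZMod p)ˣ}
    (hν : hs.nu h0 = ν) (ho : orderOf ν = r) {V : Type} [AddCommGroup V] [Module k V]
    [FiniteDimensional k V] (ρ : Representation k G V) (hd : finrank k V = r + 1)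
    (h1 : (ρ x - 1) ^ (r + 1) = 0) (h2 : (ρ x - 1) ^ r ≠ 0) :
    ∃ φ : G →* OrthE.O (OrthE.qOdd k 1), φ x ≠ 1 := by
  obtain ⟨v, hv⟩ : ∃ v, ((ρ x - 1) ^ r) v ≠ 0 := by
    by_contra! h
    exact h2 (LinearMap.ext h)
  let b : Basis (Fin (r + 1)) k V := basisOfLinearIndependentOfCardEqFinrank (li_pow h1 hv)
    (by rw [hd, Fintype.card_fin])
  have hb : ∀ i, b i = ((ρ x - 1) ^ (i : ℕ)) v := fun i => by simp [b]
  obtain ⟨H, Z, hHT, hHZ, hZ3, htr1, htr2⟩ := b1b_lower (p := p) b (by omega) (by omega) h1 hb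
  have htop := b1b_top b h1 hb
  obtain ⟨q0, hq0⟩ := exists_DD_eq (k := k) (by omega : p ≠ 2) (ρ x)
  have hconj := fun g hg => b1b_conj_DD (k := k) hs ρ (g := g) hg
  set T := ρ x - 1 with hTdef
  have hX : ρ x = T + 1 := by simp [hTdef]
  set D := DD k p (ρ x) with hDdef
  obtain ⟨q, hq⟩ : ∃ q : Polynomial k, D = T * (-1 + T * Polynomial.aeval T q) :=
    ⟨q0.comp (Polynomial.X + 1), by
      rw [Polynomial.aeval_comp, map_add, Polynomial.aeval_X, map_one, ← hX]; exact hq0⟩
  have hcomm : Commute T (Polynomial.aeval T q) := by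
    nth_rw 1 [← Polynomial.aeval_X (R := k) T]
    exact (Commute.all Polynomial.X q).map _
  have hTu : Commute T (-1 + T * Polynomial.aeval T q) :=
    (Commute.neg_one_right T).add_right ((Commute.refl T).mul_right hcomm)
  have hTD : Commute T D := by rw [hq]; exact (Commute.refl T).mul_right hTu
  have hXc : ∀ u, Commute T u → Commute (ρ x) u := fun u hu => by
    rw [hX]; exact hu.add_left (Commute.one_left _)
  let σ := Representation.linHom ρ ρ
  have hσ : ∀ g a, σ g a = ρ g * a * ρ g⁻¹ := fun g a => rfl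
  have hσm : ∀ g a a', σ g (a * a') = σ g a * σ g a' := fun g a a' => by
    simp only [hσ, mul_assoc]
    rw [← mul_assoc (ρ g⁻¹), map_inv_mul_map, one_mul]
  have hS : σ x - 1 = b1bAd T * LinearMap.mulRight k (ρ x⁻¹) := by
    refine LinearMap.ext fun a => ?_
    rw [LinearMap.sub_apply, End.one_apply, hσ, End.mul_apply, b1bAd_apply,
      LinearMap.mulRight_apply, hTdef, sub_mul, mul_sub, mul_assoc a, map_inv_mul_map]
    simp [mul_assoc]
  have hSc : Commute (b1bAd T) (LinearMap.mulRight k (ρ x⁻¹)) := by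
    have h2 : Commute T (ρ x⁻¹) := (commute_inv ρ (hXc T (Commute.refl T))).symm
    refine LinearMap.ext fun a => ?_
    simp only [End.mul_apply, b1bAd_apply, LinearMap.mulRight_apply]
    simp only [sub_mul, mul_assoc, h2.eq]
  have hSp : ∀ (m : ℕ) a, ∃ a', ((σ x - 1) ^ m) a = (b1bAd T ^ m) a' := fun m a =>
    ⟨_, by rw [hS, hSc.mul_pow, End.mul_apply]⟩
  have hfix : ∀ u, Commute T u → (σ x - 1) u = 0 := fun u hu => by
    rw [LinearMap.sub_apply, End.one_apply, hσ, conj_eq_of_commute ρ (hXc u hu), sub_self]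
  have hrg : ∀ u, Commute T u → T * u ∈ LinearMap.range (σ x - 1) := fun u hu => by
    refine ⟨-H * u * ρ x, ?_⟩
    rw [hS, End.mul_apply, LinearMap.mulRight_apply, mul_assoc, map_mul_map_inv, mul_one,
      b1bAd_apply, mul_assoc, ← hu.eq, ← mul_assoc, ← mul_assoc, ← sub_mul, mul_neg, neg_mul,
      neg_sub_neg, hHT, one_smul]
  have hD3 : D ∉ LinearMap.range ((σ x - 1) ^ 3) := by
    rintro ⟨a, ha⟩
    obtain ⟨a', ha'⟩ := hSp 3 a
    have e1 := b1bAd_trace T 3 a' Z hZ3
    have e2 := b1b_trace_poly (p := p) (i := 1) h1 (by omega) hHT (by simpa using hHZ) q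
    have e3 : D * Z = T ^ (1 + 1) * Polynomial.aeval T q * Z - T * Z := by
      rw [hq]; noncomm_ring
    rw [← ha', ha, e3, map_sub, e2, zero_sub, neg_eq_zero] at e1
    exact htr1 e1
  have hD5 : D * D ∉ LinearMap.range ((σ x - 1) ^ 5) := by
    rintro ⟨a, ha⟩
    obtain ⟨a', ha'⟩ := hSp 5 a
    have e1 := b1bAd_trace T 5 a' (Z * Z) (b1bAd_mul T 5 3 3 Z Z le_rfl hZ3 hZ3)
    have e2 := b1b_trace_poly (p := p) (i := 2) h1 (by omega) hHT
      (by have := b1b_wt_mul hHZ hHZ; norm_num at this ⊢; exact this)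
      (Polynomial.X * q * q - q - q)
    have e3 : D * D = T ^ (2 + 1) * Polynomial.aeval T (Polynomial.X * q * q - q - q) + T * T := by
      have e4 : D = Polynomial.aeval T (Polynomial.X * (-1 + Polynomial.X * q)) := by
        simp [hq]
      have e5 : (Polynomial.X * (-1 + Polynomial.X * q)) * (Polynomial.X * (-1 + Polynomial.X * q)) =
          Polynomial.X ^ (2 + 1) * (Polynomial.X * q * q - q - q) + Polynomial.X * Polynomial.X := by
        ring
      rw [e4, ← map_mul, e5, map_add, map_mul, map_pow, map_mul, Polynomial.aeval_X]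
    rw [← ha', ha, e3, add_mul, map_add, e2, zero_add] at e1
    exact htr2 e1
  have hD0 : D ≠ 0 := fun h => hD3 (h ▸ Submodule.zero_mem _)
  have hDD0 : D * D ≠ 0 := fun h => hD5 (h ▸ Submodule.zero_mem _)
  have htop' : ∀ a, ∃ c : k, ((σ x - 1) ^ (p - 1)) a = c • T ^ r := fun a => by
    obtain ⟨a', ha'⟩ := hSp (p - 1) a
    rw [ha', show p - 1 = 2 * r by omega]
    exact htop a'
  set n : k := ZMod.castHom (dvd_refl p) k (ν : ZMod p) with hn
  have hnp : ∀ j : ℕ, n ^ j = 1 ↔ r ∣ j := fun j => by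
    rw [← ho, orderOf_dvd_iff_pow_eq_one, hn, ← map_pow, ← Units.val_pow_eq_pow_val,
      ← Units.val_eq_one, map_eq_one_iff _ (RingHom.injective _)]
  have hn1 : n - 1 ≠ 0 := sub_ne_zero.2 fun h =>
    (Nat.le_of_dvd one_pos ((hnp 1).1 (by rw [pow_one, h]))).not_gt (by omega)
  have hn2 : n * n - 1 ≠ 0 := sub_ne_zero.2 fun h =>
    (Nat.le_of_dvd two_pos ((hnp 2).1 (by rw [pow_two, h]))).not_gt (by omega)
  have hn0 : n ≠ 0 := (_root_.map_ne_zero _).2 ν.ne_zero
  have hA1 : σ h0 D = n • D := by rw [hσ, hconj h0 hh, hν]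
  have hA2 : σ h0 (D * D) = (n * n) • (D * D) := by
    rw [hσm, hA1, smul_mul_smul_comm]
  have hA3 : σ h0 (T ^ r) = T ^ r := by
    rw [hσ, conj_sub_one hs ρ hh r, pow_mul_geom h1, smul_mul_assoc, smul_mul_assoc, mul_assoc,
      map_mul_map_inv, mul_one, ← Nat.cast_smul_eq_nsmul k, Nat.cast_pow, hν]
    have : (((ν : ZMod p).val : ℕ) : k) = n := by simp [hn]
    rw [this, (hnp r).2 dvd_rfl, one_smul]
  have hap : ∀ {τ : End k (End k V)}, (∀ g, Commute (σ g) τ) → ∀ a, σ h0 (τ a) = τ (σ h0 a) :=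
    fun hτ a => by rw [← End.mul_apply, (hτ h0).eq, End.mul_apply]
  obtain ⟨τ, t1, t2, u, t3⟩ := exists_tau' hs σ hD0 (hfix D hTD)
    fun g hg => ⟨_, by rw [hσ, hconj g hg]⟩
  have t2' : ∀ a, (σ x - 1) a = 0 → ∃ c c' : k, τ a = c • D + c' • T ^ r := fun a ha => by
    obtain ⟨c, u, h⟩ := t2 a ha
    obtain ⟨c', h'⟩ := htop' u
    exact ⟨c, c', by rw [h, h']⟩
  have t4 : τ D = D := by
    obtain ⟨c', h'⟩ := htop' u
    rw [h'] at t3
    have e1 := hap t1 D
    rw [hA1, map_smul, t3, map_add, map_smul, hA1, hA3] at e1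
    have e2 : (n - 1) • c' • T ^ r = 0 := by linear_combination (norm := module) -e1
    rw [t3, (smul_eq_zero.1 e2).resolve_left hn1, add_zero]
  obtain ⟨α, l, t5⟩ := t2' (T ^ r) (hfix _ ((Commute.refl T).pow_right r))
  replace t5 : τ (T ^ r) = l • T ^ r := by
    have e1 := hap t1 (T ^ r)
    rw [hA3, t5, map_add, map_smul, map_smul, hA1, hA3] at e1
    have e2 : (n - 1) • α • D = 0 := by linear_combination (norm := module) e1
    rw [t5, (smul_eq_zero.1 e2).resolve_left hn1, zero_add]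
  by_cases hl : l = 0
  · refine hom_of_tau hs hK σ (τ := τ * τ) (E := D) (fun g => (t1 g).mul_right (t1 g))
      (fun a ha => ?_) one_ne_zero (by rw [End.mul_apply, t4, t4, one_smul]) ?_
      (by omega : 2 * 3 ≤ p) hD3
    · obtain ⟨c, c', h⟩ := t2' a ha
      exact ⟨c, by rw [End.mul_apply, h, map_add, map_smul, map_smul, t4, t5, hl]; simp⟩
    · rw [hq]; exact hrg _ hTu
  have hfix2 := hfix _ (hTD.mul_right hTD)
  have t6 : τ (D * D) = 0 := by
    obtain ⟨c, c', h⟩ := t2' _ hfix2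
    have e1 := hap t1 (D * D)
    rw [hA2, map_smul, h, map_add, map_smul, map_smul, hA1, hA3] at e1
    have e2 := congrArg (σ h0) e1
    simp only [map_add, map_smul, hA1, hA3] at e2
    have e3 : ((n * (n - 1)) * (n * n - 1)) • (c • D + c' • T ^ r) = 0 := by
      linear_combination (norm := module) (n + 1 - n * n) • e1 - e2
    rw [h]
    exact (smul_eq_zero.1 e3).resolve_left (mul_ne_zero (mul_ne_zero hn0 hn1) hn2)
  obtain ⟨τ', s1, s2, u', s3⟩ := exists_tau' hs σ hDD0 hfix2
    fun g hg => ⟨_, by rw [hσm, hσ, hconj g hg, smul_mul_smul_comm]⟩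
  have e1 : ∀ c c' : k, (1 - l⁻¹ • τ) (c • (D * D) + c' • T ^ r) = c • (D * D) := fun c c' => by
    simp only [LinearMap.sub_apply, End.one_apply, LinearMap.smul_apply, map_add, map_smul, t5, t6,
      smul_smul, inv_mul_cancel₀ hl]
    simp
  refine hom_of_tau hs hK σ (τ := (1 - l⁻¹ • τ) * τ') (E := D * D)
    (fun g => ((Commute.one_right _).sub_right ((t1 g).smul_right _)).mul_right (s1 g))
    (fun a ha => ?_) one_ne_zero ?_ ?_ (by omega : 2 * 5 ≤ p) hD5
  · obtain ⟨c, u, h⟩ := s2 a ha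
    obtain ⟨c', h'⟩ := htop' u
    exact ⟨c, by rw [End.mul_apply, h, h', e1]⟩
  · obtain ⟨c', h'⟩ := htop' u'
    rw [End.mul_apply, s3, h', ← e1 1 c', one_smul]
  · nth_rw 1 [hq]
    rw [mul_assoc]
    exact hrg _ (hTu.mul_right hTD)

end CfsgLib.LowD2
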