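import Cfsg.Agent.Lib.LowD2.B2
import Cfsg.Agent.Lib.LowD2.B1b
import Cfsg.Agent.Lib.LowD2.Half2

/-!
Faithful irreducible characters of degree less than `p - 1`.
-/

set_option autoImplicit false

namespace CfsgLib.LowD2

open Cfsg CfsgLib.Char CfsgLib.PF CfsgLib.BG CfsgLib.DefectOne CfsgLib.DefectOne.B43
  CfsgLib.LowDeg Module Subgroup
open scoped MatrixGroups

variable {G : Type*} [Group G] [Finite G] {p : ℕ} [Fact p.Prime] {x : G} {χ : G → ℂ} {d : ℕ}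

theorem BSet.exists_hom {e : ℕ} [NeZero e] {B : ValuationSubring ℂ} [CharP (kk B) p] {hs : Syl p x}
    {h0 : G} {ν : (ZMod p)ˣ} {w : AddChar (ZMod e) B} {ω : AddChar (ZMod p) ℂ} {θ : G → ℂ} {κ : Bˣ}
    (hS : BSet hs 2 h0 ν w) (hθ : LinD x h0 e θ κ) (hω : ω.IsPrimitive) {D : GenData hs ω ⊤ θ}
    {a0 : ZMod e} (hZ : Zeta D 2 h0 w κ d a0) (h5 : 5 ≤ e) :
    ∃ φ : G →* OrthE.O (OrthE.qOdd (kk B) 1), φ x ≠ 1 := by
  obtain ⟨n, T, hT, ⟨S⟩⟩ := hZ.lat 1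
  have h1 := hS.pt
  obtain rfl : d = e + 1 := by have := hZ.deg; omega
  have h2 := (hS.isMd hθ (hT ▸ hS.over_Y hθ hω D 1)).powX
  refine exists_orth_hom' hs hS.cent.le h1.symm h5 hS.mem hS.nu hS.ord (rep (rs B) T)
    (by rw [finrank_eq_card_basis S.b, Fintype.card_fin]) (S.b.ext fun i => ?_) fun h => ?_
  · rw [LinearMap.zero_apply, ← DD_pow_apply_eq_zero (by omega) h2, S.bas, ← End.mul_apply,
      ← pow_add, add_comm, pow_add, End.mul_apply, S.kill, map_zero]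
  · refine S.b.ne_zero (Fin.last e) ?_
    rw [S.bas, DD_pow_apply_eq_zero (by omega) h2, Fin.val_last, h, LinearMap.zero_apply]

theorem main (hs : Syl p x) (hp : 7 < p) (hnn : ¬ (zpowers x).Normal) (hχ : IsIrr ⊤ χ)
    (hd : χ 1 = d) (hdp : d + 2 ≤ p) (hf : ∀ g, χ g = χ 1 → g = 1) :
    (Nonempty (G ⧸ center G ≃* PSL(2, ZMod p)) ∧ (2 * d = p + 1 ∨ 2 * d = p - 1) ∧
      2 * ee x + 1 = p) ∨ (d + ee x = p ∧ (∃ t, p = t * ee x + 1 ∧ ee x + 3 ≤ t) ∧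
      (Odd (Nat.card (center G)) → ee x ≤ 2)) := by
  have hχ' := isChar_top.1 hχ.isChar
  by_cases hB : d + ee x = p
  swap
  · have h1 := caseA hs hnn hχ hd hdp hf hB
    have h2 := (bound hs hnn hχ' hd h1.le hf).2.1
    exact Or.inl ⟨l2p hs hnn hχ' hd h1.le hf, by omega, by omega⟩
  obtain ⟨ω, hω⟩ := exists_prim p
  have hp11 : 11 ≤ p := by
    by_contra h
    have := hs.prime
    interval_cases p <;> norm_num at this
  have key : ∀ ψ, IsIrr ⊤ ψ → ψ 1 = d → ψ x ≠ ψ 1 → ∃ (θ : G → ℂ) (a : (ZMod p)ˣ)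
      (D : GenData hs ω ⊤ θ), Tr x θ ∧ D.Y a = ψ ∧ 2 * ee x < p ∧ θ 1 = 1 ∧ D.ε = -1 ∧
      ∀ y ∈ hs.KK, ψ y = d * θ y := fun ψ hψ h1 h2 => by
    obtain ⟨θ, a, D, hθ, h3, h4, h5 | ⟨h5, h6, -, h7, h8⟩⟩ := small hs hω hψ h1 hdp h2
    · obtain ⟨t, -, ht⟩ := hθ.1.one_pos
      have h6 := h5 1 (one_mem _)
      rw [h1, Ind_apply_one (CC_le_NN x), hs.lt_one, ht] at h6
      have h7 : ee x ∣ d := ⟨t, by exact_mod_cast h6⟩
      have h8 := Nat.dvd_sub (hB ▸ dvd_add h7 dvd_rfl) (ee_dvd hs)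
      rw [show p - (p - 1) = 1 by omega, Nat.dvd_one] at h8
      omega
    · have h9 := hs.card_EE_mul hθ
      rw [h6, Finset.card_singleton, mul_one] at h9
      exact ⟨θ, a, D, hθ, h3, by rwa [h9] at h4, h5, h7, h8⟩
  obtain ⟨θ, a, D, hθ, rfl, h2, h3, h4, h5⟩ := key χ hχ hd fun h => hs.ne_one (hf x h)
  have hK : hs.KK = center G := by
    refine le_antisymm (fun y hy => mem_center_of_norm hχ.isChar hf ?_)
      (center_le_KK hs (by omega))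
    rw [h5 y hy, norm_mul, IsLin.norm_eq ⟨hθ.1, h3⟩ hy.1, mul_one, hd]
  obtain ⟨B, hB'⟩ := ZStar.exists_valuation p hs.prime
  have := charP_kk hs.prime hB'
  have : NeZero (ee x) := ⟨by omega⟩
  obtain ⟨t, h0, ν, w, hS⟩ := exists_bset hs B rfl (by omega) h2 hK
  obtain ⟨κ, hκ⟩ := hS.exists_linD hθ h3
  obtain ⟨a0, hZ⟩ := hS.exists_zeta hκ hω D h4 hB hd
  have hpt := hS.pt
  rcases hS.two.eq_or_lt with rfl | ht
  · obtain ⟨φ, hφ⟩ := hS.exists_hom hκ hω hZ (by omega)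
    exact Or.inl ⟨psl_of_hom hs hnn hχ' hd hdp hf hB h2 hK.le φ hφ, by omega, by omega⟩
  refine Or.inr ⟨hB, ⟨t, hpt, ?_⟩, fun hodd => ?_⟩
  · rcases hS.e2.eq_or_lt with h | he
    · rw [← h] at hpt ⊢; omega
    obtain ⟨D'⟩ := hs.nonempty_genData hω le_top hκ.sq.tr
    rcases D'.ε_sign with h | h
    · have := Sing_normal (G := G) (p := p)
      have h6 := Sing_eq_top hs (le_ee_normal hs hnn hχ' hd hdp hf hB h2 (self_mem_Sing hs))
      exact hS.pos_le hκ hω hZ D' h ht fun H hH => eq_top_iff.2 (h6 ▸ (closure_le _).2 hH)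
    · exact (hS.neg_false hκ hω hZ D' h ht he).elim
  by_contra he
  obtain ⟨m, hm, -, hm2⟩ := exists_pow_two_odd G
  have hxo : Odd (orderOf x) := hs.ord ▸ hs.prime.odd_of_ne_two (by omega)
  obtain ⟨θ', a', D', hθ', h6, -, -, h7, h8⟩ := key (fun g => D.Y a (g ^ m))
    (isIrr_top.2 (isIrr_pow_of_coprime (isIrr_top.1 hχ) hm)) (by rw [one_pow, hd]) fun h => by
      simp only [one_pow, hm2 x hxo] at h
      have := Nat.le_of_dvd two_pos (hs.ord ▸ orderOf_dvd_of_pow_eq_one (hf _ h))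
      omega
  obtain rfl : θ' = θ * θ := by
    have hd0 : (d : ℂ) ≠ 0 := Nat.cast_ne_zero.2 (by omega)
    ext c
    by_cases hc : c ∈ CC x
    · obtain ⟨i, y, hy, rfl⟩ := hs.exists_pow_mul hc
      have h9 := h8 y hy
      rw [hm2 y (hodd.of_dvd_nat (orderOf_dvd_natCard _ (hK ▸ hy))), h5 _ (pow_mem hy 2),
        IsLin.map_pow ⟨hθ.1, h3⟩ hy.1] at h9
      rw [Pi.mul_apply, hθ.pow_mul, hθ'.pow_mul, ← mul_left_cancel₀ hd0 h9, sq]
    · rw [Pi.mul_apply, hθ.1.mem_CF.1 c hc, hθ'.1.mem_CF.1 c hc, mul_zero]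
  exact hS.neg_false hκ hω hZ D' h7 ht (by omega)

end CfsgLib.LowD2
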