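import Cfsg.Agent.Lib.LowDeg.Green2

/-!
Green transfer of the projection onto an eigenvector fixed by `x`, and the passage from such an
endomorphism to a three-dimensional orthogonal representation.
-/

set_option autoImplicit false

namespace CfsgLib.LowD2

open Subgroup CfsgLib.DefectOne CfsgLib.LowDeg Module

variable {k : Type} [Field k] {p : ℕ} [CharP k p] {G : Type*} [Group G] [Finite G] {x : G}
  {W : Type} [AddCommGroup W] [Module k W]

omit [Finite G] in
theorem b1a_pow_p (hs : Syl p x) (σ : Representation k G W) : (σ x - 1) ^ p = 0 := by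
  have := Fact.mk hs.prime
  rcases subsingleton_or_nontrivial (End k W) with h | h
  · exact Subsingleton.elim _ _
  · have : CharP (End k W) p := charP_of_injective_algebraMap (algebraMap k _).injective p
    rw [sub_pow_char_of_commute _ (Commute.one_right _), ← map_pow, ← hs.ord, pow_orderOf_eq_one,
      map_one, one_pow, sub_self]

omit [CharP k p] in
theorem b1a_ker (hs : Syl p x) (σ : Representation k G W) {g : G} (hg : g ∈ NN x) {w : W}
    (hw : (σ x - 1) w = 0) : (σ x - 1) (σ g⁻¹ w) = 0 := by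
  have h8 : ∀ j : ℕ, σ (x ^ j) w = w := by
    intro j
    induction j with
    | zero => simp
    | succ j ih => rw [pow_succ, map_mul, End.mul_apply, sub_eq_zero.1 hw]; exact ih
  rw [LinearMap.sub_apply, sub_eq_zero, End.one_apply]
  nth_rw 2 [← h8 (hs.nu g).val]
  rw [← conj_eq_pow hs hg, ← End.mul_apply, ← End.mul_apply, ← map_mul, ← map_mul]
  congr 2
  group

theorem exists_tau' (hs : Syl p x) (σ : Representation k G W) {E : W} (hE0 : E ≠ 0)
    (hfix : (σ x - 1) E = 0) (hE : ∀ g ∈ NN x, ∃ c : k, σ g E = c • E) :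
    ∃ τ : End k W, (∀ g, Commute (σ g) τ) ∧
      (∀ v, (σ x - 1) v = 0 → ∃ (c : k) (u : W), τ v = c • E + ((σ x - 1) ^ (p - 1)) u) ∧
      ∃ u, τ E = E + ((σ x - 1) ^ (p - 1)) u := by
  classical
  obtain ⟨H, hH⟩ := exists_cpl hs
  have := Fintype.ofFinite H
  have hp := b1a_pow_p hs σ
  have hker := fun {g : G} (hg : g ∈ NN x) {w : W} => b1a_ker hs σ hg (w := w)
  set S := σ x - 1 with hS
  have hex : ∃ j, E ∉ LinearMap.range (S ^ j) := ⟨p, by rw [hp]; simpa using hE0⟩
  obtain ⟨h, hh⟩ : ∃ h, Nat.find hex = h + 1 := ⟨Nat.find hex - 1, by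
    have : Nat.find hex ≠ 0 := fun e => by
      have := Nat.find_spec hex
      rw [e, pow_zero] at this
      exact this ⟨E, rfl⟩
    omega⟩
  have h1 := Nat.find_spec hex
  rw [hh] at h1
  obtain ⟨u, hu⟩ : E ∈ LinearMap.range (S ^ h) := not_not.1 (Nat.find_min hex (by omega))
  obtain ⟨f, hf1, hf2⟩ : ∃ f : W →ₗ[k] k, f E = 1 ∧ ∀ w, f ((S ^ (h + 1)) w) = 0 := by
    obtain ⟨f, hf1, hf2⟩ := Submodule.exists_dual_map_eq_bot_of_notMem h1 inferInstance
    refine ⟨(f E)⁻¹ • f, by simp [hf1], fun w => ?_⟩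
    have : f ((S ^ (h + 1)) w) = 0 := by
      rw [← Submodule.mem_bot k, ← hf2]
      exact Submodule.mem_map_of_mem ⟨w, rfl⟩
    rw [LinearMap.smul_apply, this, smul_zero]
  have hl : S ^ (h + 1) * f.smulRight u = 0 := by
    ext w
    rw [End.mul_apply, LinearMap.smulRight_apply, map_smul, pow_succ', End.mul_apply, hu, hfix,
      smul_zero, LinearMap.zero_apply]
  have hr : f.smulRight u * S ^ (h + 1) = 0 := by
    ext w
    rw [End.mul_apply, LinearMap.smulRight_apply, hf2, zero_smul, LinearMap.zero_apply]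
  let π : End k W := ∑ i ∈ Finset.range (h + 1), S ^ i * f.smulRight u * S ^ (h - i)
  have h2 : Commute S π := by
    rw [Commute, SemiconjBy, Finset.mul_sum, Finset.sum_mul, Finset.sum_range_succ,
      Finset.sum_range_succ', ← mul_assoc, ← mul_assoc, ← pow_succ', hl, mul_assoc _ _ S,
      ← pow_succ, Nat.sub_zero, mul_assoc (S ^ 0), hr]
    simp only [zero_mul, mul_zero, add_zero]
    refine Finset.sum_congr rfl fun i hi => ?_
    rw [← mul_assoc, ← mul_assoc, ← pow_succ', mul_assoc _ _ S, ← pow_succ]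
    congr 2
    have := Finset.mem_range.1 hi
    omega
  have h3 : Commute (σ x) π := by
    have : σ x = S + 1 := by simp [hS]
    rw [this]
    exact h2.add_left (Commute.one_left _)
  have h4 : ∀ w, S w = 0 → π w = f w • E := by
    intro w hw
    simp only [π, LinearMap.sum_apply, End.mul_apply, LinearMap.smulRight_apply]
    rw [Finset.sum_range_succ, Finset.sum_eq_zero, Nat.sub_self, pow_zero, End.one_apply,
      map_smul, hu, zero_add]
    intro i hi
    obtain ⟨j, hj⟩ : ∃ j, h - i = j + 1 := ⟨h - i - 1, by have := Finset.mem_range.1 hi; omega⟩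
    rw [hj, pow_succ, End.mul_apply, hw]
    simp
  obtain ⟨τ, η, h5, h6⟩ := transfer hH hs (A := End k W)
    (by rw [← map_natCast (algebraMap k _), CharP.cast_eq_zero, map_zero]) σ h3
  rw [tr_def] at h6
  have h7 : ∀ w, S w = 0 → τ w = ∑ g : H, σ g (π (σ (g : G)⁻¹ w)) + (S ^ (p - 1)) (η w) := by
    intro w hw
    have hp1 := hs.prime.pos
    rw [h6, LinearMap.add_apply, LinearMap.sum_apply, LinearMap.sum_apply,
      Finset.sum_eq_single (s := Finset.range p) (p - 1)]
    · rw [Nat.sub_self, pow_zero, mul_one]; rfl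
    · intro i hi hi'
      obtain ⟨j, hj⟩ : ∃ j, p - 1 - i = j + 1 :=
        ⟨p - 1 - i - 1, by have := Finset.mem_range.1 hi; omega⟩
      simp only [hj, pow_succ, End.mul_apply, ← hS, hw, map_zero]
    · intro hi
      exact absurd (Finset.mem_range.2 (by omega)) hi
  have hc : (Nat.card H : k) ≠ 0 := fun h => hH.nd ((CharP.cast_eq_zero_iff k p _).1 h)
  refine ⟨(Nat.card H : k)⁻¹ • τ, fun g => (h5 g).smul_right _, fun w hw => ?_,
    (Nat.card H : k)⁻¹ • η E, ?_⟩
  · have h8 : ∑ g : H, σ g (π (σ (g : G)⁻¹ w)) ∈ Submodule.span k {E} := by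
      refine Submodule.sum_mem _ fun g _ => ?_
      obtain ⟨c, hc⟩ := hE g (hH.le g.2)
      rw [h4 _ (hker (hH.le g.2) hw), map_smul, hc]
      exact Submodule.smul_mem _ _ (Submodule.smul_mem _ _ (Submodule.mem_span_singleton_self E))
    obtain ⟨c, hc⟩ := Submodule.mem_span_singleton.1 h8
    refine ⟨(Nat.card H : k)⁻¹ * c, (Nat.card H : k)⁻¹ • η w, ?_⟩
    rw [LinearMap.smul_apply, h7 w hw, ← hc, smul_add, smul_smul, map_smul]
  · have h8 : ∀ g : H, σ g (π (σ (g : G)⁻¹ E)) = E := by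
      intro g
      obtain ⟨c, hc⟩ := hE _ (inv_mem (hH.le g.2))
      rw [hc, map_smul, h4 E hfix, hf1, one_smul, ← hc, ← End.mul_apply, map_mul_map_inv,
        End.one_apply]
    rw [LinearMap.smul_apply, h7 E hfix]
    simp only [h8, Finset.sum_const, Finset.card_univ]
    rw [← Nat.cast_smul_eq_nsmul k, ← Nat.card_eq_fintype_card, smul_add, smul_smul,
      inv_mul_cancel₀ hc, one_smul, map_smul]

theorem hom_of_tau [IsAlgClosed k] [FiniteDimensional k W] (hs : Syl p x) (hK : hs.KK ≤ center G)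
    (σ : Representation k G W) {τ : End k W} (h1 : ∀ g, Commute (σ g) τ) {E : W}
    (h2 : ∀ v, (σ x - 1) v = 0 → ∃ c : k, τ v = c • E) {c : k} (hc : c ≠ 0) (h3 : τ E = c • E)
    (h4 : E ∈ LinearMap.range (σ x - 1)) {m : ℕ} (hm : 2 * m ≤ p)
    (h5 : E ∉ LinearMap.range ((σ x - 1) ^ m)) :
    ∃ φ : G →* OrthE.O (OrthE.qOdd k 1), φ x ≠ 1 := by
  classical
  obtain ⟨H, hH⟩ := exists_cpl hs
  obtain ⟨n, hn⟩ := Filter.eventually_atTop.1 τ.eventually_disjoint_ker_pow_range_pow
  replace hn := hn (n + 1) (by omega)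
  have hp := b1a_pow_p hs σ
  have hE0 : E ≠ 0 := fun e => h5 (e ▸ Submodule.zero_mem _)
  have hinv : ∀ g, LinearMap.range (τ ^ (n + 1)) ≤ (LinearMap.range (τ ^ (n + 1))).comap (σ g) := by
    rintro g _ ⟨w, rfl⟩
    exact ⟨σ g w, by rw [← End.mul_apply, ← ((h1 g).pow_right (n + 1)).eq]; rfl⟩
  have hpow : ∀ (j : ℕ) (w : LinearMap.range (τ ^ (n + 1))),
      (((σ.subrepresentation _ hinv x - 1) ^ j) w : W) = ((σ x - 1) ^ j) w := by
    intro j
    induction j with
    | zero => simp
    | succ j ih' =>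
      intro w; rw [pow_succ _ j, pow_succ _ j, Module.End.mul_apply, ih']; rfl
  have hcm : Commute (σ x - 1) τ := (h1 x).sub_left (Commute.one_left τ)
  have h6 : ∀ j : ℕ, (τ ^ j) E = c ^ j • E := fun j => by
    induction j with
    | zero => simp
    | succ j ih => rw [pow_succ, End.mul_apply, h3, map_smul, ih, smul_smul, pow_succ']
  have h7 : (σ.subrepresentation _ hinv x - 1) ^ m = 0 := by
    ext u
    rw [hpow, LinearMap.zero_apply, Submodule.coe_zero]
    by_contra hu
    set S := σ x - 1 with hS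
    have hex : ∃ j, (S ^ j) ((S ^ m) u) = 0 := ⟨p, by rw [hp]; rfl⟩
    obtain ⟨h, hh⟩ : ∃ h, Nat.find hex = h + 1 := ⟨Nat.find hex - 1, by
      have : Nat.find hex ≠ 0 := fun e => by
        have := Nat.find_spec hex
        rw [e, pow_zero] at this
        exact hu this
      omega⟩
    have h8 := Nat.find_spec hex
    have h9 := Nat.find_min hex (m := h) (by omega)
    rw [hh, pow_succ', End.mul_apply] at h8
    obtain ⟨d, hd⟩ := h2 _ h8
    have h10 : d ≠ 0 := by
      rintro rfl
      refine h9 (Submodule.disjoint_def.1 hn _ ?_ ?_)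
      · have e : ∀ w, (τ ^ (n + 1)) w = (τ ^ n) (τ w) := fun w => by rw [pow_succ]; rfl
        rw [LinearMap.mem_ker, e, hd, zero_smul, map_zero]
      · rw [← End.mul_apply, ← pow_add, ← hpow]
        exact Submodule.coe_mem _
    refine h5 ⟨d⁻¹ • τ ((S ^ h) u), ?_⟩
    rw [map_smul, ← End.mul_apply, (hcm.pow_left m).eq, End.mul_apply, ← End.mul_apply (S ^ m),
      ← pow_add, add_comm, pow_add, End.mul_apply, hd, smul_smul, inv_mul_cancel₀ h10, one_smul]
  have h8 : σ.subrepresentation _ hinv x ≠ 1 := by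
    intro e
    obtain ⟨y, hy⟩ := h4
    have h9 := hpow 1 ⟨_, y, rfl⟩
    rw [e, sub_self, pow_one, pow_one] at h9
    have h10 : (σ x - 1) ((τ ^ (n + 1)) y) = 0 := h9.symm
    rw [← End.mul_apply, (hcm.pow_right (n + 1)).eq, End.mul_apply, hy, h6] at h10
    exact smul_ne_zero (pow_ne_zero _ hc) hE0 h10
  obtain ⟨V', _, _, ρ', r, v, b, h9, h10, h11, h12⟩ :=
    single_block hH hs (hH.comm hs hK) hm _ _ (σ.subrepresentation _ hinv) rfl h7 h8
  exact exists_hom_of_block hH hs ρ' b h9 (by omega) h11 h12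

end CfsgLib.LowD2
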