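import Cfsg.Agent.Lib.LowD2.TenA

set_option autoImplicit false

namespace CfsgLib.LowD2

open Module

theorem tenb_le_card {d m r g : ℕ} (h1 : r + g ≤ d) (h2 : r + g ≤ m + 1) (h3 : m < r + d) :
    g ≤ (Finset.univ.filter fun q : Fin d × Fin d => q.1 + q.2 = m).card := by
  have := Finset.card_le_card_of_injOn (s := (Finset.univ : Finset (Fin g)))
    (t := Finset.univ.filter fun q : Fin d × Fin d => q.1 + q.2 = m)
    (fun j => (⟨r + j, by omega⟩, ⟨m - (r + j), by omega⟩)) (fun j _ => by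
      have := j.2
      simp only [Finset.coe_filter, Finset.mem_univ, true_and, Set.mem_ofPred_eq]
      omega) fun a _ b _ e => by
      have := congrArg (fun q : Fin d × Fin d => q.1.1) e
      exact Fin.ext (by simpa using this)
  simpa using this

theorem tenb_tri {α : Type} (S : Finset α) (q : ℕ) (φ : α → ℕ × ℕ) (h1 : ∀ x ∈ S, (φ x).1 + (φ x).2 < q)
    (h2 : Function.Injective φ) : 2 * S.card ≤ q * (q + 1) := by
  have h3 : S.card ≤ ((Finset.range q).biUnion Finset.HasAntidiagonal.antidiagonal).card :=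
    Finset.card_le_card_of_injOn φ (fun x hx => by
      simp only [Finset.coe_biUnion, Finset.coe_range, Set.mem_iUnion, Finset.mem_coe, Finset.HasAntidiagonal.mem_antidiagonal]
      exact ⟨_, h1 x hx, rfl⟩) h2.injOn
  have h4 := h3.trans Finset.card_biUnion_le
  simp only [Finset.Nat.card_antidiagonal] at h4
  have h5 : ∀ q : ℕ, 2 * ∑ m ∈ Finset.range q, (m + 1) = q * (q + 1) := fun q => by
    induction q with
    | zero => rfl
    | succ q ih => rw [Finset.sum_range_succ, mul_add, ih]; ring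
  rw [← h5]; omega

theorem tenb_sum_cnt {e : ℕ} [NeZero e] (a : ZMod e) (m n : ℕ) : ∑ β, cnt a m n β = n - m := by
  rw [← Nat.card_Ico, Finset.card_eq_sum_card_fiberwise (f := fun s : ℕ => a + s) (t := Finset.univ)
    fun _ _ => Finset.mem_univ _]
  rfl

theorem tenb_sum_fib {e : ℕ} [NeZero e] {α : Type} [Fintype α] (f : α → ZMod e) (Q : α → Prop) [DecidablePred Q] :
    ∑ β, (Finset.univ.filter fun x => f x = β ∧ Q x).card = (Finset.univ.filter Q).card := by
  rw [Finset.card_eq_sum_card_fiberwise (s := Finset.univ.filter Q) (f := f) (t := Finset.univ)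
    fun _ _ => Finset.mem_univ _]
  exact Finset.sum_congr rfl fun β _ => by rw [Finset.filter_filter]; simp only [and_comm]

theorem tenb_refl {e p t l : ℕ} (hp : p = t * e + 1) (hl : l ≤ p) (a γ : ZMod e) :
    cnt γ (p - l) p a = cnt a 0 l γ := by
  have key : ∀ s s' : ℕ, s + s' + 1 = p → (γ + s = a ↔ a + s' = γ) := fun s s' h => by
    have : (s : ZMod e) + s' = 0 := by
      rw [← Nat.cast_add, show s + s' = t * e by omega]; simp
    exact ⟨fun k => by rw [← k, add_assoc, this, add_zero], fun k => by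
      rw [← k, add_assoc, add_comm (s' : ZMod e), this, add_zero]⟩
  refine Finset.card_bij' (fun s _ => p - 1 - s) (fun s _ => p - 1 - s) (fun s hs => ?_) (fun s hs => ?_)
    (fun s hs => ?_) fun s hs => ?_ <;> simp only [Finset.mem_filter, Finset.mem_Ico] at hs ⊢
  · exact ⟨by omega, (key _ _ (by omega)).1 hs.2⟩
  · exact ⟨by omega, (key _ _ (by omega)).2 hs.2⟩
  · omega
  · omega

variable {k : Type} [Field k] {e p : ℕ} [NeZero e] [Fact p.Prime] [CharP k p]
  {V1 V2 W : Type} [AddCommGroup V1] [Module k V1] [AddCommGroup V2] [Module k V2]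
  [AddCommGroup W] [Module k W] [FiniteDimensional k W] {w : AddChar (ZMod e) k} {ν : (ZMod p)ˣ}
  {τ : V1 →ₗ[k] V2 →ₗ[k] W} {A1 X1 : End k V1} {A2 X2 : End k V2} {A X : End k W}
  {d t : ℕ} {a1 a2 : ZMod e} (h : TenHyp w ν τ A1 X1 A2 X2 A X) (hp : p = t * e + 1)
  (ht : 3 ≤ t) (hd : d + e = p)
  (S1 : Single (PP w A1) (DD k p X1) d a1) (S2 : Single (PP w A2) (DD k p X2) d a2)
include h hp ht hd S1 S2

theorem TenHyp.neg {ι : Type} [Fintype ι] (a : ι → ZMod e) (n : ι → ℕ)
    (hF : ∀ F : ZMod e → ℕ, ∑ i, F (a i) = ∑ i, F (a i - n i)) {i : ι} (hi : 0 < n i) :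
    ∃ g : ℕ, ∑ j, RR (PP w A) (DD k p X) (n j) (a j) + g ≤ ∑ j, RR (PP w A) (DD k p X) 0 (a j) ∧
      2 * d ≤ 2 * g + e ∧ (a i - n i = a1 + a2 → d ≤ g) := by
  classical
  have e0 := NeZero.pos e
  have h3 : 3 * e ≤ t * e := Nat.mul_le_mul_right e ht
  have hp2 : p ≠ 2 := by omega
  have hu := ZMod.val_lt (a i - (n i : ZMod e) - a1 - a2)
  have hu' := ZMod.natCast_zmod_val (a i - (n i : ZMod e) - a1 - a2)
  have hu0 : a i - n i = a1 + a2 → (a i - (n i : ZMod e) - a1 - a2).val = 0 := fun k => by rw [k]; simp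
  generalize (a i - (n i : ZMod e) - a1 - a2).val = u at hu hu' hu0
  obtain ⟨m, g, c, k1, k2, k3, k4⟩ : ∃ m g c : ℕ, m = u + c * e ∧
      g ≤ (Finset.univ.filter fun q : Fin d × Fin d => q.1 + q.2 = m).card ∧ 2 * d ≤ 2 * g + e ∧ (u = 0 → d ≤ g) := by
    obtain ⟨c, rfl⟩ := Nat.exists_eq_add_of_le' (show 2 ≤ t by omega)
    rw [add_mul] at hp h3
    by_cases hc : 2 * u ≤ e
    · exact ⟨d - 1 + u, d - u, c + 1, by rw [add_mul]; omega, tenb_le_card (r := u) (by omega) (by omega) (by omega),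
        by omega, by omega⟩
    · exact ⟨d - 1 - (e - u), d - (e - u), c, by omega, tenb_le_card (r := 0) (by omega) (by omega) (by omega),
        by omega, by omega⟩
  have km : a1 + a2 + (m : ZMod e) = a i - n i := by
    rw [k1]; push_cast; rw [hu']; simp
  refine ⟨g, ?_, k3, fun e => k4 (hu0 e)⟩
  let G : ZMod e → ℕ := fun β => (Finset.univ.filter fun q : Fin d × Fin d =>
    a1 + a2 + ((q.1 + q.2 : ℕ) : ZMod e) = β ∧ q.1 + q.2 ≤ m).card
  let H : ZMod e → ℕ := fun β => (Finset.univ.filter fun q : Fin d × Fin d =>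
    a1 + a2 + ((q.1 + q.2 : ℕ) : ZMod e) = β ∧ m < q.1 + q.2).card
  have e1 : ∀ β, RR (PP w A) (DD k p X) 0 β = H β + G β := fun β => by
    rw [h.RR_zero hp2 S1 S2, ← Finset.card_filter_add_card_filter_not (fun q : Fin d × Fin d => m < q.1 + q.2),
      Finset.filter_filter, Finset.filter_filter]
    simp only [not_lt, G, H]
  have e2 : ∀ j, RR (PP w A) (DD k p X) (n j) (a j) + (if j = i then g else 0) ≤ H (a j) + G (a j - n j) := fun j => by
    refine (Nat.add_le_add_right (h.RR_le hp2 S1 S2 (n j) m (a j)) _).trans ?_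
    rw [add_assoc]
    refine Nat.add_le_add_left ?_ _
    split_ifs with hj
    · subst hj
      refine (Nat.add_le_add_left k2 _).trans ?_
      rw [← Finset.card_union_of_disjoint (Finset.disjoint_left.2 fun q a b => by
        simp only [Finset.mem_filter] at a b; omega)]
      refine Finset.card_le_card fun q hq => ?_
      simp only [Finset.mem_union, Finset.mem_filter, Finset.mem_univ, true_and] at hq ⊢
      rcases hq with hq | hq
      · exact ⟨eq_sub_of_add_eq hq.1, by omega⟩
      · exact ⟨hq ▸ km, hq.le⟩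
    · refine Finset.card_le_card fun q hq => ?_
      simp only [Finset.mem_filter, Finset.mem_univ, true_and] at hq ⊢
      exact ⟨eq_sub_of_add_eq hq.1, by omega⟩
  have e3 := Finset.sum_le_sum fun j (_ : j ∈ Finset.univ) => e2 j
  simp only [Finset.sum_add_distrib, Finset.sum_ite_eq', Finset.mem_univ, if_true] at e3
  simp only [e1, Finset.sum_add_distrib]
  rwa [hF G]

theorem TenHyp.pos {ι : Type} (s : Finset ι) (a : ι → ZMod e) (l : ι → ℕ)
    (hs : ∀ β, ∑ j ∈ s, cnt (a j) 0 (l j) β = 1) :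
    ∑ j ∈ s, RR (PP w A) (DD k p X) (p - l j) (a j) ≤ p - 2 * e := by
  classical
  have e0 := NeZero.pos e
  have h3 : 3 * e ≤ t * e := Nat.mul_le_mul_right e ht
  have hp2 : p ≠ 2 := by omega
  have gr := h.md.isGr hp2
  obtain ⟨Bl⟩ := gr.nonempty_blocks
  obtain ⟨q, hq⟩ : ∃ q, p = 2 * e + q := Nat.exists_eq_add_of_le (by omega)
  have k1 : ∑ i, (Bl.l i - (2 * e - 1)) ≤ q * (q + 1) := by
    have a1' : ∑ i, (Bl.l i - (2 * e - 1)) = ∑ β, RR (PP w A) (DD k p X) (2 * e - 1) β := by
      simp only [Bl.RR_eq gr]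
      rw [Finset.sum_comm]
      simp only [tenb_sum_cnt]
    have a2' := Finset.sum_le_sum fun β (_ : β ∈ Finset.univ) => h.RR_le hp2 S1 S2 (2 * e - 1) (p - 2) β
    rw [Finset.sum_add_distrib, tenb_sum_fib, tenb_sum_fib] at a2'
    have a3 := tenb_tri (Finset.univ.filter fun x : Fin d × Fin d => p - 2 < x.1 + x.2) q
      (fun x => (d - 1 - x.1, d - 1 - x.2)) (fun x hx => by
        have := x.1.2; have := x.2.2
        simp only [Finset.mem_filter] at hx ⊢; omega) fun x y e => by
        have := x.1.2; have := x.2.2; have := y.1.2; have := y.2.2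
        simp only [Prod.mk.injEq] at e
        exact Prod.ext (Fin.ext (by omega)) (Fin.ext (by omega))
    have a4 := tenb_tri (Finset.univ.filter fun x : Fin d × Fin d => x.1 + x.2 + (2 * e - 1) ≤ p - 2) q
      (fun x => (x.1, x.2)) (fun x hx => by
        simp only [Finset.mem_filter] at hx ⊢; omega) fun x y e => by
        simp only [Prod.mk.injEq] at e
        exact Prod.ext (Fin.ext e.1) (Fin.ext e.2)
    omega
  have k2 : q ≤ ∑ i, if Bl.l i = p then 1 else 0 := by
    have := h.le_rank hp2 S1 S2 (by omega)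
    rw [Bl.finrank_range] at this
    refine (show q ≤ 2 * d - p by omega).trans (this.trans (Finset.sum_le_sum fun i _ => ?_))
    have := Bl.le i
    split_ifs <;> omega
  have k3 : ∑ i, (Bl.l i - (2 * e - 1)) = (∑ i, if Bl.l i = p then 1 else 0) * (q + 1) +
      ∑ i, if Bl.l i = p then 0 else Bl.l i - (2 * e - 1) := by
    rw [Finset.sum_mul, ← Finset.sum_add_distrib]
    refine Finset.sum_congr rfl fun i _ => ?_
    split_ifs <;> omega
  have k4 := Nat.mul_le_mul_right (q + 1) k2
  have k5 : (∑ i, if Bl.l i = p then 1 else 0) ≤ q := Nat.le_of_mul_le_mul_right (c := q + 1) (by omega) (by omega)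
  have k6 := Finset.sum_eq_zero_iff.1 (show (∑ i, if Bl.l i = p then 0 else Bl.l i - (2 * e - 1)) = 0 by omega)
  have k7 : ∑ j ∈ s, l j = e := by
    have := Finset.sum_congr (rfl : (Finset.univ : Finset (ZMod e)) = _) fun β _ => hs β
    rw [Finset.sum_comm] at this
    simpa [tenb_sum_cnt] using this
  have k8 : ∀ j ∈ s, l j ≤ e := fun j hj => k7 ▸ Finset.single_le_sum (fun _ _ => Nat.zero_le _) hj
  simp only [Bl.RR_eq gr]
  rw [Finset.sum_comm]
  refine (Finset.sum_le_sum fun i _ => ?_).trans (k5.trans (by omega))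
  have k9 := k6 i (Finset.mem_univ i)
  split_ifs at k9 ⊢ with hi
  · rw [hi, ← hs (Bl.a i)]
    exact (Finset.sum_congr rfl fun j hj => tenb_refl hp (by have := k8 j hj; omega) _ _).le
  · refine (Finset.sum_eq_zero fun j hj => ?_).le
    have := k8 j hj
    rw [cnt, Finset.Ico_eq_empty_of_le (by omega)]
    rfl

end CfsgLib.LowD2
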