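import Cfsg.Agent.Lib.LowD2.Key

set_option autoImplicit false

namespace CfsgLib.LowD2

open Cfsg CfsgLib.Char CfsgLib.PF CfsgLib.BG CfsgLib.DefectOne CfsgLib.DefectOne.B43
  CfsgLib.LowDeg Module Subgroup
open scoped ComplexConjugate

variable {G : Type*} [Group G] [Finite G] {p : ℕ} [Fact p.Prime] {x : G} {e : ℕ} [NeZero e]
  {B : ValuationSubring ℂ} [CharP (kk B) p] {hs : Syl p x} {t : ℕ} {h0 : G} {ν : (ZMod p)ˣ}
  {w : AddChar (ZMod e) B} {ω : AddChar (ZMod p) ℂ} {θ φ ψ : G → ℂ} {κ : Bˣ}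

theorem val_nd {j : ZMod e} (hj : j ≠ 0) : ¬ e ∣ j.val := fun k =>
  hj ((ZMod.val_eq_zero j).1 (Nat.eq_zero_of_dvd_of_lt k (ZMod.val_lt j)))

theorem val_two : ∑ j : ZMod e, (if e ∣ j.val + j.val then (1 : ℂ) else 0) = 1 + if Even e then 1 else 0 := by
  have e0 := NeZero.pos e
  have k : ∀ j : ZMod e, (if e ∣ j.val + j.val then (1 : ℂ) else 0) =
      (if j = 0 then 1 else 0) + if j.val + j.val = e then 1 else 0 := fun j => by
    have l := ZMod.val_lt j
    by_cases h0 : j = 0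
    · subst h0
      simp [e0.ne]
    have h1 : j.val ≠ 0 := mt (ZMod.val_eq_zero j).1 h0
    rw [if_neg h0, zero_add]
    refine if_congr ⟨fun ⟨c, hc⟩ => ?_, fun c => ⟨1, by omega⟩⟩ rfl rfl
    have c2 : c < 2 := Nat.lt_of_mul_lt_mul_left (a := e) (by omega)
    interval_cases c <;> omega
  simp only [k]
  rw [Finset.sum_add_distrib, Finset.sum_ite_eq', if_pos (Finset.mem_univ _)]
  congr 1
  split_ifs with c
  · obtain ⟨m, hm⟩ := c
    have hv : (m : ZMod e).val = m := ZMod.val_cast_of_lt (by omega)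
    rw [Finset.sum_eq_single (m : ZMod e) (fun j _ hj => if_neg fun c => hj (ZMod.val_injective e (by omega)))
      (by simp), if_pos (by omega)]
  · exact Finset.sum_eq_zero fun j _ => if_neg fun k => c ⟨_, k.symm⟩

theorem val_cnt (hS : BSet hs t h0 ν w) (u : (ZMod p)ˣ) :
    ∑ j : ZMod e, (if ν ^ j.val = u then (1 : ℂ) else 0) = if u ∈ zpowers ν then 1 else 0 := by
  split_ifs with c
  · obtain ⟨m, rfl⟩ := exists_pow_eq_of_mem_zpowers c
    have hv : ν ^ (m : ZMod e).val = ν ^ m := by rw [ZMod.val_natCast, ← hS.ord, pow_mod_orderOf]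
    rw [Finset.sum_eq_single (m : ZMod e) (fun j _ hj => if_neg fun c => hj (ZMod.val_injective e
      (pow_injOn_Iio_orderOf (by rw [hS.ord]; exact ZMod.val_lt _) (by rw [hS.ord]; exact ZMod.val_lt _)
        (c.trans hv.symm)))) (by simp), if_pos hv]
  · exact Finset.sum_eq_zero fun j _ => if_neg fun k => c (by rw [← k]; exact pow_mem (mem_zpowers ν) _)

theorem val_d (hS : BSet hs t h0 ν w) {D : GenData hs ω ⊤ θ} {d : ℕ} {a0 : ZMod e} (hZ : Zeta D t h0 w κ d a0) :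
    (d : ℂ) = ((t : ℂ) - 1) * e + 1 := by
  have : (d : ℂ) + e = t * e + 1 := by exact_mod_cast hZ.deg.trans hS.pt
  linear_combination this

theorem val_kap (hS : BSet hs t h0 ν w) (hθ : LinD x h0 e θ κ) (j : ℕ) :
    (((κ * κ : Bˣ) : B) : ℂ)⁻¹ ^ j * (((κ : B) : ℂ) ^ j * ((κ : B) : ℂ) ^ j) = 1 := by
  have k0 : ((κ : B) : ℂ) ≠ 0 := fun k => by simpa [k] using hS.norm_kappa hθ
  push_cast
  rw [← mul_pow, ← mul_pow, inv_mul_cancel₀ (mul_ne_zero k0 k0), one_pow]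

namespace BSet

variable (hS : BSet hs t h0 ν w) (hθ : LinD x h0 e θ κ) (hω : ω.IsPrimitive)
  {D : GenData hs ω ⊤ θ} {d : ℕ} {a0 : ZMod e} (hZ : Zeta D t h0 w κ d a0)
include hS hθ hω hZ

theorem Y_deg (a : (ZMod p)ˣ) : D.Y a 1 = d := by
  have := hZ.val a 0
  rw [pow_zero, pow_zero, if_pos (dvd_zero e), Nat.cast_zero, mul_zero, AddChar.map_zero_eq_one, one_mul] at this
  rw [this, val_d hS hZ]; rfl

theorem val_Y (a : (ZMod p)ˣ) (i : ZMod p) :
    D.Y a (x ^ i.val) = -(∑ j : ZMod e, ω (a * ν ^ j.val * i)) + if i = 0 then (p : ℂ) else 0 := by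
  by_cases hi : i = 0
  · have : (d : ℂ) + e = p := by exact_mod_cast hZ.deg
    simp only [hi, mul_zero, AddChar.map_zero_eq_one, Finset.sum_const, Finset.card_univ, ZMod.card, if_true,
      nsmul_eq_mul, ZMod.val_zero, pow_zero, hS.Y_deg hθ hω hZ]
    linear_combination this
  · rw [hS.Y_pow hθ hω D a hi, hZ.neg, if_neg hi]; simp

theorem mu_mul (a b : (ZMod p)ˣ) (β : ZMod e) : mu w h0 (κ * κ) (D.Y a * D.Y b) β =
    ((t : ℂ) - 1) * (d + 1) + if β = a0 + a0 then 1 else 0 := by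
  have k0 : ((κ : B) : ℂ) ≠ 0 := fun k => by simpa [k] using hS.norm_kappa hθ
  have h1 : (e : ℂ) ≠ 0 := Nat.cast_ne_zero.2 (NeZero.ne e)
  have k : ∀ j : ZMod e, ((w (-(β * j)) : B) : ℂ) * (((((κ * κ : Bˣ) : B) : ℂ))⁻¹ ^ j.val *
      (D.Y a * D.Y b) (h0 ^ j.val)) = ((w (j * (a0 + a0 - β)) : B) : ℂ) + if j = 0 then (d : ℂ) ^ 2 - 1 else 0 := by
    intro j
    by_cases hj : j = 0
    · subst hj
      simp only [mul_zero, neg_zero, zero_mul, AddChar.map_zero_eq_one, ZMod.val_zero, pow_zero, Pi.mul_apply,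
        hS.Y_deg hθ hω hZ, if_true, OneMemClass.coe_one]
      ring
    · rw [Pi.mul_apply, hZ.val, hZ.val, if_neg (val_nd hj), if_neg hj, ZMod.natCast_zmod_val,
        show j * (a0 + a0 - β) = -(β * j) + (a0 * j + a0 * j) by ring, w.map_add_eq_mul, w.map_add_eq_mul]
      have k4 := val_kap hS hθ j.val
      push_cast at k4 ⊢
      linear_combination (((w (-(β * j)) : B) : ℂ) * ((w (a0 * j) : B) : ℂ) * ((w (a0 * j) : B) : ℂ)) * k4
  rw [mu]
  simp only [k]
  rw [Finset.sum_add_distrib, hS.sum_w, Finset.sum_ite_eq', if_pos (Finset.mem_univ _), val_d hS hZ]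
  by_cases hβ : β = a0 + a0
  · rw [if_pos hβ, if_pos (by rw [hβ, sub_self])]; field_simp; ring
  · rw [if_neg hβ, if_neg (sub_ne_zero.2 (Ne.symm hβ))]; field_simp; ring

theorem NB_mul (a b : (ZMod p)ˣ) : NB hs ω (θ * θ) (D.Y a * D.Y b) 0 =
    p - 2 * e + if -(a⁻¹ * b) ∈ zpowers ν then (e : ℂ) else 0 := by
  have h1 : (p : ℂ) ≠ 0 := Nat.cast_ne_zero.2 hs.prime.ne_zero
  rw [hS.NB_eq hθ.sq ((hS.over_Y hθ hω D a).mul (hS.over_Y hθ hω D b))]
  have k : ∀ i : ZMod p, (D.Y a * D.Y b) (x ^ i.val) * ω (-(0 * i)) =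
      (∑ j : ZMod e, ω (a * ν ^ j.val * i)) * (∑ j : ZMod e, ω (b * ν ^ j.val * i)) +
        if i = 0 then (p : ℂ) ^ 2 - 2 * p * e else 0 := fun i => by
    rw [Pi.mul_apply, hS.val_Y hθ hω hZ, hS.val_Y hθ hω hZ, zero_mul, neg_zero, AddChar.map_zero_eq_one]
    by_cases hi : i = 0
    · simp only [hi, mul_zero, AddChar.map_zero_eq_one, Finset.sum_const, Finset.card_univ, ZMod.card, if_true,
        nsmul_eq_mul]
      ring
    · simp only [if_neg hi]; ring
  have k2 : ∑ i : ZMod p, (∑ j : ZMod e, ω (a * ν ^ j.val * i)) * (∑ j : ZMod e, ω (b * ν ^ j.val * i)) =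
      p * if -(a⁻¹ * b) ∈ zpowers ν then (e : ℂ) else 0 := by
    have k3 : ∀ j' : ZMod e, ∑ j : ZMod e, ∑ i : ZMod p, ω (((a : ZMod p) * ν ^ j.val + b * ν ^ j'.val) * i) =
        p * if -(a⁻¹ * b) ∈ zpowers ν then (1 : ℂ) else 0 := fun j' => by
      rw [← if_congr (mul_mem_cancel_right (pow_mem (mem_zpowers ν) j'.val)) rfl rfl, ← val_cnt hS, Finset.mul_sum]
      refine Finset.sum_congr rfl fun j _ => ?_
      have := AddChar.sum_mulShift ((a : ZMod p) * ν ^ j.val + b * ν ^ j'.val) hω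
      simp only [mul_comm (_ : ZMod p) ((a : ZMod p) * ν ^ j.val + b * ν ^ j'.val)] at this
      rw [this, ZMod.card]
      have k4 : (a : ZMod p) * ν ^ j.val + b * ν ^ j'.val = 0 ↔ ν ^ j.val = -(a⁻¹ * b) * ν ^ j'.val := by
        rw [add_eq_zero_iff_eq_neg, neg_mul, mul_assoc, ← mul_neg a⁻¹, eq_inv_mul_iff_mul_eq, ← Units.val_inj]
        push_cast
        rfl
      simp only [k4]
      split_ifs <;> simp
    simp only [Finset.sum_mul_sum, ← AddChar.map_add_eq_mul, ← add_mul]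
    rw [Finset.sum_comm, Finset.sum_congr rfl fun _ _ => Finset.sum_comm, Finset.sum_comm]
    simp only [k3, Finset.sum_const, Finset.card_univ, ZMod.card, nsmul_eq_mul]
    split_ifs <;> ring
  simp only [k]
  rw [Finset.sum_add_distrib, k2, Finset.sum_ite_eq', if_pos (Finset.mem_univ _)]
  field_simp
  ring

theorem over_alt (a : (ZMod p)ˣ) :
    Over (θ * θ) fun g => (D.Y a g ^ 2 - D.Y a (g * g)) / 2 := by
  intro z hz g
  have k := hS.over_Y hθ hω D a
  have e1 : z * g * (z * g) = z * (z * (g * g)) := by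
    rw [mul_assoc, ← mul_assoc g, mem_center_iff.1 hz g, mul_assoc]
  simp only [Pi.mul_apply, e1, k z hz]
  ring

theorem mu_alt (a : (ZMod p)ˣ) :
    2 * mu w h0 (κ * κ) (fun g => (D.Y a g ^ 2 - D.Y a (g * g)) / 2) (a0 + a0) =
      ((t : ℂ) - 1) * (d - if Even e then 1 else 0) := by
  have k0 : ((κ : B) : ℂ) ≠ 0 := fun k => by simpa [k] using hS.norm_kappa hθ
  have h1 : (e : ℂ) ≠ 0 := Nat.cast_ne_zero.2 (NeZero.ne e)
  have k1 := hS.mu_mul hθ hω hZ a a (a0 + a0)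
  rw [if_pos rfl, mu] at k1
  have k : ∀ j : ZMod e, ((w (-((a0 + a0) * j)) : B) : ℂ) * (((((κ * κ : Bˣ) : B) : ℂ))⁻¹ ^ j.val *
      ((D.Y a (h0 ^ j.val) ^ 2 - D.Y a (h0 ^ j.val * h0 ^ j.val)) / 2)) =
      (((w (-((a0 + a0) * j)) : B) : ℂ) * (((((κ * κ : Bˣ) : B) : ℂ))⁻¹ ^ j.val * (D.Y a * D.Y a) (h0 ^ j.val)) -
        (1 + ((t : ℂ) - 1) * e * if e ∣ j.val + j.val then 1 else 0)) / 2 := by
    intro j
    have k2 : ((w (-((a0 + a0) * j)) : B) : ℂ) * (((((κ * κ : Bˣ) : B) : ℂ))⁻¹ ^ j.val *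
        D.Y a (h0 ^ j.val * h0 ^ j.val)) = 1 + ((t : ℂ) - 1) * e * if e ∣ j.val + j.val then 1 else 0 := by
      have k3 : ((w (-((a0 + a0) * j)) : B) : ℂ) * ((w (a0 * ((j.val + j.val : ℕ) : ZMod e)) : B) : ℂ) = 1 := by
        rw [← MulMemClass.coe_mul, ← w.map_add_eq_mul, Nat.cast_add, ZMod.natCast_zmod_val,
          show -((a0 + a0) * j) + a0 * (j + j) = 0 by ring, AddChar.map_zero_eq_one]; rfl
      have k4 := val_kap hS hθ j.val
      rw [← pow_add] at k4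
      rw [← pow_add, hZ.val, ← mul_assoc (_ ^ j.val), k4, one_mul, mul_add, k3]
      split_ifs with c
      · rw [(ZMod.natCast_eq_zero_iff _ _).2 c, mul_zero, AddChar.map_zero_eq_one, OneMemClass.coe_one, mul_one] at k3
        rw [k3]; ring
      · ring
    rw [← k2, Pi.mul_apply]; ring
  rw [mu]
  simp only [k]
  rw [← Finset.sum_div, Finset.sum_sub_distrib, mul_div_assoc', mul_div_cancel₀ _ two_ne_zero, mul_sub, k1,
    Finset.sum_add_distrib, ← Finset.mul_sum, val_two]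
  simp only [Finset.sum_const, Finset.card_univ, ZMod.card, nsmul_eq_mul]
  field_simp
  ring

theorem NB_alt (a : (ZMod p)ˣ) :
    2 * NB hs ω (θ * θ) (fun g => (D.Y a g ^ 2 - D.Y a (g * g)) / 2) 0 =
      p - 2 * e - 1 + if Even e then (e : ℂ) else 0 := by
  have h1 : (p : ℂ) ≠ 0 := Nat.cast_ne_zero.2 hs.prime.ne_zero
  have p2 : 2 < p := by have := hS.pt; have := Nat.mul_le_mul hS.two hS.e2; omega
  have : Fact (2 < p) := ⟨p2⟩
  have k1 := hS.NB_mul hθ hω hZ a a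
  rw [inv_mul_cancel, hS.NB_eq hθ.sq ((hS.over_Y hθ hω D a).mul (hS.over_Y hθ hω D a))] at k1
  have k2 : (-1 : (ZMod p)ˣ) ∈ zpowers ν ↔ Even e := by
    constructor
    · intro k
      have := orderOf_dvd_of_mem_zpowers k
      rwa [hS.ord, orderOf_eq_prime (p := 2) (by simp) (fun c => ZMod.neg_one_ne_one (congrArg Units.val c)),
        ← even_iff_two_dvd] at this
    · rintro ⟨m, hm⟩
      have k3 : ν ^ m * ν ^ m = 1 := by rw [← pow_add, ← hm, ← hS.ord, pow_orderOf_eq_one]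
      have k4 : ν ^ m ≠ 1 := pow_ne_one_of_lt_orderOf (by have := hS.e2; omega) (by have := hS.e2; rw [hS.ord]; omega)
      have k5 := (mul_self_eq_one_iff.1 (congrArg Units.val k3)).resolve_left fun c => k4 (Units.ext c)
      exact (show ν ^ m = -1 from Units.ext k5) ▸ pow_mem (mem_zpowers ν) m
  have k3 : ∑ i : ZMod p, D.Y a (x ^ i.val * x ^ i.val) = p := by
    have two : (2 : ZMod p) ≠ 0 := fun c => absurd (Nat.le_of_dvd two_pos
      ((ZMod.natCast_eq_zero_iff 2 p).1 (by exact_mod_cast c))) (by omega)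
    have k4 : ∀ i : ZMod p, x ^ i.val * x ^ i.val = x ^ (Equiv.mulLeft₀ 2 two i).val := fun i => by
      rw [← pow_add]
      exact hs.pow_eq_of_natCast_eq (by simp [two_mul])
    simp only [k4]
    rw [Equiv.sum_comp (Equiv.mulLeft₀ 2 two) fun i => D.Y a (x ^ i.val)]
    simp only [hS.val_Y hθ hω hZ]
    rw [Finset.sum_add_distrib, Finset.sum_ite_eq', if_pos (Finset.mem_univ _), Finset.sum_neg_distrib,
      Finset.sum_comm, Finset.sum_eq_zero, neg_zero, zero_add]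
    intro j _
    have := AddChar.sum_mulShift ((a : ZMod p) * ν ^ j.val) hω
    rw [if_neg (mul_ne_zero a.ne_zero (pow_ne_zero _ ν.ne_zero)), Nat.cast_zero] at this
    simpa only [mul_comm] using this
  rw [hS.NB_eq hθ.sq (hS.over_alt hθ hω hZ a)]
  simp only [zero_mul, neg_zero, AddChar.map_zero_eq_one, mul_one, Pi.mul_apply, k2] at k1 ⊢
  rw [← Finset.sum_div, Finset.sum_sub_distrib, k3, mul_div_assoc', mul_div_cancel₀ _ two_ne_zero, mul_sub,
    inv_mul_cancel₀ h1]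
  simp only [pow_two]
  rw [k1]; ring

end BSet

end CfsgLib.LowD2
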