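import Cfsg.Agent.Lib.LowD2.Star
import Cfsg.Agent.Lib.LowD2.Val
import Cfsg.Agent.Lib.LowD2.TenB

set_option autoImplicit false

namespace CfsgLib.LowD2

open Cfsg CfsgLib.Char CfsgLib.PF CfsgLib.BG CfsgLib.DefectOne CfsgLib.DefectOne.B43
  CfsgLib.LowDeg Module Subgroup
open scoped ComplexConjugate

variable {G : Type*} [Group G] [Finite G] {p : ℕ} [Fact p.Prime] {x : G} {e : ℕ} [NeZero e]
  {B : ValuationSubring ℂ} [CharP (kk B) p] {hs : Syl p x} {t : ℕ} {h0 : G} {ν : (ZMod p)ˣ}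
  {w : AddChar (ZMod e) B} {ω : AddChar (ZMod p) ℂ} {θ φ ψ : G → ℂ} {κ : Bˣ}

namespace BSet

theorem b2_ineq (hS : BSet hs t h0 ν w) (hθ : LinD x h0 e θ κ) (hω : ω.IsPrimitive)
    {D : GenData hs ω ⊤ θ} {c : ZMod e → ℕ} (hc : Star D t h0 w κ c) {m n : Type} [Fintype m]
    [DecidableEq m] [Fintype n] [DecidableEq n] {T1 : G →* Matrix m m B} {T2 : G →* Matrix n n B}
    {a : (ZMod p)ˣ} (h1 : chT T1 = D.Y a) (h2 : Over θ (chT T2))
    (Bl : Blocks p (PT w h0 κ T1) (DT p x T1))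
    (h3 : ∀ β, c β = (Finset.univ.filter fun i => p < 2 * Bl.l i ∧ Bl.a i = β).card) {u : ℤ}
    (hu : D.ε * dot ⊤ (chT T2) (D.Y a) = NB hs ω θ (chT T2) a + u) :
    ((∑ i ∈ Finset.univ.filter fun i => p < 2 * Bl.l i,
      RR (PT w h0 κ T2) (DT p x T2) 0 (Bl.a i) : ℕ) : ℤ) ≤
      D.ε * u + (∑ i, RR (PT w h0 κ T2) (DT p x T2) (p - Bl.l i) (Bl.a i) : ℕ) := by
  have h4 := hS.hom_le hθ (h1 ▸ hS.over_Y hθ hω D a) h2 Bl
  have h5 : dot ⊤ (chT T2) (D.Y a) = D.ε * NB hs ω θ (chT T2) a + (D.ε * u : ℤ) := by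
    push_cast
    linear_combination D.ε * hu - dot ⊤ (chT T2) (D.Y a) * D.ε_mul_self
  have h6 : ∑ β, RR (PT w h0 κ T2) (DT p x T2) 0 β * c β = ∑ i ∈ Finset.univ.filter
      fun i => p < 2 * Bl.l i, RR (PT w h0 κ T2) (DT p x T2) 0 (Bl.a i) := by
    rw [← Finset.sum_fiberwise _ Bl.a]
    refine Finset.sum_congr rfl fun β _ => ?_
    rw [Finset.sum_congr rfl fun i hi => by rw [(Finset.mem_filter.1 hi).2], Finset.sum_const,
      Finset.filter_filter, h3, smul_eq_mul, mul_comm]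
  rw [h1, hS.dotN hθ hω D (isChar_top.2 (isCharacter_rep T2)).mem_CF h2, h5,
    Finset.sum_congr rfl (g := fun β => ((RR (PT w h0 κ T2) (DT p x T2) 0 β * c β : ℕ) : ℂ))
      fun β _ => by
        rw [hc.mu_eq, hc.nb, ← hS.RR_zero hθ h2, show ∀ a b c : ℂ, a + b + c - a - c = b from
          fun a b c => by ring]
        simp, ← Nat.cast_sum, h6, Complex.add_re, Complex.add_re, add_assoc, Complex.natCast_re,
      Complex.intCast_re] at h4
  exact_mod_cast le_of_add_le_add_left h4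

variable (hS : BSet hs t h0 ν w) (hθ : LinD x h0 e θ κ) (hω : ω.IsPrimitive)
  {D : GenData hs ω ⊤ θ} {d : ℕ} {a0 : ZMod e} (hZ : Zeta D t h0 w κ d a0)
  (D' : GenData hs ω ⊤ (θ * θ))
include hS hθ hω hZ

theorem neg_false (hε : D'.ε = -1) (ht : 3 ≤ t) (he : 3 ≤ e) : False := by
  obtain ⟨c, hc⟩ := hS.exists_star hθ.sq hω D'
  obtain ⟨n, T, hT, ⟨S⟩⟩ := hZ.lat 1
  have hO : Over θ (chT T) := hT ▸ hS.over_Y hθ hω D 1
  have hW : chT (tenLat T T) = D.Y 1 * D.Y 1 := hT ▸ char_tenLat T T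
  have hO' : Over (θ * θ) (chT (tenLat T T)) := by rw [chT, char_tenLat]; exact hO.mul hO
  obtain ⟨τ, hτ⟩ := hS.tenHyp hθ hO hO
  obtain ⟨M, u, h1, h2, h3⟩ := hS.key hθ.sq hω D' hc (isChar_top.2 (isCharacter_rep _)) hO'
  obtain ⟨n', T', Bl, hT', h4, h5, -⟩ := hc.lat 1
  obtain ⟨h5, ⟨i, hi⟩, h6⟩ := h5 hε
  have h7 := hS.b2_ineq hθ.sq hω hc hT' hO' Bl h4 (h1 1)
  obtain ⟨g, h8, h9, h10⟩ := hτ.neg hS.pt ht hZ.deg S S Bl.a (fun i => p - Bl.l i) h6 (i := i)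
    (by omega)
  rw [Finset.filter_true_of_mem fun i _ => h5 i, hε] at h7
  have h11 : (g : ℤ) ≤ -u := by
    simp only [PT, DT] at h7
    omega
  set β := Bl.a i - ((p - Bl.l i : ℕ) : ZMod e)
  have h12 : 1 ≤ c β := by
    have := h6 fun γ => if γ = β then 1 else 0
    simp only [h4, h5, true_and]
    rw [Finset.card_filter, this]
    exact le_trans (by simp [β]) (Finset.single_le_sum (fun _ _ => Nat.zero_le _)
      (Finset.mem_univ i))
  obtain ⟨r, hr⟩ := h3 β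
  have he0 : (e : ℂ) ≠ 0 := Nat.cast_ne_zero.2 (NeZero.ne e)
  have h13 : mu w h0 (κ * κ) (chT (tenLat T T)) β = (c β * M + r - M - t * u : ℤ) := by
    rw [hε] at h2
    push_cast at h2 ⊢
    rw [← hr]
    field_simp
    linear_combination -h2
  rw [hW, hS.mu_mul hθ hω hZ] at h13
  have h14 : (M : ℤ) ≤ c β * M := le_mul_of_one_le_left (by positivity) (by exact_mod_cast h12)
  have h15 : (d : ℤ) + e = t * e + 1 := by exact_mod_cast hZ.deg.trans hS.pt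
  have h16 : (t : ℤ) * g ≤ t * -u := mul_le_mul_of_nonneg_left h11 (by positivity)
  have ht' : (3 : ℤ) ≤ t := by exact_mod_cast ht
  have he' : (3 : ℤ) ≤ e := by exact_mod_cast he
  split_ifs at h13 with h
  · have h17 : ((t : ℤ) - 1) * (d + 1) + 1 = c β * M + r - M - t * u := by exact_mod_cast h13
    have h18 : (t : ℤ) * d ≤ t * g := by exact_mod_cast Nat.mul_le_mul_left t (h10 h)
    nlinarith
  · have h17 : ((t : ℤ) - 1) * (d + 1) + 0 = c β * M + r - M - t * u := by exact_mod_cast h13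
    have h18 : (t : ℤ) * (2 * d) ≤ t * (2 * g + e) := by exact_mod_cast Nat.mul_le_mul_left t h9
    nlinarith

omit hZ in
theorem b2_pos (hε : D.ε = 1) (ht : 3 ≤ t)
    (hgen : ∀ H : Subgroup G, (∀ g, p ∣ orderOf g → g ∈ H) → H = ⊤) {c : ZMod e → ℕ}
    (hc : Star D t h0 w κ c) : ∑ γ, c γ ≠ 0 := fun h => by
  have h1 : NB hs ω θ (D.Y 1) 0 = 0 := by rw [hc.nb]; exact_mod_cast h
  have h2 := hS.Y_one hθ hω D 1
  rw [h1, hε] at h2
  have h3 := hS.pt
  have h4 := Nat.mul_le_mul_right e ht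
  have h5 := hS.e2
  have h6 := (half hs hgen (by rw [hS.ee_eq]; omega) (D.Y_irr 1) (d := e) (by simpa using h2)
    (by omega) fun h6 => ?_).1
  · omega
  have h7 := hS.NB_Y hθ hω D 1 1
  have h8 : ∀ i : ℕ, D.Y 1 (x ^ i) = D.Y 1 1 := fun i => by
    induction i with
    | zero => simp
    | succ i ih => rw [pow_succ', (D.Y_irr 1).isChar.mul_of_eq_one h6, ih]
  rw [h1, if_pos (by simp), hε, hS.NB_eq hθ (hS.over_Y hθ hω D 1)] at h7
  simp only [h8, ← Finset.mul_sum, ← neg_mul, mul_comm (-_ : ZMod p)] at h7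
  rw [AddChar.sum_mulShift _ hω, if_neg (by simp)] at h7
  simp at h7

theorem b2_bdry (hε : D'.ε = 1) {c : ZMod e → ℕ} (hc : Star D' t h0 w (κ * κ) c)
    (h : 1 ≤ c (a0 + a0)) : t ≠ e + 1 := fun ht => by
  obtain ⟨M, u, -, h2, h3⟩ := hS.key hθ.sq hω D' hc
    (isChar_top.2 (isCharacter_altSq (isChar_top.1 (D.Y_irr 1).isChar))) (hS.over_alt hθ hω hZ 1)
  obtain ⟨r, hr⟩ := h3 (a0 + a0)
  have h4 := hS.mu_alt hθ hω hZ 1
  have h5 := hS.NB_alt hθ hω hZ 1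
  simp only [mul_one, hS.Y_deg hθ hω hZ, hε] at h2 hr
  have he0 : (e : ℂ) ≠ 0 := Nat.cast_ne_zero.2 (NeZero.ne e)
  have hp : (p : ℂ) = (e + 1) * e + 1 := by exact_mod_cast ht ▸ hS.pt
  have hd : (d : ℂ) = e ^ 2 + 1 := by
    have : (d : ℂ) + e = p := by exact_mod_cast hZ.deg
    linear_combination this + hp
  obtain ⟨s, hs1, h6, h7⟩ : ∃ s : ℕ, s ≤ 1 ∧ (if Even e then (1 : ℂ) else 0) = s ∧
      (if Even e then (e : ℂ) else 0) = e * s := by
    split_ifs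
    · exact ⟨1, by simp⟩
    · exact ⟨0, by simp⟩
  rw [h6, hd, ht] at h4
  rw [h7, hp] at h5
  rw [hd, ht] at h2
  rw [hd] at hr
  push_cast at h2 h4
  have h8 : (2 * M + s : ℂ) = (e + 1) * (2 * u + e * (e - 1) + 1) :=
    mul_left_cancel₀ he0 (by linear_combination 2 * h2 - h5)
  have h9 : (2 * (c (a0 + a0) * M + r) : ℂ) = (e - 1) * (1 - s) := by
    rw [← hr]
    field_simp
    linear_combination e * h4 + h5
  have h10 : (2 * M + s : ℤ) = (e + 1) * (2 * u + e * (e - 1) + 1) := by exact_mod_cast h8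
  have h11 : (2 * (c (a0 + a0) * M + r) : ℤ) = (e - 1) * (1 - s) := by exact_mod_cast h9
  have h12 : (M : ℤ) ≤ c (a0 + a0) * M := le_mul_of_one_le_left (by positivity)
    (by exact_mod_cast h)
  obtain ⟨v, hv⟩ := Int.even_mul_pred_self e
  have he : (2 : ℤ) ≤ e := by exact_mod_cast hS.e2
  rw [hv] at h10
  rcases le_or_gt 0 (u + v) with h13 | h13
  · interval_cases s <;> nlinarith
  · interval_cases s <;> nlinarith

theorem pos_le (hε : D'.ε = 1) (ht : 3 ≤ t)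
    (hgen : ∀ H : Subgroup G, (∀ g, p ∣ orderOf g → g ∈ H) → H = ⊤) : e + 3 ≤ t := by
  obtain ⟨c, hc⟩ := hS.exists_star hθ.sq hω D'
  have hpt := hS.pt
  have he2 := hS.e2
  obtain ⟨b, hb⟩ : ∃ b : (ZMod p)ˣ, b ∉ zpowers ν := by
    by_contra! h
    have h1 := hS.ord
    rw [← Nat.card_zpowers, (eq_top_iff' _).2 h, card_top, Nat.card_eq_fintype_card,
      ZMod.card_units] at h1
    have := Nat.mul_le_mul_right e ht
    omega
  obtain ⟨n1, T1, hT1, ⟨S1⟩⟩ := hZ.lat 1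
  obtain ⟨n2, T2, hT2, ⟨S2⟩⟩ := hZ.lat (-b)
  have hO1 : Over θ (chT T1) := hT1 ▸ hS.over_Y hθ hω D _
  have hO2 : Over θ (chT T2) := hT2 ▸ hS.over_Y hθ hω D _
  have hW : chT (tenLat T1 T2) = D.Y 1 * D.Y (-b) := hT1 ▸ hT2 ▸ char_tenLat T1 T2
  have hO' : Over (θ * θ) (chT (tenLat T1 T2)) := by rw [chT, char_tenLat]; exact hO1.mul hO2
  obtain ⟨τ, hτ⟩ := hS.tenHyp hθ hO1 hO2
  obtain ⟨M, u, h1, h2, h3⟩ := hS.key hθ.sq hω D' hc (isChar_top.2 (isCharacter_rep _)) hO'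
  obtain ⟨n', T', Bl, hT', h4, -, h5⟩ := hc.lat 1
  obtain ⟨h5, h6⟩ := h5 hε
  have h7 := hS.b2_ineq hθ.sq hω hc hT' hO' Bl h4 (h1 1)
  have h8 := hτ.pos hS.pt ht hZ.deg S1 S2 _ Bl.a Bl.l h6
  rw [← Finset.sum_filter_add_sum_filter_not Finset.univ fun i => p < 2 * Bl.l i, hε,
    Finset.sum_congr (s₁ := Finset.univ.filter fun i => p < 2 * Bl.l i) rfl
      (f := fun i => RR _ _ (p - Bl.l i) _) fun i hi => by
        rw [h5 i (Finset.mem_filter.1 hi).2, Nat.sub_self]] at h7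
  simp only [PT, DT] at h7
  have h9 := Nat.mul_le_mul_right e ht
  have h10 : -u ≤ (t : ℤ) * e + 1 - 2 * e := by
    have : (p : ℤ) = t * e + 1 := by exact_mod_cast hpt
    omega
  have he0 : (e : ℂ) ≠ 0 := Nat.cast_ne_zero.2 (NeZero.ne e)
  have hp : (p : ℂ) = t * e + 1 := by exact_mod_cast hpt
  have hd : (d : ℂ) = (t - 1) * e + 1 := by
    have : (d : ℂ) + e = p := by exact_mod_cast hZ.deg
    linear_combination this + hp
  simp only [hW, hS.NB_mul hθ hω hZ, hS.mu_mul hθ hω hZ, Pi.mul_apply, hS.Y_deg hθ hω hZ, inv_one,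
    one_mul, neg_neg, if_neg hb, hε, hp, hd] at h2 h3
  have h11 : (M : ℤ) = t * u + e + t * (t * e + 1 - 2 * e) := by
    have : (M : ℂ) = t * u + e + t * (t * e + 1 - 2 * e) :=
      mul_left_cancel₀ he0 (by push_cast at h2; linear_combination h2)
    exact_mod_cast this
  have h12 : e ≤ M := by
    have := mul_le_mul_of_nonneg_left h10 (Nat.cast_nonneg t : (0 : ℤ) ≤ t)
    have : (e : ℤ) ≤ M := by linarith
    exact_mod_cast this
  have h13 : ∀ β, c β * e + 2 ≤ t + if β = a0 + a0 then 1 else 0 := fun β => by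
    obtain ⟨r, hr⟩ := h3 β
    have h14 : ((c β * M + r + 2 : ℕ) : ℂ) = (t + if β = a0 + a0 then 1 else 0 : ℕ) := by
      push_cast
      rw [← hr]
      field_simp
      ring
    have := Nat.cast_injective h14
    have := Nat.mul_le_mul_left (c β) h12
    omega
  have h14 : t ≠ e + 2 := fun h => by
    have h15 : p = (e + 1) * (e + 1) := by rw [hpt, h]; ring
    have := Nat.not_prime_mul (a := e + 1) (b := e + 1) (by omega) (by omega)
    exact this (h15 ▸ hs.prime)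
  obtain ⟨β, -, hβ⟩ := Finset.exists_ne_zero_of_sum_ne_zero (hS.b2_pos hθ.sq hω hε ht hgen hc)
  have h15 := h13 β
  have h16 := Nat.mul_le_mul_right e (Nat.pos_of_ne_zero hβ)
  split_ifs at h15 with h
  · have := hS.b2_bdry hθ hω hZ D' hε hc (h ▸ Nat.pos_of_ne_zero hβ)
    omega
  · omega

end BSet

end CfsgLib.LowD2
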