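import Cfsg.Agent.Lib.LowD2.Defs

set_option autoImplicit false
set_option linter.unusedSectionVars false

namespace CfsgLib.LowD2

open Module

variable {k : Type} [Field k] {e p : ℕ} [NeZero e] {V : Type} [AddCommGroup V] [Module k V]
  {P : ZMod e → End k V} {D : End k V}

theorem IsGr.blk_shift (h : IsGr p P D) (β : ZMod e) (n : ℕ) (v : V) :
    P (β + n) ((D ^ n) v) = (D ^ n) (P β v) := by
  induction n with
  | zero => simp
  | succ n ih =>
    rw [pow_succ', End.mul_apply, End.mul_apply, Nat.cast_succ, ← add_assoc, ← End.mul_apply (P _), h.shift,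
      End.mul_apply, ih]

theorem IsGr.blk_PP (h : IsGr p P D) (β γ : ZMod e) (v : V) : P β (P γ v) = if β = γ then P β v else 0 := by
  rw [← End.mul_apply, h.orth]
  split_ifs <;> rfl

theorem IsGr.blk_wt (h : IsGr p P D) {a : ZMod e} {v : V} (hv : P a v = v) (β : ZMod e) :
    P β v = if a = β then v else 0 := by
  rw [← hv, h.blk_PP]
  by_cases e : a = β
  · simp [e]
  · simp [e, Ne.symm e]

theorem IsGr.pow_wt (h : IsGr p P D) {a : ZMod e} {v : V} (hv : P a v = v) (n : ℕ) :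
    P (a + n) ((D ^ n) v) = (D ^ n) v := by
  rw [h.blk_shift, hv]

theorem blk_finrank_span {S : Type} (b : Basis S k V) (Q : Finset S) :
    finrank k (Submodule.span k (b '' Q)) = Q.card := by
  rw [Set.image_eq_range]
  refine (finrank_span_eq_card (b.linearIndependent.comp (fun s : (Q : Set S) => s.1)
    Subtype.val_injective)).trans ?_
  simp

theorem IsGr.finrank_span_inf (h : IsGr p P D) {S : Type} [DecidableEq S] (b : Basis S k V)
    (wt : S → ZMod e) (hb : ∀ s, P (wt s) (b s) = b s) (Q : Finset S) (β : ZMod e) :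
    finrank k (Submodule.span k (b '' Q) ⊓ LinearMap.range (P β) : Submodule k V) =
      (Q.filter fun s => wt s = β).card := by
  rw [← blk_finrank_span b]
  refine congrArg (fun U : Submodule k V => finrank k U) ?_
  refine le_antisymm ?_ (Submodule.span_le.2 ?_)
  · rintro _ ⟨hv, v, rfl⟩
    have h1 : (Submodule.span k (b '' Q)).map (P β) ≤
        Submodule.span k (b '' (Q.filter fun s => wt s = β : Finset S)) := by
      rw [Submodule.map_span, Submodule.span_le]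
      rintro _ ⟨_, ⟨s, hs, rfl⟩, rfl⟩
      rw [h.blk_wt (hb s)]
      split_ifs with e
      · exact Submodule.subset_span ⟨s, by simpa using ⟨hs, e⟩, rfl⟩
      · exact Submodule.zero_mem _
    have := h1 ⟨_, hv, rfl⟩
    rwa [h.blk_PP, if_pos rfl] at this
  · rintro _ ⟨s, hs, rfl⟩
    rw [Finset.mem_coe, Finset.mem_filter] at hs
    exact ⟨Submodule.subset_span ⟨s, hs.1, rfl⟩, b s, hs.2 ▸ hb s⟩

theorem IsGr.blk_step [FiniteDimensional k V] (h : IsGr p P D) {U : Submodule k V} (h0 : U ≠ ⊥)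
    (hD : ∀ u ∈ U, D u ∈ U) (hP : ∀ β, ∀ u ∈ U, P β u ∈ U) :
    ∃ (m : ℕ) (a : ZMod e) (v : V) (U' : Submodule k V), m + 1 ≤ p ∧ P a v = v ∧ (D ^ (m + 1)) v = 0 ∧
      (∀ u ∈ U', D u ∈ U') ∧ (∀ β, ∀ u ∈ U', P β u ∈ U') ∧ finrank k U' + (m + 1) = finrank k U ∧
      U ≤ Submodule.span k {x | ∃ j < m + 1, x = (D ^ j) v} ⊔ U' := by
  classical
  have ex : ∃ m, ∀ u ∈ U, (D ^ m) u = 0 := ⟨p, fun u _ => by rw [h.nil]; rfl⟩
  have hle : Nat.find ex ≤ p := Nat.find_min' ex fun u _ => by rw [h.nil]; rfl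
  obtain ⟨m, hm⟩ : ∃ m, Nat.find ex = m + 1 := Nat.exists_eq_succ_of_ne_zero fun e => h0 (by
    have := Nat.find_spec ex
    rw [e] at this
    exact (Submodule.eq_bot_iff _).2 fun u hu => by simpa using this u hu)
  have kill : ∀ u ∈ U, ∀ j, m + 1 ≤ j → (D ^ j) u = 0 := fun u hu j hj => by
    obtain ⟨c, rfl⟩ := Nat.exists_eq_add_of_le' hj
    rw [pow_add, End.mul_apply, ← hm, Nat.find_spec ex u hu, map_zero]
  have hlt := Nat.find_min ex (show m < Nat.find ex by omega)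
  push Not at hlt
  obtain ⟨u, hu, hu0⟩ := hlt
  obtain ⟨a, ha⟩ : ∃ a, (D ^ m) (P a u) ≠ 0 := by
    by_contra hc
    push Not at hc
    apply hu0
    have : u = ∑ β, P β u := by rw [← LinearMap.sum_apply, h.sum]; rfl
    rw [this, map_sum]
    exact Finset.sum_eq_zero fun β _ => hc β
  have hv : P a u ∈ U := hP a u hu
  have wv : P a (P a u) = P a u := by rw [h.blk_PP, if_pos rfl]
  generalize P a u = v at ha hv wv
  obtain ⟨f0, hf0⟩ := Module.Projective.exists_dual_eq_one k ha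
  let f : Dual k V := f0 ∘ₗ P (a + m)
  have f1 : f ((D ^ m) v) = 1 := by rw [← hf0]; exact congrArg f0 (h.pow_wt wv m)
  let Φ : V →ₗ[k] (Fin (m + 1) → k) := LinearMap.pi fun j => f ∘ₗ D ^ (j : ℕ)
  have hΦ : ∀ u ∈ U, Φ u = 0 ↔ ∀ j : ℕ, f ((D ^ j) u) = 0 := fun u hu =>
    ⟨fun e j => by
      by_cases hj : j < m + 1
      · exact congrFun e ⟨j, hj⟩
      · rw [kill u hu j (by omega), map_zero], fun e => funext fun j => e j⟩
  have hDn : ∀ j : ℕ, (D ^ j) v ∈ U := fun j => by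
    induction j with
    | zero => exact hv
    | succ j ih => rw [pow_succ']; exact hD _ ih
  let Ψ : (Fin (m + 1) → k) →ₗ[k] V := Fintype.linearCombination k fun j : Fin (m + 1) => (D ^ (j : ℕ)) v
  have hΨ : ∀ c, Ψ c = ∑ j : Fin (m + 1), c j • (D ^ (j : ℕ)) v := fun c => Fintype.linearCombination_apply _ _ _
  have inj : Function.Injective (Φ ∘ₗ Ψ) := by
    rw [← LinearMap.ker_eq_bot, eq_bot_iff]
    intro c hc
    have key : ∀ n : ℕ, ∀ j : Fin (m + 1), j.1 = n → c j = 0 := fun n => by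
      induction n using Nat.strong_induction_on with
      | _ n ih =>
        intro j hj
        have e1 : f ((D ^ (m - j)) (Ψ c)) = 0 := congrFun (LinearMap.mem_ker.1 hc) ⟨m - j, by omega⟩
        rw [hΨ, map_sum, map_sum, Finset.sum_eq_single j] at e1
        · rwa [map_smul, map_smul, ← End.mul_apply, ← pow_add, show m - j + j = m by omega, f1, smul_eq_mul,
            mul_one] at e1
        · intro i _ hi
          rcases lt_or_gt_of_ne (Fin.val_ne_of_ne hi) with l | l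
          · rw [ih i (by omega) i rfl, zero_smul, map_zero, map_zero]
          · rw [map_smul, ← End.mul_apply, ← pow_add, kill v hv _ (by omega), smul_zero, map_zero]
        · simp
    exact funext fun j => key _ j rfl
  have surj := LinearMap.injective_iff_surjective.1 inj
  have ΨU : ∀ c, Ψ c ∈ U := fun c => by
    rw [hΨ]; exact Submodule.sum_mem _ fun j _ => U.smul_mem _ (hDn j)
  refine ⟨m, a, v, U ⊓ LinearMap.ker Φ, hm ▸ hle, wv, kill v hv _ le_rfl, ?_, ?_, ?_, fun u hu => ?_⟩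
  · rintro u ⟨h1, h2⟩
    refine ⟨hD u h1, (hΦ _ (hD u h1)).2 fun j => ?_⟩
    rw [← End.mul_apply, ← pow_succ]
    exact (hΦ u h1).1 h2 _
  · rintro β u ⟨h1, h2⟩
    refine ⟨hP β u h1, (hΦ _ (hP β u h1)).2 fun j => ?_⟩
    rw [← h.blk_shift]
    show f0 (P _ (P _ _)) = 0
    rw [h.blk_PP]
    split_ifs
    · exact (hΦ u h1).1 h2 j
    · exact map_zero _
  · have := LinearMap.finrank_range_add_finrank_ker (Φ.domRestrict U)
    rw [LinearMap.range_eq_top.2 (fun c => let ⟨c', hc⟩ := surj c; ⟨⟨Ψ c', ΨU c'⟩, hc⟩), finrank_top,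
      Module.finrank_fin_fun, LinearMap.ker_domRestrict, ← Submodule.finrank_map_subtype_eq,
      Submodule.map_comap_subtype] at this
    omega
  · obtain ⟨c, hc⟩ := surj (Φ u)
    rw [show u = Ψ c + (u - Ψ c) by abel]
    refine Submodule.add_mem_sup ?_ ⟨U.sub_mem hu (ΨU c), ?_⟩
    · rw [hΨ]
      exact Submodule.sum_mem _ fun j _ => Submodule.smul_mem _ _ (Submodule.subset_span ⟨j, j.2, rfl⟩)
    · show Φ (u - Ψ c) = 0
      rw [map_sub, ← hc]; exact sub_self _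

theorem IsGr.blk_ind [FiniteDimensional k V] (h : IsGr p P D) (N : ℕ) : ∀ U : Submodule k V, finrank k U = N →
    (∀ u ∈ U, D u ∈ U) → (∀ β, ∀ u ∈ U, P β u ∈ U) →
    ∃ (n : ℕ) (a : Fin n → ZMod e) (l : Fin n → ℕ) (g : Fin n → V),
      (∀ i, 0 < l i ∧ l i ≤ p ∧ P (a i) (g i) = g i ∧ (D ^ l i) (g i) = 0) ∧
      U ≤ Submodule.span k {x | ∃ i, ∃ j < l i, x = (D ^ j) (g i)} ∧ ∑ i, l i = N := by
  induction N using Nat.strong_induction_on with
  | _ N ih =>
    intro U hN hD hP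
    by_cases h0 : U = ⊥
    · refine ⟨0, Fin.elim0, Fin.elim0, Fin.elim0, fun i => i.elim0, h0 ▸ bot_le, ?_⟩
      rw [← hN, h0]; simp
    obtain ⟨m, a0, v, U', h1, h2, h3, h4, h5, h6, h7⟩ := h.blk_step h0 hD hP
    obtain ⟨n, a, l, g, k1, k2, k3⟩ := ih _ (by omega) U' rfl h4 h5
    refine ⟨n + 1, Fin.cons a0 a, Fin.cons (m + 1) l, Fin.cons v g, ?_, h7.trans (sup_le ?_ (k2.trans ?_)), ?_⟩
    · rw [Fin.forall_fin_succ]
      exact ⟨⟨Nat.succ_pos m, h1, h2, h3⟩, k1⟩
    · exact Submodule.span_mono fun x ⟨j, hj, e⟩ => ⟨0, j, hj, e⟩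
    · exact Submodule.span_mono fun x ⟨i, j, hj, e⟩ => ⟨i.succ, j, hj, e⟩
    · rw [Fin.sum_univ_succ]
      simp only [Fin.cons_zero, Fin.cons_succ]
      omega

theorem IsGr.nonempty_blocks [FiniteDimensional k V] (h : IsGr p P D) :
    Nonempty (Blocks p P D) := by
  obtain ⟨n, a, l, g, k1, k2, k3⟩ := h.blk_ind _ ⊤ rfl (fun _ _ => trivial) fun _ _ _ => trivial
  refine ⟨⟨n, a, l, g, basisOfTopLeSpanOfCardEqFinrank (fun s => (D ^ (s.2 : ℕ)) (g s.1))
    (k2.trans (Submodule.span_mono fun x ⟨i, j, hj, e⟩ => ⟨⟨i, ⟨j, hj⟩⟩, e.symm⟩)) ?_, fun i => (k1 i).1,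
    fun i => (k1 i).2.1, fun i => (k1 i).2.2.1, fun i => (k1 i).2.2.2, fun s => ?_⟩⟩
  · simpa using k3
  · rw [coe_basisOfTopLeSpanOfCardEqFinrank]

theorem Blocks.blk_range (Bl : Blocks p P D) (n : ℕ) : LinearMap.range (D ^ n) =
    Submodule.span k (Bl.b '' (Finset.univ.filter fun s : Σ i, Fin (Bl.l i) => n ≤ s.2 : Finset _)) := by
  refine le_antisymm ?_ (Submodule.span_le.2 ?_)
  · rw [LinearMap.range_eq_map, ← Bl.b.span_eq, Submodule.map_span, Submodule.span_le]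
    rintro _ ⟨_, ⟨⟨i, j⟩, rfl⟩, rfl⟩
    rw [Bl.bas, ← End.mul_apply, ← pow_add]
    by_cases hj : n + j < Bl.l i
    · exact Submodule.subset_span ⟨⟨i, ⟨n + j, hj⟩⟩, by simp, Bl.bas _⟩
    · obtain ⟨c, hc⟩ := Nat.exists_eq_add_of_le' (not_lt.1 hj)
      rw [hc, pow_add, End.mul_apply, Bl.kill, map_zero]
      exact Submodule.zero_mem _
  · rintro _ ⟨s, hs, rfl⟩
    obtain ⟨c, hc⟩ := Nat.exists_eq_add_of_le (show n ≤ s.2 by simpa using hs)
    exact ⟨(D ^ c) (Bl.g s.1), by rw [Bl.bas, hc, pow_add, End.mul_apply]⟩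

theorem Blocks.RR_eq (Bl : Blocks p P D) (h : IsGr p P D) (n : ℕ) (β : ZMod e) :
    RR P D n β = ∑ i, cnt (Bl.a i) n (Bl.l i) β := by
  rw [RR, Bl.blk_range, h.finrank_span_inf Bl.b (fun s => Bl.a s.1 + (s.2 : ℕ))
    (fun s => by rw [Bl.bas]; exact h.pow_wt (Bl.wt _) _), Finset.filter_filter, Finset.card_filter,
    Fintype.sum_sigma]
  refine Finset.sum_congr rfl fun i _ => ?_
  rw [Fin.sum_univ_eq_sum_range (fun j => if n ≤ j ∧ Bl.a i + (j : ℕ) = β then 1 else 0), ← Finset.card_filter, cnt]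
  congr 1
  ext j
  simp only [Finset.mem_filter, Finset.mem_range, Finset.mem_Ico]
  tauto

theorem Blocks.finrank_range (Bl : Blocks p P D) (n : ℕ) :
    finrank k (LinearMap.range (D ^ n)) = ∑ i, (Bl.l i - n) := by
  rw [Bl.blk_range, blk_finrank_span, Finset.card_filter, Fintype.sum_sigma]
  refine Finset.sum_congr rfl fun i _ => ?_
  rw [Fin.sum_univ_eq_sum_range (fun j => if n ≤ j then 1 else 0), ← Finset.card_filter, ← Nat.card_Ico]
  congr 1
  ext j
  simp only [Finset.mem_filter, Finset.mem_range, Finset.mem_Ico]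
  tauto

theorem Blocks.ph_le (Bl : Blocks p P D) {W : Type} [AddCommGroup W] [Module k W]
    [FiniteDimensional k W] {P' : ZMod e → End k W} {D' : End k W} (U : Submodule k (V →ₗ[k] W))
    (h1 : ∀ f ∈ U, f ∘ₗ D = D' ∘ₗ f) (h2 : ∀ f ∈ U, ∀ β, f ∘ₗ P β = P' β ∘ₗ f)
    (h3 : ∀ f ∈ U, ∀ (l : ℕ) (v : V), (D ^ l) v = 0 → f v ∈ LinearMap.range (D' ^ (p - l))) :
    finrank k U ≤ ∑ i, RR P' D' (p - Bl.l i) (Bl.a i) := by
  let Φ : U →ₗ[k] ∀ i, (LinearMap.range (D' ^ (p - Bl.l i)) ⊓ LinearMap.range (P' (Bl.a i)) : Submodule k W) :=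
    LinearMap.pi fun i => ((LinearMap.applyₗ (Bl.g i)) ∘ₗ U.subtype).codRestrict _ fun f =>
      ⟨h3 f.1 f.2 _ _ (Bl.kill i), f.1 (Bl.g i), by
        have := LinearMap.congr_fun (h2 f.1 f.2 (Bl.a i)) (Bl.g i)
        rw [LinearMap.comp_apply, Bl.wt] at this
        exact this.symm⟩
  have inj : Function.Injective Φ := by
    rw [← LinearMap.ker_eq_bot, eq_bot_iff]
    intro f hf
    refine Subtype.ext (Bl.b.ext fun s => ?_)
    have e0 : f.1 (Bl.g s.1) = 0 := congrArg Subtype.val (congrFun (LinearMap.mem_ker.1 hf) s.1)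
    have : ∀ j : ℕ, f.1 ((D ^ j) (Bl.g s.1)) = 0 := fun j => by
      induction j with
      | zero => exact e0
      | succ j ih =>
        rw [pow_succ', End.mul_apply, ← LinearMap.comp_apply, h1 f.1 f.2, LinearMap.comp_apply, ih, map_zero]
    rw [Bl.bas]
    exact this _
  have := LinearMap.finrank_le_finrank_of_injective inj
  rwa [Module.finrank_pi_fintype] at this

theorem Blocks.single (Bl : Blocks p P D) (h : Bl.n = 1) (i : Fin Bl.n) :
    Nonempty (Single P D (finrank k V) (Bl.a i)) := by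
  let _ : Unique (Fin Bl.n) := ⟨⟨i⟩, fun j => Fin.ext (by have := j.2; have := i.2; show j.1 = i.1; omega)⟩
  let b : Basis (Fin (Bl.l i)) k V := Bl.b.reindex (Equiv.uniqueSigma fun i => Fin (Bl.l i))
  rw [finrank_eq_card_basis b, Fintype.card_fin]
  exact ⟨⟨Bl.g i, b, Bl.wt i, Bl.kill i, fun j => by rw [Basis.reindex_apply, Bl.bas]; rfl⟩⟩

end CfsgLib.LowD2
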