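import Cfsg.Agent.Lib.LowD2.Defs

set_option autoImplicit false

namespace CfsgLib.LowD2

open Cfsg CfsgLib.Char CfsgLib.PF CfsgLib.BG CfsgLib.DefectOne CfsgLib.DefectOne.B43
  CfsgLib.LowDeg Module Subgroup
open scoped ComplexConjugate

variable {G : Type*} [Group G] [Finite G] {p : ℕ} [Fact p.Prime] {x : G} {e : ℕ} [NeZero e]
  {B : ValuationSubring ℂ} [CharP (kk B) p] {hs : Syl p x} {t : ℕ} {h0 : G} {ν : (ZMod p)ˣ}
  {w : AddChar (ZMod e) B} {ω : AddChar (ZMod p) ℂ} {θ φ ψ : G → ℂ} {κ : Bˣ}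

omit [Finite G] in
theorem chr_center_le (x : G) : center G ≤ CC x := fun _ hz => mem_CC.2 (mem_center_iff.1 hz x)

/-- `w` with complex values -/
noncomputable def chr_wc (w : AddChar (ZMod e) B) : AddChar (ZMod e) ℂ := B.subtype.toMonoidHom.compAddChar w

theorem exists_bset (hs : Syl p x) (B : ValuationSubring ℂ) [CharP (kk B) p] (he : ee x = e)
    (h2 : 2 ≤ e) (h3 : 2 * e < p) (hK : hs.KK = center G) :
    ∃ (t : ℕ) (h0 : G) (ν : (ZMod p)ˣ) (w : AddChar (ZMod e) B), BSet hs t h0 ν w := by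
  obtain ⟨⟨_, n, rfl⟩, hn⟩ := IsCyclic.exists_generator (α := hs.nuHom.range)
  have h1 : orderOf (hs.nuHom n) = e := by
    rw [← he, ← card_range_nuHom hs, ← orderOf_eq_card_of_forall_mem_zpowers hn]
    exact (Subgroup.orderOf_mk _ _).symm
  obtain ⟨H, hH⟩ := exists_cpl hs
  obtain ⟨i, h, hh, e1⟩ := hH.dec n n.2
  have hN := hH.le hh
  have xN := pow_mem (CC_le_NN x (self_mem_CC x)) i
  have h4 : hs.nu h = hs.nuHom n := by
    rw [hs.coe_nuHom, e1, hs.nu_mul xN hN, (hs.nu_eq_one_iff xN).2 (pow_mem (self_mem_CC x) i), one_mul]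
  have h5 : hs.nuHom ⟨h, hN⟩ = hs.nuHom n := Units.ext h4
  have h6 : h ^ e ∈ center G := by
    rw [← hK]
    refine hs.mem_KK.2 ⟨(hs.nu_eq_one_iff (pow_mem hN e)).1 ?_, fun k => hH.nd
      (k.trans (orderOf_dvd_natCard _ (pow_mem hh e)))⟩
    have := congrArg Units.val (map_pow hs.nuHom ⟨h, hN⟩ e)
    rw [h5, ← h1, pow_orderOf_eq_one, h1] at this
    exact this
  obtain ⟨t, ht⟩ := he ▸ ee_dvd hs
  have hp := hs.prime.pos
  have hζ := Complex.isPrimitiveRoot_exp e (NeZero.ne e)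
  let ζ : B := ⟨_, mem_of_pow_eq_one (NeZero.ne e) hζ.pow_eq_one⟩
  have hζ' : IsPrimitiveRoot ζ e := IsPrimitiveRoot.of_map_of_injective (f := B.subtype) hζ Subtype.val_injective
  have h7 : (e : kk B) ≠ 0 := fun k =>
    absurd (Nat.le_of_dvd (by omega) ((CharP.cast_eq_zero_iff (kk B) p e).1 k)) (by omega)
  have h8 : IsPrimitiveRoot (rs B ζ) e := by
    refine IsPrimitiveRoot.mk_of_lt _ (by omega) (by rw [← map_pow, hζ'.pow_eq_one, map_one]) fun l l0 le k => ?_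
    have k1 : (∑ j ∈ Finset.range e, (ζ ^ l) ^ j) * (ζ ^ l - 1) = 0 := by
      rw [geom_sum_mul, ← pow_mul, mul_comm, pow_mul, hζ'.pow_eq_one, one_pow, sub_self]
    have k2 := congrArg (rs B) ((mul_eq_zero.1 k1).resolve_right
      (sub_ne_zero.2 (hζ'.pow_ne_one_of_pos_of_lt l0.ne' le)))
    simp only [map_sum, map_pow, k, one_pow, Finset.sum_const, Finset.card_range, nsmul_eq_mul, mul_one,
      map_zero] at k2
    exact h7 k2
  obtain ⟨l, -, hl⟩ := h8.eq_pow_of_pow_eq_one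
    (ξ := ZMod.castHom (dvd_refl p) (kk B) (hs.nuHom n : ZMod p)) (by
      rw [← map_pow, ← Units.val_pow_eq_pow_val, ← h1, pow_orderOf_eq_one, Units.val_one, map_one])
  have h9 : (ζ ^ l) ^ e = 1 := by rw [← pow_mul, mul_comm, pow_mul, hζ'.pow_eq_one, one_pow]
  refine ⟨t, h, hs.nuHom n, AddChar.zmodChar e h9, he, by rw [mul_comm, ← ht]; omega, ?_, h2, hK, hN, h4, h1, h6, ?_⟩
  · by_contra k
    have : e * t ≤ e * 1 := Nat.mul_le_mul_left e (by omega)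
    omega
  · rw [← hl, ← map_pow, ← Nat.cast_one, AddChar.zmodChar_apply', pow_one]

theorem Over.mul {θ' : G → ℂ} (h : Over θ φ) (h' : Over θ' ψ) : Over (θ * θ') (φ * ψ) := by
  intro z hz g
  rw [Pi.mul_apply, Pi.mul_apply, Pi.mul_apply, h z hz, h' z hz]; ring

omit [Fact p.Prime] [NeZero e] [CharP (kk B) p] in
theorem LinD.sq (hθ : LinD x h0 e θ κ) : LinD x h0 e (θ * θ) (κ * κ) := by
  have hl : IsLin (CC x) θ := ⟨hθ.tr.1, hθ.one⟩
  refine ⟨⟨(hl.mul hl).1, by rw [Pi.mul_apply, Pi.mul_apply, hθ.tr.2]⟩, (hl.mul hl).2, ?_⟩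
  rw [Pi.mul_apply, ← hθ.pow, ← mul_pow]; rfl

namespace BSet

variable (hS : BSet hs t h0 ν w)
include hS

theorem exists_linD (hθ : Tr x θ) (h1 : θ 1 = 1) : ∃ κ : Bˣ, LinD x h0 e θ κ := by
  have hl : IsLin (CC x) θ := ⟨hθ.1, h1⟩
  have hc := chr_center_le x hS.reg
  obtain ⟨k, hk⟩ := IsAlgClosed.exists_pow_nat_eq (θ (h0 ^ e)) (NeZero.pos e)
  have h2 : k ^ (e * orderOf (h0 ^ e)) = 1 := by rw [pow_mul, hk, hl.pow_orderOf hc]
  have h3 := mul_ne_zero (NeZero.ne e) (orderOf_pos (h0 ^ e)).ne'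
  let k' : B := ⟨k, mem_of_pow_eq_one h3 h2⟩
  exact ⟨Units.ofPowEqOne k' _ (Subtype.ext h2) h3, hθ, h1, hk⟩

theorem wb_inj : Function.Injective (wb w) := by
  have h1 : IsPrimitiveRoot (wb w 1) e := by
    have : wb w 1 = (ZMod.castHom (dvd_refl p) (kk B)) (ν : ZMod p) := hS.res
    rw [this]
    refine IsPrimitiveRoot.map_of_injective ?_ (ZMod.castHom (dvd_refl p) (kk B)).injective
    rw [IsPrimitiveRoot.coe_units_iff, ← hS.ord]
    exact IsPrimitiveRoot.orderOf ν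
  have h2 : ∀ a : ZMod e, wb w a = wb w 1 ^ a.val := fun a => by
    rw [← AddChar.map_nsmul_eq_pow, nsmul_one, ZMod.natCast_zmod_val]
  intro a b k
  rw [h2 a, h2 b] at k
  exact ZMod.val_injective e (h1.pow_inj (ZMod.val_lt a) (ZMod.val_lt b) k)

/-- orthogonality -/
theorem sum_w (j : ZMod e) : ∑ β : ZMod e, ((w (β * j) : B) : ℂ) = if j = 0 then (e : ℂ) else 0 := by
  have h1 : (chr_wc w).IsPrimitive := fun a ha k => ha (hS.wb_inj (by
    have k1 : chr_wc w (a * 1) = 1 := DFunLike.congr_fun k 1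
    rw [mul_one] at k1
    have k2 : w a = 1 := Subtype.ext k1
    change rs B (w a) = rs B (w 0)
    rw [k2, AddChar.map_zero_eq_one]))
  have := AddChar.sum_mulShift j h1
  rw [ZMod.card] at this
  exact this.trans (by split_ifs <;> simp)

theorem conj_w (j : ZMod e) : conj ((w j : B) : ℂ) = ((w (-j) : B) : ℂ) := by
  exact ((chr_wc w).map_neg_eq_conj j).symm

theorem chr_nu_pow (j : ℕ) : hs.nu (h0 ^ j) = ((ν ^ j : (ZMod p)ˣ) : ZMod p) := by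
  have h5 : hs.nuHom ⟨h0, hS.mem⟩ = ν := Units.ext hS.nu
  exact congrArg Units.val ((map_pow hs.nuHom ⟨h0, hS.mem⟩ j).trans (by rw [h5]))

theorem chr_range : hs.nuHom.range = zpowers ν :=
  (eq_of_le_of_card_ge (zpowers_le.2 (MonoidHom.mem_range.2 ⟨⟨h0, hS.mem⟩, Units.ext hS.nu⟩)) (by
    rw [card_range_nuHom hs, Nat.card_zpowers, hS.ord, hS.ee_eq])).symm

theorem chr_dec {g : G} (hg : g ∈ NN x) : ∃ j : ZMod e, ∃ c ∈ CC x, g = c * h0 ^ j.val := by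
  obtain ⟨j, hj⟩ := exists_pow_eq_of_mem_zpowers (hS.chr_range.le ⟨⟨g, hg⟩, rfl⟩)
  have hm := pow_mem hS.mem (j : ZMod e).val
  refine ⟨j, g * (h0 ^ (j : ZMod e).val)⁻¹, (hs.nu_eq_one_iff (mul_mem hg (inv_mem hm))).1 ?_, by group⟩
  refine mul_right_cancel₀ (hs.nu_ne_zero hm) ?_
  rw [← hs.nu_mul (mul_mem hg (inv_mem hm)) hm, inv_mul_cancel_right, one_mul, hS.chr_nu_pow, ZMod.val_natCast,
    ← hS.ord, pow_mod_orderOf, hj]
  rfl

/-- Fourier inversion -/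
theorem chr_four (φ : G → ℂ) (j : ZMod e) : ∑ β, mu w h0 κ φ β * ((w (β * j) : B) : ℂ) =
    ((κ : B) : ℂ)⁻¹ ^ j.val * φ (h0 ^ j.val) := by
  have h1 : (e : ℂ) ≠ 0 := Nat.cast_ne_zero.2 (NeZero.ne e)
  simp only [mu, Finset.mul_sum, Finset.sum_mul]
  rw [Finset.sum_comm]
  have k : ∀ i : ZMod e, ∑ β : ZMod e, (e : ℂ)⁻¹ * (((w (-(β * i)) : B) : ℂ) *
      (((κ : B) : ℂ)⁻¹ ^ i.val * φ (h0 ^ i.val))) * ((w (β * j) : B) : ℂ) =
      (e : ℂ)⁻¹ * (((κ : B) : ℂ)⁻¹ ^ i.val * φ (h0 ^ i.val)) * if j - i = 0 then (e : ℂ) else 0 := fun i => by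
    rw [← hS.sum_w, Finset.mul_sum]
    refine Finset.sum_congr rfl fun β _ => ?_
    rw [mul_sub, sub_eq_add_neg, w.map_add_eq_mul]
    push_cast
    ring
  simp only [k]
  rw [Finset.sum_eq_single j (fun i _ hi => by rw [if_neg (sub_ne_zero.2 hi.symm), mul_zero]) (by simp),
    sub_self, if_pos rfl]
  field_simp

theorem pow_mem_CC_iff {j : ℕ} : h0 ^ j ∈ CC x ↔ e ∣ j := by
  rw [← hs.nu_eq_one_iff (pow_mem hS.mem j), hS.chr_nu_pow, Units.val_eq_one, ← orderOf_dvd_iff_pow_eq_one, hS.ord]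

theorem sum_NN (F : G → ℂ) (h1 : ∀ n ∈ NN x, ∀ g ∈ NN x, F (n * g * n⁻¹) = F g)
    (h2 : ∀ z ∈ center G, ∀ g, F (z * g) = F g) :
    ∑ g ∈ els (NN x : Set G), F g = ∑ c ∈ els (CC x : Set G), F c +
      Nat.card (CC x) * (∑ j : ZMod e, F (h0 ^ j.val) - F 1) := by
  have k1 : ∑ g ∈ els (NN x : Set G), F g = ∑ j : ZMod e, ∑ c ∈ els (CC x : Set G), F (c * h0 ^ j.val) := by
    rw [← Finset.sum_product' (f := fun (j : ZMod e) c => F (c * h0 ^ j.val))]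
    refine (Finset.sum_bij (fun q _ => q.2 * h0 ^ q.1.val) (fun q hq => ?_) (fun q hq q' hq' k => ?_)
      (fun g hg => ?_) fun _ _ => rfl).symm
    · exact mem_els.2 (mul_mem (CC_le_NN x (mem_els.1 (Finset.mem_product.1 hq).2)) (pow_mem hS.mem _))
    · have c1 : q.2 ∈ CC x := mem_els.1 (Finset.mem_product.1 hq).2
      have c2 : q'.2 ∈ CC x := mem_els.1 (Finset.mem_product.1 hq').2
      have k2 := congrArg hs.nu k
      rw [hs.nu_mul (CC_le_NN x c1) (pow_mem hS.mem _), hs.nu_mul (CC_le_NN x c2) (pow_mem hS.mem _),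
        (hs.nu_eq_one_iff (CC_le_NN x c1)).2 c1, (hs.nu_eq_one_iff (CC_le_NN x c2)).2 c2, one_mul, one_mul,
        hS.chr_nu_pow, hS.chr_nu_pow, Units.val_inj] at k2
      have k3 : q.1 = q'.1 := ZMod.val_injective e (pow_injOn_Iio_orderOf
        (by rw [hS.ord]; exact ZMod.val_lt _) (by rw [hS.ord]; exact ZMod.val_lt _) k2)
      rw [k3] at k
      exact Prod.ext k3 (mul_right_cancel k)
    · obtain ⟨j, c, hc, rfl⟩ := hS.chr_dec (mem_els.1 hg)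
      exact ⟨(j, c), Finset.mem_product.2 ⟨Finset.mem_univ _, mem_els.2 hc⟩, rfl⟩
  have k2 : ∀ j : ZMod e, j ≠ 0 → ∑ c ∈ els (CC x : Set G), F (c * h0 ^ j.val) =
      Nat.card (CC x) * F (h0 ^ j.val) := fun j hj => by
    rw [← card_els_subgroup, ← nsmul_eq_mul, ← Finset.sum_const]
    refine Finset.sum_congr rfl fun c hc => ?_
    obtain ⟨i, y, hy, rfl⟩ := hs.exists_pow_mul (mem_els.1 hc)
    rw [hS.cent] at hy
    obtain ⟨v, hv, k⟩ := isConj_mul_of_notMem hs (pow_mem hS.mem j.val) (fun k => hj ((ZMod.val_eq_zero j).1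
      (Nat.eq_zero_of_dvd_of_lt (hS.pow_mem_CC_iff.1 k) (ZMod.val_lt j)))) (pow_mem (mem_zpowers x) i)
    rw [mem_center_iff.1 hy, mul_assoc, h2 y hy, ← k, h1 v (CC_le_NN x (zpowers_le_CC x hv)) _ (pow_mem hS.mem _)]
  rw [k1, ← Finset.add_sum_erase _ _ (Finset.mem_univ 0), ← Finset.add_sum_erase _ _ (Finset.mem_univ (0 : ZMod e)),
    Finset.sum_congr rfl fun j hj => k2 j (Finset.ne_of_mem_erase hj), ← Finset.mul_sum]
  simp only [ZMod.val_zero, pow_zero, mul_one, add_sub_cancel_left]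

variable (hθ : LinD x h0 e θ κ)
include hθ

theorem chr_cfJ {g : G} (hg : g ∈ NN x) : cfJ g θ = θ := by
  funext c
  rw [cfJ_apply]
  by_cases hc : c ∈ CC x
  · obtain ⟨i, y, hy, rfl⟩ := hs.exists_pow_mul hc
    rw [hS.cent] at hy
    rw [← conj_mul, ← conj_pow, conj_eq_pow hs hg, mem_center_iff.1 hy g, mul_inv_cancel_right, ← pow_mul,
      hθ.tr.pow_mul, hθ.tr.pow_mul]
  · rw [hθ.tr.1.1 c hc, hθ.tr.1.1 _ fun k => hc (by simpa [mul_assoc] using conj_mem_CC (inv_mem hg) k)]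

theorem cfclass_eq : cfclass (NN x) θ = {θ} := by
  ext χ
  rw [mem_cfclass, Finset.mem_singleton]
  exact ⟨fun ⟨g, hg, k⟩ => k.trans (hS.chr_cfJ hθ hg), fun k => ⟨1, one_mem _, k.trans (hS.chr_cfJ hθ (one_mem _)).symm⟩⟩

theorem EE_eq : hs.EE θ = zpowers ν := by
  ext a
  rw [hs.mem_EE, ← hS.chr_range]
  exact ⟨fun ⟨g, hg, _, k⟩ => ⟨⟨g, hg⟩, Units.ext k⟩,
    fun ⟨g, k⟩ => ⟨g, g.2, hS.chr_cfJ hθ g.2, congrArg Units.val k⟩⟩

theorem card_EE : Nat.card (hs.EE θ) = e := by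
  rw [hS.EE_eq hθ, Nat.card_zpowers, hS.ord]

theorem norm_kappa : ‖((κ : B) : ℂ)‖ = 1 := by
  have hl : IsLin (CC x) θ := ⟨hθ.tr.1, hθ.one⟩
  have := hl.norm_eq (chr_center_le x hS.reg)
  rwa [← hθ.pow, norm_pow, pow_eq_one_iff_of_nonneg (norm_nonneg _) (NeZero.ne e)] at this

theorem val_eq (hφ : Over θ φ) (j : ℕ) :
    φ (h0 ^ j) = ((κ : B) : ℂ) ^ j * ∑ β, mu w h0 κ φ β * ((w (β * j) : B) : ℂ) := by
  have hl : IsLin (CC x) θ := ⟨hθ.tr.1, hθ.one⟩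
  have k0 : ((κ : B) : ℂ) ≠ 0 := fun k => by simpa [k] using hS.norm_kappa hθ
  rw [hS.chr_four, ZMod.val_natCast]
  conv_lhs => rw [← Nat.div_add_mod j e, pow_add, pow_mul, hφ _ (pow_mem hS.reg _),
    hl.map_pow (chr_center_le x hS.reg), ← hθ.pow]
  conv_rhs => rw [← mul_assoc]
  congr 1
  conv_rhs => rw [← Nat.div_add_mod j e, pow_add, pow_mul, Nat.div_add_mod, mul_assoc, ← mul_pow,
    mul_inv_cancel₀ k0, one_pow, mul_one]

omit hθ in
theorem sum_mu : ∑ β, mu w h0 κ φ β = φ 1 := by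
  have := hS.chr_four (κ := κ) φ 0
  simpa using this

theorem parseval : ∑ β, mu w h0 κ φ β * conj (mu w h0 κ ψ β) =
    (e : ℂ)⁻¹ * ∑ j : ZMod e, φ (h0 ^ j.val) * conj (ψ (h0 ^ j.val)) := by
  have k1 : ((κ : B) : ℂ)⁻¹ * conj (((κ : B) : ℂ)⁻¹) = 1 := by
    rw [Complex.mul_conj, Complex.normSq_eq_norm_sq, norm_inv, hS.norm_kappa hθ]; simp
  have k2 : ∀ β, conj (mu w h0 κ ψ β) = (e : ℂ)⁻¹ * ∑ j : ZMod e, ((w (β * j) : B) : ℂ) *
      (conj (((κ : B) : ℂ)⁻¹) ^ j.val * conj (ψ (h0 ^ j.val))) := fun β => by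
    simp only [mu, map_mul, map_sum, map_inv₀, map_natCast, map_pow, hS.conj_w, neg_neg]
  simp only [k2, Finset.mul_sum]
  rw [Finset.sum_comm]
  refine Finset.sum_congr rfl fun j _ => ?_
  have k3 := hS.chr_four (κ := κ) φ j
  calc _ = (e : ℂ)⁻¹ * (∑ β, mu w h0 κ φ β * ((w (β * j) : B) : ℂ)) *
        (conj (((κ : B) : ℂ)⁻¹) ^ j.val * conj (ψ (h0 ^ j.val))) := by
        rw [Finset.mul_sum, Finset.sum_mul]
        exact Finset.sum_congr rfl fun β _ => by ring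
    _ = (e : ℂ)⁻¹ * ((((κ : B) : ℂ)⁻¹ * conj (((κ : B) : ℂ)⁻¹)) ^ j.val *
        (φ (h0 ^ j.val) * conj (ψ (h0 ^ j.val)))) := by rw [k3, mul_pow]; ring
    _ = _ := by rw [k1, one_pow, one_mul]

theorem NB_eq (hφ : Over θ φ) (b : ZMod p) :
    NB hs ω θ φ b = (p : ℂ)⁻¹ * ∑ i : ZMod p, φ (x ^ i.val) * ω (-(b * i)) := by
  have hl : IsLin (CC x) θ := ⟨hθ.tr.1, hθ.one⟩
  have k1 : ∀ i : ZMod p, ∑ y ∈ els (hs.KK : Set G), φ (x ^ i.val * y) * conj (θ y) =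
      Nat.card hs.KK * φ (x ^ i.val) := fun i => by
    rw [← card_els_subgroup, ← nsmul_eq_mul, ← Finset.sum_const]
    refine Finset.sum_congr rfl fun y hy => ?_
    have hy1 : y ∈ hs.KK := mem_els.1 hy
    have hy2 : y ∈ center G := hS.cent ▸ hy1
    rw [mem_center_iff.1 hy2, hφ y hy2, mul_right_comm, hl.mul_conj (hs.KK_le_CC hy1), one_mul]
  have h2 := cardC_ne_zero hs.KK
  rw [NB, hs.dot_lt hθ.tr, card_CC_eq hs, Finset.mul_sum, Finset.mul_sum]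
  refine Finset.sum_congr rfl fun i _ => ?_
  rw [k1]
  push_cast
  field_simp

theorem sum_NB (hω : ω.IsPrimitive) (hφ : Over θ φ) : ∑ b, NB hs ω θ φ b = φ 1 := by
  have h1 : (p : ℂ) ≠ 0 := Nat.cast_ne_zero.2 hs.prime.ne_zero
  simp only [hS.NB_eq hθ hφ, ← Finset.mul_sum]
  rw [Finset.sum_comm]
  simp only [← Finset.mul_sum, ← mul_neg, AddChar.sum_mulShift _ hω, neg_eq_zero, ZMod.card]
  rw [Finset.sum_eq_single 0 (fun i _ hi => by simp [hi]) (by simp)]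
  simp only [ZMod.val_zero, pow_zero, if_true]
  field_simp

end BSet

end CfsgLib.LowD2
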