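import Cfsg.Agent.Lib.LowD2.Defs

set_option autoImplicit false
set_option maxHeartbeats 400000

namespace CfsgLib.LowD2

open Finset

section

variable {e p t : ℕ} (a β : ZMod e)

theorem comb_add {m n r : ℕ} (h1 : m ≤ n) (h2 : n ≤ r) : cnt a m r β = cnt a m n β + cnt a n r β := by
  unfold cnt
  rw [← Ico_union_Ico_eq_Ico h1 h2, filter_union,
    card_union_of_disjoint (disjoint_filter_filter (Ico_disjoint_Ico_consecutive m n r))]

theorem comb_nil {m n : ℕ} (h : n ≤ m) : cnt a m n β = 0 := by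
  unfold cnt
  rw [Ico_eq_empty_of_le h, filter_empty, card_empty]

theorem comb_shift (m n r : ℕ) : cnt a (m + r) (n + r) β = cnt (a + (r : ZMod e)) m n β := by
  unfold cnt
  rw [← map_add_right_Ico, filter_map, card_map]
  congr 1
  refine filter_congr fun s _ => ?_
  simp only [Function.comp_apply, addRightEmbedding_apply, Nat.cast_add]
  rw [add_comm (s : ZMod e), add_assoc]

theorem comb_one (m : ℕ) : cnt a m (m + 1) β = if a + m = β then 1 else 0 := by
  unfold cnt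
  rw [Nat.Ico_succ_singleton, filter_singleton]
  split_ifs <;> rfl

theorem comb_sub (γ : ZMod e) (m n : ℕ) : cnt (a + γ) m n β = cnt a m n (β - γ) := by
  unfold cnt
  congr 1
  exact filter_congr fun s _ => by rw [eq_sub_iff_add_eq, add_right_comm]

theorem comb_euler (n : ℕ) : (cnt β 0 n a : ℤ) - cnt (β + 1) 0 n a =
    (if a = β then 1 else 0) - if a - n = β then 1 else 0 := by
  have h1 := comb_add β a (Nat.zero_le n) n.le_succ
  have h2 := comb_add β a (Nat.zero_le (0 + 1)) (Nat.succ_le_succ n.zero_le)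
  rw [comb_one, comb_shift, h1, comb_one, Nat.cast_zero, add_zero, Nat.cast_one] at h2
  simp only [@eq_comm _ a, @eq_comm _ (a - n), eq_sub_iff_add_eq]
  split_ifs at h2 ⊢ <;> omega

theorem comb_PH (n l : ℕ) : cnt a n l β + cnt a 0 (min n l) β = cnt a 0 l β := by
  rcases le_total n l with h | h
  · rw [min_eq_left h, add_comm, ← comb_add a β n.zero_le h]
  · rw [min_eq_right h, comb_nil a β h, zero_add]

theorem comb_le (n l : ℕ) : cnt a n l β ≤ cnt a 0 l (β - n) := by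
  rw [← comb_sub, ← comb_shift, zero_add]
  exact card_le_card (filter_subset_filter _ (Ico_subset_Ico le_rfl (Nat.le_add_right _ _)))

theorem comb_pos {l : ℕ} (h : 0 < l) : 0 < cnt a 0 l a :=
  card_pos.2 ⟨0, mem_filter.2 ⟨mem_Ico.2 ⟨le_rfl, h⟩, by simp⟩⟩

theorem comb_refl (hp : p = t * e + 1) (m : ℕ) {n : ℕ} (hn : n ≤ p) :
    cnt a m n β = cnt β (p - n) (p - m) a := by
  have h : ∀ s < p, ((p - 1 - s : ℕ) : ZMod e) = -s := fun s hs => by
    rw [Nat.cast_sub (by omega), hp, Nat.add_sub_cancel, Nat.cast_mul, ZMod.natCast_self, mul_zero, zero_sub]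
  refine card_nbij' (fun s => p - 1 - s) (fun s => p - 1 - s) (fun s hs => ?_) (fun s hs => ?_)
    (fun s hs => ?_) fun s hs => ?_ <;> simp only [coe_filter, mem_Ico, Set.mem_ofPred_eq] at hs ⊢
  · exact ⟨by omega, by rw [h s (by omega), ← hs.2, add_neg_cancel_right]⟩
  · exact ⟨by omega, by rw [h s (by omega), ← hs.2, add_neg_cancel_right]⟩
  · omega
  · omega

variable [NeZero e]

theorem comb_te (t : ℕ) : cnt a 0 (t * e) β = t := by
  induction t with
  | zero => exact comb_nil a β (by simp)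
  | succ t ih =>
    have h : cnt a 0 e β = 1 := card_eq_one.2 ⟨(β - a).val, by
      ext s
      simp only [mem_filter, mem_Ico, Nat.zero_le, true_and, mem_singleton]
      exact ⟨fun ⟨h1, h2⟩ => by rw [← h2, add_sub_cancel_left, ZMod.val_cast_of_lt h1],
        fun h => by rw [h]; exact ⟨ZMod.val_lt _, by simp⟩⟩⟩
    have h2 := comb_shift a β 0 (t * e) e
    rw [zero_add, ZMod.natCast_self, add_zero, ih] at h2
    rw [Nat.succ_mul, comb_add a β e.zero_le (Nat.le_add_left _ _), h, h2, add_comm]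

theorem comb_IJ (hp : p = t * e + 1) {l : ℕ} (hl : l ≤ p) :
    (cnt a 0 l β : ℤ) = t + (if a = β then 1 else 0) - cnt β 0 (p - l) a := by
  have h1 := comb_add a β l.zero_le hl
  have h2 := comb_add a β (t * e).zero_le (t * e).le_succ
  rw [comb_te, comb_one, Nat.cast_mul, ZMod.natCast_self, mul_zero, add_zero, Nat.succ_eq_add_one, ← hp, h1,
    comb_refl a β hp l le_rfl, Nat.sub_self] at h2
  split_ifs at h2 ⊢ <;> omega

omit a β

theorem comb_quad {ε W K : ℤ} {w : ZMod e → ℤ} (ht : 2 ≤ t) (hε : ε = 1 ∨ ε = -1) (hW : ∑ β, w β = W)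
    (hK : 0 ≤ K) (h : 2 * ε * W + t * W ^ 2 + ∑ β, w β ^ 2 + 2 * K ≤ 0) : W = 0 ∧ (∀ β, w β = 0) ∧ K = 0 := by
  have h1 : W ≤ ∑ β, w β ^ 2 := hW ▸ sum_le_sum fun β _ => Int.le_self_sq _
  have h2 : -W ≤ ∑ β, w β ^ 2 := by
    rw [← hW, ← sum_neg_distrib]
    exact sum_le_sum fun β _ => by rw [← neg_sq]; exact Int.le_self_sq _
  have ht' : (2 : ℤ) ≤ t := by exact_mod_cast ht
  have h3 : W = 0 := by
    by_contra h0
    rcases lt_or_gt_of_ne h0 with h0 | h0 <;> rcases hε with rfl | rfl <;> nlinarith [sq_nonneg W]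
  subst h3
  have h4 : 0 ≤ ∑ β, w β ^ 2 := sum_nonneg fun β _ => sq_nonneg _
  refine ⟨rfl, fun β => ?_, by nlinarith⟩
  exact pow_eq_zero_iff two_ne_zero |>.1
    ((sum_eq_zero_iff_of_nonneg fun β _ => sq_nonneg (w β)).1 (by nlinarith) β (mem_univ _))

theorem comb_const {b : ZMod e → ℤ} {ε : ℤ} (h : ∑ β, (b β + ε) * (b β - b (β + 1)) ≤ 0) (β γ : ZMod e) :
    b β = b γ := by
  have h1 := Equiv.sum_comp (Equiv.addRight (1 : ZMod e)) fun β => b β ^ 2 + 2 * ε * b β
  have h2 : ∑ β, (b β - b (β + 1)) ^ 2 = 2 * ∑ β, (b β + ε) * (b β - b (β + 1)) := by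
    rw [mul_sum, ← sub_eq_zero, ← sum_sub_distrib, ← sub_eq_zero.2 h1, ← sum_sub_distrib]
    exact sum_congr rfl fun β _ => by simp only [Equiv.coe_addRight]; ring
  have h3 : ∀ β, b β = b (β + 1) := fun β => sub_eq_zero.1 (pow_eq_zero_iff two_ne_zero |>.1
    ((sum_eq_zero_iff_of_nonneg fun β _ => sq_nonneg (b β - b (β + 1))).1
      (le_antisymm (by omega) (sum_nonneg fun β _ => sq_nonneg _)) β (mem_univ _)))
  have h4 : ∀ n : ℕ, b n = b 0 := fun n => by
    induction n with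
    | zero => rw [Nat.cast_zero]
    | succ n ih => rw [Nat.cast_succ, ← h3, ih]
  rw [← ZMod.natCast_zmod_val β, ← ZMod.natCast_zmod_val γ, h4, h4]

theorem comb_fib {ι : Type*} (S : Finset ι) (a : ι → ZMod e) (F : ZMod e → ℤ) :
    ∑ i ∈ S, F (a i) = ∑ β, (∑ i ∈ S, if a i = β then 1 else 0) * F β := by
  simp only [sum_mul, ite_mul, one_mul, zero_mul]
  rw [sum_comm]
  simp

end


theorem comb {e p t n : ℕ} [NeZero e] (hp : p = t * e + 1) (ht : 2 ≤ t) (a : Fin n → ZMod e)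
    (l : Fin n → ℕ) (hl : ∀ i, 0 < l i ∧ l i ≤ p) {ε : ℤ} (hε : ε = 1 ∨ ε = -1) (c : ZMod e → ℤ)
    (h1 : ∀ β, ((∑ i, cnt (a i) 0 (l i) β : ℕ) : ℤ) = ε + c β + t * ∑ γ, c γ)
    (h2 : 2 * ε * ∑ γ, c γ + t * (∑ γ, c γ) ^ 2 + ∑ γ, c γ ^ 2 ≤
      ((∑ i, ∑ j, cnt (a j) (p - l i) (l j) (a i) : ℕ) : ℤ)) :
    (∀ β, c β = (Finset.univ.filter fun i => p < 2 * l i ∧ a i = β).card) ∧
    (ε = -1 → (∀ i, p < 2 * l i) ∧ (∃ i, l i < p) ∧ ∀ F : ZMod e → ℕ,
      ∑ i, F (a i) = ∑ i, F (a i - ((p - l i : ℕ) : ZMod e))) ∧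
    (ε = 1 → (∀ i, p < 2 * l i → l i = p) ∧ ∀ β,
      ∑ i ∈ Finset.univ.filter (fun i => ¬ p < 2 * l i), cnt (a i) 0 (l i) β = 1) := by
  set L := univ.filter fun i => p < 2 * l i with hL
  set S := univ.filter fun i => ¬ p < 2 * l i with hS
  have mL : ∀ {i}, i ∈ L ↔ p < 2 * l i := by simp [hL]
  have mS : ∀ {i}, i ∈ S ↔ ¬ p < 2 * l i := by simp only [hS, mem_filter, mem_univ, true_and, implies_true]
  have split : ∀ f : Fin n → ℤ, ∑ i, f i = ∑ i ∈ L, f i + ∑ i ∈ S, f i := fun f =>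
    (sum_filter_add_sum_filter_not _ _ f).symm
  obtain ⟨s, hs⟩ : ∃ s : ZMod e → ℤ, ∀ β, s β = ∑ j ∈ S, (cnt (a j) 0 (l j) β : ℤ) := ⟨_, fun _ => rfl⟩
  obtain ⟨b, hb⟩ : ∃ b : ZMod e → ℤ, ∀ β, b β = ∑ i ∈ L, (cnt β 0 (p - l i) (a i) : ℤ) := ⟨_, fun _ => rfl⟩
  obtain ⟨N, hN⟩ : ∃ N : ZMod e → ℤ, ∀ β, N β = ∑ i ∈ L, if a i = β then 1 else 0 := ⟨_, fun _ => rfl⟩
  obtain ⟨H, hH⟩ : ∃ H : Fin n → Fin n → ℤ, ∀ i j, H i j = cnt (a j) 0 (min (p - l i) (l j)) (a i) :=
    ⟨_, fun _ _ => rfl⟩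
  have fib : ∀ F : ZMod e → ℤ, ∑ i ∈ L, F (a i) = ∑ β, N β * F β := fun F => by
    simp only [hN]; exact comb_fib L a F
  have hN1 : ∑ β, N β = L.card := by simpa using (fib fun _ => 1).symm
  have e1 : ∀ β, s β = b β + ε + (c β - N β) + t * (∑ γ, c γ - L.card) := fun β => by
    have := h1 β
    rw [Nat.cast_sum, split, ← hs, sum_congr rfl fun i _ => comb_IJ (a i) β hp (hl i).2, sum_sub_distrib,
      sum_add_distrib, ← hb, ← hN, sum_const, nsmul_eq_mul] at this
    linarith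
  have PH : ∀ i j, (cnt (a j) (p - l i) (l j) (a i) : ℤ) = cnt (a j) 0 (l j) (a i) - H i j := fun i j => by
    rw [hH, ← comb_PH (a j) (a i) (p - l i) (l j)]; push_cast; ring
  have e2 : ((∑ i, ∑ j, cnt (a j) (p - l i) (l j) (a i) : ℕ) : ℤ) = t * (L.card : ℤ) ^ 2 + ∑ β, N β * N β +
      2 * ∑ β, N β * (s β - b β) - 2 * ∑ i ∈ L, ∑ j ∈ S, H i j := by
    have a1 : ∀ i ∈ L, ∀ j ∈ L, (cnt (a j) (p - l i) (l j) (a i) : ℤ) = t + (if a j = a i then 1 else 0) -
        cnt (a i) 0 (p - l j) (a j) - cnt (a j) 0 (p - l i) (a i) := fun i hi j hj => by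
      rw [PH, hH, min_eq_left (by have := mL.1 hi; have := mL.1 hj; omega), comb_IJ _ _ hp (hl j).2]
    have a2 : ∀ i ∈ S, ∀ j ∈ S, (cnt (a j) (p - l i) (l j) (a i) : ℤ) = 0 := fun i hi j hj => by
      rw [comb_nil _ _ (by have := mS.1 hi; have := mS.1 hj; omega), Nat.cast_zero]
    have a3 : ∀ i j, cnt (a j) (p - l i) (l j) (a i) = cnt (a i) (p - l j) (l i) (a j) := fun i j => by
      rw [comb_refl _ _ hp _ (hl j).2, Nat.sub_sub_self (hl i).2]
    have a4 : ∑ i ∈ L, ∑ j ∈ S, (cnt (a j) (p - l i) (l j) (a i) : ℤ) =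
        ∑ i ∈ L, s (a i) - ∑ i ∈ L, ∑ j ∈ S, H i j := by
      simp only [PH, sum_sub_distrib, hs]
    have a5 : ∑ i ∈ L, ∑ j ∈ L, (cnt (a j) (p - l i) (l j) (a i) : ℤ) =
        t * (L.card : ℤ) ^ 2 + ∑ i ∈ L, N (a i) - 2 * ∑ i ∈ L, b (a i) := by
      rw [sum_congr rfl fun i hi => sum_congr rfl (a1 i hi)]
      simp only [sum_sub_distrib, sum_add_distrib, sum_const, nsmul_eq_mul]
      rw [sum_comm (s := L) (t := L) (f := fun i j => (cnt (a j) 0 (p - l i) (a i) : ℤ))]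
      simp only [← hb, ← hN]
      ring
    push_cast
    simp only [split]
    rw [sum_add_distrib, sum_add_distrib, sum_congr rfl fun i hi => sum_congr rfl (a2 i hi),
      sum_comm (s := S) (t := L), sum_congr rfl fun j _ => sum_congr rfl fun i _ => congrArg _ (a3 i j), a4, a5,
      ← fib N, ← fib fun β => s β - b β, sum_sub_distrib]
    simp only [sum_const_zero]
    ring
  have H0 : ∀ i j, 0 ≤ H i j := fun i j => by rw [hH]; positivity
  obtain ⟨hW, hw, hK⟩ := comb_quad (w := fun β => c β - N β) (W := ∑ γ, c γ - L.card) ht hε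
    (by rw [sum_sub_distrib, hN1]) (sum_nonneg fun i (_ : i ∈ L) => sum_nonneg fun j (_ : j ∈ S) => H0 i j) (by
      have a1 : ∑ β, N β * (s β - b β) = (ε + t * (∑ γ, c γ - L.card)) * L.card + ∑ β, N β * (c β - N β) := by
        rw [← hN1, mul_sum, ← sum_add_distrib]
        exact sum_congr rfl fun β _ => by rw [e1, hN1]; ring
      have a2 : ∑ β, c β ^ 2 = ∑ β, (c β - N β) ^ 2 + 2 * ∑ β, N β * (c β - N β) + ∑ β, N β * N β := by
        rw [mul_sum, ← sum_add_distrib, ← sum_add_distrib]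
        exact sum_congr rfl fun β _ => by ring
      rw [e2, a1, a2] at h2
      linarith)
  replace e1 : ∀ β, s β = b β + ε := fun β => by rw [e1, hW, hw β]; ring
  have H1 : ∀ i ∈ L, ∀ j ∈ S, H i j = 0 := fun i hi => (sum_eq_zero_iff_of_nonneg fun j _ => H0 i j).1
    ((sum_eq_zero_iff_of_nonneg fun i _ => sum_nonneg fun j _ => H0 i j).1 hK i hi)
  have e3 : ∀ β, b β - b (β + 1) = N β - ∑ i ∈ L, if a i - (p - l i : ℕ) = β then 1 else 0 := fun β => by
    rw [hb, hb, hN, ← sum_sub_distrib, ← sum_sub_distrib]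
    exact sum_congr rfl fun i _ => comb_euler _ _ _
  have bc := comb_const (b := b) (ε := ε) (by
    simp only [← e1, e3, mul_comm (s _), sub_mul, sum_sub_distrib]
    rw [← fib, ← comb_fib L (fun i => a i - ((p - l i : ℕ) : ZMod e)) s, ← sum_sub_distrib]
    refine sum_nonpos fun i hi => ?_
    rw [hs, hs, ← sum_sub_distrib]
    refine sum_nonpos fun j hj => ?_
    have a1 := PH i j
    have a2 := comb_le (a j) (a i) (p - l i) (l j)
    rw [H1 i hi j hj] at a1
    omega)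
  have b0 : ∀ β, 0 ≤ b β := fun β => by rw [hb]; positivity
  have s0 : ∀ β, 0 ≤ s β := fun β => by rw [hs]; positivity
  refine ⟨fun β => ?_, ?_⟩
  · rw [sub_eq_zero.1 (hw β), hN, sum_boole, hL, filter_filter]
  rcases S.eq_empty_or_nonempty with h0 | h0
  · have a1 : ∀ β, b β + ε = 0 := fun β => by rw [← e1, hs, h0, sum_empty]
    have a2 : ∀ i, p < 2 * l i := fun i => by
      by_contra hi
      exact notMem_empty i (h0 ▸ mS.2 hi)
    have a3 : L = univ := eq_univ_of_forall fun i => mL.2 (a2 i)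
    refine ⟨fun hε => ⟨a2, ?_, fun F => ?_⟩, fun hε => by have := a1 0; have := b0 0; omega⟩
    · by_contra! hn
      have a4 := a1 0
      rw [hb, sum_eq_zero fun i _ => by rw [comb_nil _ _ (by have := hn i; omega), Nat.cast_zero]] at a4
      omega
    · zify
      rw [← a3, fib fun β => F β, comb_fib L (fun i => a i - ((p - l i : ℕ) : ZMod e)) fun β => F β]
      exact sum_congr rfl fun β _ => by rw [← sub_eq_zero.1 ((e3 β).symm.trans (sub_eq_zero.2 (bc _ _)))]
  · obtain ⟨j, hj, hm⟩ := exists_max_image S l h0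
    have a1 : 0 < s (a j) := by
      rw [hs]
      exact sum_pos' (fun _ _ => by positivity) ⟨j, hj, by exact_mod_cast comb_pos _ (hl j).1⟩
    have a2 : ∀ i ∈ L, p - l i < l j := fun i hi => by
      by_contra! hn
      have a3 : s (a i) = 0 := by
        rw [hs]
        exact sum_eq_zero fun k hk => by rw [← H1 i hi k hk, hH, min_eq_right ((hm k hk).trans hn)]
      rw [e1] at a1 a3
      have := bc (a i) (a j)
      omega
    have a3 : ∀ β, b β = 0 := fun β => by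
      rw [bc β (a j), hb]
      exact sum_eq_zero fun i hi => by rw [← H1 i hi j hj, hH, min_eq_left (a2 i hi).le]
    refine ⟨fun hε => by have := e1 0; have := s0 0; have := a3 0; omega, fun hε => ⟨fun i hi => ?_, fun β => ?_⟩⟩
    · by_contra hn
      have a4 := (sum_eq_zero_iff_of_nonneg fun k _ => by positivity).1 ((hb _).symm.trans (a3 (a i))) i (mL.2 hi)
      have a5 := comb_pos (a i) (l := p - l i) (by have := (hl i).2; omega)
      omega
    · zify
      rw [← hs, e1, a3, hε, zero_add]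

end CfsgLib.LowD2
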