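import Cfsg.Agent.Lib.LowD2.Lat

/-!
Definitions for the study of faithful characters of degree less than `p - 1`.
-/

set_option autoImplicit false

namespace CfsgLib.LowD2

open Cfsg CfsgLib.DefectOne CfsgLib.DefectOne.B43 CfsgLib.PF Module Subgroup

/-- the number of `s ∈ [m, n)` with `a + s = β` -/
def cnt {e : ℕ} (a : ZMod e) (m n : ℕ) (β : ZMod e) : ℕ :=
  ((Finset.Ico m n).filter fun s : ℕ => a + s = β).card

section lin

variable {k : Type} [Field k] {e : ℕ} [NeZero e] {V : Type} [AddCommGroup V] [Module k V]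

/-- a grading by `ZMod e` (projections `P`) with a nilpotent operator `D` of degree one -/
structure IsGr (p : ℕ) (P : ZMod e → End k V) (D : End k V) : Prop where
  sum : ∑ β, P β = 1
  orth : ∀ β γ, P β * P γ = if β = γ then P β else 0
  shift : ∀ β, P (β + 1) * D = D * P β
  nil : D ^ p = 0

/-- the dimension of the component of weight `β` of the image of `D ^ n` -/
noncomputable def RR (P : ZMod e → End k V) (D : End k V) (n : ℕ) (β : ZMod e) : ℕ :=
  finrank k (LinearMap.range (D ^ n) ⊓ LinearMap.range (P β) : Submodule k V)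

/-- a decomposition into homogeneous Jordan blocks -/
structure Blocks (p : ℕ) (P : ZMod e → End k V) (D : End k V) where
  n : ℕ
  a : Fin n → ZMod e
  l : Fin n → ℕ
  g : Fin n → V
  b : Basis (Σ i, Fin (l i)) k V
  pos : ∀ i, 0 < l i
  le : ∀ i, l i ≤ p
  wt : ∀ i, P (a i) (g i) = g i
  kill : ∀ i, (D ^ l i) (g i) = 0
  bas : ∀ s, b s = (D ^ (s.2 : ℕ)) (g s.1)

/-- a single homogeneous Jordan block -/
structure Single (P : ZMod e → End k V) (D : End k V) (d : ℕ) (a : ZMod e) where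
  v : V
  b : Basis (Fin d) k V
  wt : P a v = v
  kill : (D ^ d) v = 0
  bas : ∀ i, b i = (D ^ (i : ℕ)) v

/-- the homogeneous replacement of `X - 1` -/
noncomputable def DD (k : Type) [Field k] (p : ℕ) [Fact p.Prime] [CharP k p] {R : Type} [Ring R]
    [Algebra k R] (X : R) : R :=
  ∑ a : (ZMod p)ˣ, ZMod.castHom (dvd_refl p) k ((a⁻¹ : (ZMod p)ˣ) : ZMod p) • X ^ (a : ZMod p).val

/-- the projection onto the eigenspace of `A` for the eigenvalue `w β` -/
noncomputable def PP (w : AddChar (ZMod e) k) {R : Type} [Ring R] [Algebra k R] (A : R)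
    (β : ZMod e) : R := (e : k)⁻¹ • ∑ j : ZMod e, w (-(β * j)) • A ^ j.val

variable {p : ℕ} [Fact p.Prime] [CharP k p]

/-- a module for the group `⟨X⟩ ⋊ ⟨A⟩` of order `p e` -/
structure IsMd (w : AddChar (ZMod e) k) (ν : (ZMod p)ˣ) (A X : End k V) : Prop where
  inj : Function.Injective w
  one : w 1 = ZMod.castHom (dvd_refl p) k (ν : ZMod p)
  powA : A ^ e = 1
  powX : X ^ p = 1
  comm : A * X = X ^ (ν : ZMod p).val * A

/-- `W` is the tensor product of `V1` and `V2` -/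
structure TenHyp {V1 V2 W : Type} [AddCommGroup V1] [Module k V1] [AddCommGroup V2] [Module k V2]
    [AddCommGroup W] [Module k W] (w : AddChar (ZMod e) k) (ν : (ZMod p)ˣ)
    (τ : V1 →ₗ[k] V2 →ₗ[k] W) (A1 X1 : End k V1) (A2 X2 : End k V2) (A X : End k W) : Prop where
  md1 : IsMd w ν A1 X1
  md2 : IsMd w ν A2 X2
  md : IsMd w ν A X
  span : ∀ U : Submodule k W, (∀ u v, τ u v ∈ U) → U = ⊤
  dim : finrank k W = finrank k V1 * finrank k V2
  hA : ∀ u v, A (τ u v) = τ (A1 u) (A2 v)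
  hX : ∀ u v, X (τ u v) = τ (X1 u) (X2 v)

end lin

section grp

variable {G : Type*} [Group G] [Finite G] {p : ℕ} [Fact p.Prime] {x : G} {e : ℕ} [NeZero e]
  {B : ValuationSubring ℂ} [CharP (kk B) p]

/-- `C(x) = ⟨x⟩ × Z`, `h0` generates `N(x)` modulo `C(x)` -/
structure BSet (hs : Syl p x) (t : ℕ) (h0 : G) (ν : (ZMod p)ˣ) (w : AddChar (ZMod e) B) : Prop where
  ee_eq : ee x = e
  pt : p = t * e + 1
  two : 2 ≤ t
  e2 : 2 ≤ e
  cent : hs.KK = center G
  mem : h0 ∈ NN x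
  nu : hs.nu h0 = ν
  ord : orderOf ν = e
  reg : h0 ^ e ∈ center G
  res : rs B (w 1) = ZMod.castHom (dvd_refl p) (kk B) (ν : ZMod p)

/-- a linear character of `C(x)` trivial on `x`, and an `e`-th root of its value at `h0 ^ e` -/
structure LinD (x h0 : G) (e : ℕ) (θ : G → ℂ) (κ : Bˣ) : Prop where
  tr : Tr x θ
  one : θ 1 = 1
  pow : ((κ : B) : ℂ) ^ e = θ (h0 ^ e)

/-- `φ` lies over the central character `θ` -/
def Over (θ φ : G → ℂ) : Prop := ∀ z ∈ center G, ∀ g, φ (z * g) = θ z * φ g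

/-- the multiplicity of the eigenvalue `κ * w β` of `h0` -/
noncomputable def mu (w : AddChar (ZMod e) B) (h0 : G) (κ : Bˣ) (φ : G → ℂ) (β : ZMod e) : ℂ :=
  (e : ℂ)⁻¹ * ∑ j : ZMod e, ((w (-(β * j)) : B) : ℂ) * (((κ : B) : ℂ)⁻¹ ^ j.val * φ (h0 ^ j.val))

/-- the multiplicity of the eigenvalue `ω b` of `x` -/
noncomputable def NB (hs : Syl p x) (ω : AddChar (ZMod p) ℂ) (θ φ : G → ℂ) (b : ZMod p) : ℂ :=
  dot (CC x) φ (hs.lt ω b θ)

/-- the reduction of `w` -/
noncomputable def wb (w : AddChar (ZMod e) B) : AddChar (ZMod e) (kk B) :=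
  (rs B).toMonoidHom.compAddChar w

variable {ι : Type} [Fintype ι] [DecidableEq ι]

/-- the normalized action of `h0` on the reduction of a lattice -/
noncomputable def AT (h0 : G) (κ : Bˣ) (T : G →* Matrix ι ι B) : End (kk B) (ι → kk B) :=
  rs B ((κ⁻¹ : Bˣ) : B) • rep (rs B) T h0

/-- the grading of the reduction of a lattice -/
noncomputable abbrev PT (w : AddChar (ZMod e) B) (h0 : G) (κ : Bˣ) (T : G →* Matrix ι ι B) :
    ZMod e → End (kk B) (ι → kk B) := PP (wb w) (AT h0 κ T)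

/-- the nilpotent operator on the reduction of a lattice -/
noncomputable abbrev DT (p : ℕ) [Fact p.Prime] [CharP (kk B) p] (x : G) (T : G →* Matrix ι ι B) :
    End (kk B) (ι → kk B) := DD (kk B) p (rep (rs B) T x)

/-- the character of a lattice -/
noncomputable abbrev chT (T : G →* Matrix ι ι B) : G → ℂ := (rep B.subtype T).character

/-- The exceptional characters of the block over `θ` have sign `-1` and degree `d = p - e`. -/
structure Zeta {hs : Syl p x} {ω : AddChar (ZMod p) ℂ} {θ : G → ℂ} (D : GenData hs ω ⊤ θ)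
    (t : ℕ) (h0 : G) (w : AddChar (ZMod e) B) (κ : Bˣ) (d : ℕ) (a0 : ZMod e) : Prop where
  neg : D.ε = -1
  deg : d + e = p
  val : ∀ (a : (ZMod p)ˣ) (j : ℕ), D.Y a (h0 ^ j) = ((κ : B) : ℂ) ^ j *
    ((if e ∣ j then ((t : ℂ) - 1) * e else 0) + ((w (a0 * j) : B) : ℂ))
  lat : ∀ a, ∃ (n : ℕ) (T : G →* Matrix (Fin n) (Fin n) B), chT T = D.Y a ∧
    Nonempty (Single (PT w h0 κ T) (DT p x T) d a0)

/-- The block structure of the reductions of the exceptional characters. -/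
structure Star {hs : Syl p x} {ω : AddChar (ZMod p) ℂ} {θ : G → ℂ} (D : GenData hs ω ⊤ θ)
    (t : ℕ) (h0 : G) (w : AddChar (ZMod e) B) (κ : Bˣ) (c : ZMod e → ℕ) : Prop where
  mu_eq : ∀ a β, mu w h0 κ (D.Y a) β = D.ε + c β + t * ∑ γ, (c γ : ℂ)
  nb : ∀ a, NB hs ω θ (D.Y a) 0 = ∑ γ, (c γ : ℂ)
  lat : ∀ a, ∃ (n : ℕ) (T : G →* Matrix (Fin n) (Fin n) B)
    (Bl : Blocks p (PT w h0 κ T) (DT p x T)), chT T = D.Y a ∧
    (∀ β, c β = (Finset.univ.filter fun i => p < 2 * Bl.l i ∧ Bl.a i = β).card) ∧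
    (D.ε = -1 → (∀ i, p < 2 * Bl.l i) ∧ (∃ i, Bl.l i < p) ∧ ∀ F : ZMod e → ℕ,
      ∑ i, F (Bl.a i) = ∑ i, F (Bl.a i - ((p - Bl.l i : ℕ) : ZMod e))) ∧
    (D.ε = 1 → (∀ i, p < 2 * Bl.l i → Bl.l i = p) ∧ ∀ β,
      ∑ i ∈ Finset.univ.filter (fun i => ¬ p < 2 * Bl.l i), cnt (Bl.a i) 0 (Bl.l i) β = 1)

end grp

end CfsgLib.LowD2
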