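import Cfsg.Agent.Lib.LowD2.Chr

set_option autoImplicit false

namespace CfsgLib.LowD2

open Cfsg CfsgLib.Char CfsgLib.PF CfsgLib.BG CfsgLib.DefectOne CfsgLib.DefectOne.B43
  CfsgLib.LowDeg Module Subgroup
open scoped ComplexConjugate

theorem key_sum {M : Type*} [AddCommMonoid M] (n : ℕ) [NeZero n] (f : ℕ → M) :
    ∑ j : ZMod n, f j.val = ∑ j ∈ Finset.range n, f j := by
  cases n with
  | zero => exact absurd rfl (NeZero.ne 0)
  | succ n => exact Fin.sum_univ_eq_sum_range f (n + 1)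

theorem key_shift {R : Type*} [Ring R] {A : R} {n : ℕ} (h : A ^ n = 1) (k : ℕ) :
    A ^ k * ∑ j ∈ Finset.range n, A ^ j = ∑ j ∈ Finset.range n, A ^ j := by
  induction k with
  | zero => rw [pow_zero, one_mul]
  | succ k ih =>
    have := mul_geom_sum A n
    rw [h, sub_self, sub_mul, one_mul, sub_eq_zero] at this
    rw [pow_succ, mul_assoc, this, ih]

variable {G : Type*} [Group G] [Finite G] {p : ℕ} [Fact p.Prime] {x : G} {e : ℕ} [NeZero e]
  {B : ValuationSubring ℂ} [CharP (kk B) p] {hs : Syl p x} {t : ℕ} {h0 : G} {ν : (ZMod p)ˣ}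
  {w : AddChar (ZMod e) B} {ω : AddChar (ZMod p) ℂ} {θ φ ψ : G → ℂ} {κ : Bˣ}

omit [Fact p.Prime] [NeZero e] [CharP (kk B) p] in
theorem LinD.key_lin (hθ : LinD x h0 e θ κ) : IsLin (CC x) θ := ⟨hθ.tr.1, hθ.one⟩

omit [Finite G] in
theorem key_cen {z : G} (hz : z ∈ center G) : z ∈ CC x :=
  mem_CC.2 (mem_center_iff.1 hz x)

namespace BSet

variable (hS : BSet hs t h0 ν w) (hθ : LinD x h0 e θ κ) (hω : ω.IsPrimitive)
include hS

theorem key_te : (t : ℂ) * e = p - 1 := by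
  rw [hS.pt]; push_cast; ring

theorem key_card : Nat.card (zpowers ν) = e := by rw [Nat.card_zpowers, hS.ord]

theorem key_nu (j : ℕ) : hs.nu (h0 ^ j) = ν ^ j := by
  induction j with
  | zero => rw [pow_zero, pow_zero, hs.nu_one]
  | succ j ih => rw [pow_succ, pow_succ, hs.nu_mul (pow_mem hS.mem j) hS.mem, ih, hS.nu]

include hθ

theorem kappa (hφ : IsChar ⊤ φ) (hφ' : Over θ φ) (β : ZMod e) :
    ∃ n : ℕ, mu w h0 κ φ β - (φ 1 - NB hs ω θ φ 0) / e = n := by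
  have hcf := hφ.mem_CF
  obtain ⟨n, ρ, rfl⟩ := isChar_top.1 hφ
  have e0 : (e : ℂ) ≠ 0 := Nat.cast_ne_zero.2 (NeZero.ne e)
  have p0 : (p : ℂ) ≠ 0 := Nat.cast_ne_zero.2 hs.prime.ne_zero
  have k0 : ((κ : B) : ℂ) ≠ 0 := fun h => by simpa [h] using hS.norm_kappa hθ
  have hz : ρ (h0 ^ e) = θ (h0 ^ e) • 1 := by
    rcases Nat.eq_zero_or_pos n with rfl | hn
    · exact Subsingleton.elim _ _
    have h1 := hφ' _ hS.reg 1
    rw [mul_one, Representation.char_one] at h1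
    rw [rep_eq_smul_of_norm_eq ρ _ (by
      rw [h1, norm_mul, hθ.key_lin.norm_eq (key_cen hS.reg), one_mul, Complex.norm_natCast]), h1,
      mul_div_cancel_right₀ _ (by simpa using hn.ne')]
    rfl
  let c : ℂ := ((w (-β) : B) : ℂ) * ((κ : B) : ℂ)⁻¹
  have hc : ∀ j : ℕ, c ^ j = ((w (-(β * j)) : B) : ℂ) * ((κ : B) : ℂ)⁻¹ ^ j := fun j => by
    rw [mul_pow, ← neg_mul, mul_comm (-β), ← nsmul_eq_mul, AddChar.map_nsmul_eq_pow]
    rfl
  let A := c • ρ h0
  have hA : ∀ j : ℕ, A ^ j = c ^ j • ρ (h0 ^ j) := fun j => by rw [smul_pow, map_pow]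
  have hAe : A ^ e = 1 := by
    rw [hA, hc, hz, smul_smul, ← hθ.pow, ZMod.natCast_self, mul_zero, neg_zero,
      AddChar.map_zero_eq_one, inv_pow, mul_assoc, inv_mul_cancel₀ (pow_ne_zero _ k0)]
    simp
  let S := ∑ i ∈ Finset.range p, ρ x ^ i
  let T := ∑ j ∈ Finset.range e, A ^ j
  have hS1 : ∀ u ∈ zpowers x, ρ u * S = S := fun u hu => by
    obtain ⟨k, rfl⟩ := mem_powers_iff_mem_zpowers.2 hu
    rw [map_pow]
    exact key_shift (by rw [← map_pow, hs.pow_p, map_one]) k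
  have hS2 : ∀ g ∈ NN x, S * (ρ g * S) = (p : ℂ) • (ρ g * S) := fun g hg => by
    have h1 : ∀ i : ℕ, ρ x ^ i * (ρ g * S) = ρ g * S := fun i => by
      conv_rhs => rw [← hS1 _ (conj_mem_zpowers (inv_mem hg) (pow_mem (mem_zpowers x) i))]
      rw [← mul_assoc, ← mul_assoc, ← map_pow, ← map_mul, ← map_mul]
      congr 2
      group
    rw [Finset.sum_mul, Finset.sum_congr rfl fun i _ => h1 i, Finset.sum_const, Finset.card_range,
      Nat.cast_smul_eq_nsmul]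
  have hTS : T * S = ∑ j ∈ Finset.range e, c ^ j • (ρ (h0 ^ j) * S) := by
    simp only [T, Finset.sum_mul, hA, smul_mul_assoc]
  have h1 : S * (T * S) = (p : ℂ) • (T * S) := by
    rw [hTS, Finset.mul_sum, Finset.smul_sum]
    exact Finset.sum_congr rfl fun j _ => by
      rw [mul_smul_comm, hS2 _ (pow_mem hS.mem j), smul_comm]
  have h2 : T * T = (e : ℂ) • T := by
    rw [Finset.sum_mul, Finset.sum_congr rfl fun j _ => key_shift hAe j, Finset.sum_const,
      Finset.card_range, Nat.cast_smul_eq_nsmul]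
  have h3 : IsIdempotentElem (((e : ℂ)⁻¹ * (p : ℂ)⁻¹) • (T * S)) := by
    rw [IsIdempotentElem, smul_mul_smul_comm, mul_assoc T, h1, mul_smul_comm, ← mul_assoc T, h2,
      smul_mul_assoc, smul_smul, smul_smul]
    congr 1
    field_simp
  refine ⟨_, Eq.trans ?_ (LinearMap.IsIdempotentElem.isProj_range _ h3).trace⟩
  have h4 : ∀ g, LinearMap.trace ℂ _ (ρ g * S) = ∑ i ∈ Finset.range p, ρ.character (x ^ i * g) :=
    fun g => by
      rw [Finset.mul_sum, map_sum]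
      exact Finset.sum_congr rfl fun i _ => by
        rw [← map_pow, LinearMap.trace_mul_comm, ← map_mul]; rfl
  have h5 : ∀ j ∈ Finset.range e, c ^ j * LinearMap.trace ℂ _ (ρ (h0 ^ j) * S) =
      p * (c ^ j * ρ.character (h0 ^ j) +
        if j = 0 then NB hs ω θ ρ.character 0 - ρ.character 1 else 0) := fun j hj => by
    rw [h4]
    split_ifs with h
    · subst h
      rw [hS.NB_eq hθ hφ', ← key_sum p fun i => ρ.character (x ^ i * h0 ^ 0)]
      simp [p0]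
    · rw [Finset.sum_congr rfl fun i _ => (by
        obtain ⟨v, -, hv⟩ := isConj_mul_of_notMem hs (pow_mem hS.mem j) (fun k => h
          (Nat.eq_zero_of_dvd_of_lt (hS.pow_mem_CC_iff.1 k) (Finset.mem_range.1 hj)))
          (pow_mem (mem_zpowers x) i)
        rw [← hv, CF_conj hcf _ (mem_top v)] :
          ρ.character (x ^ i * h0 ^ j) = ρ.character (h0 ^ j))]
      simp only [Finset.sum_const, Finset.card_range, nsmul_eq_mul]
      ring
  rw [map_smul, hTS, map_sum, smul_eq_mul, Finset.sum_congr rfl fun j hj =>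
    (map_smul _ _ _).trans (h5 j hj), ← Finset.mul_sum, Finset.sum_add_distrib, Finset.sum_ite_eq',
    if_pos (Finset.mem_range.2 (Nat.pos_of_neZero e)),
    ← key_sum e fun j => c ^ j * ρ.character (h0 ^ j), mu]
  simp only [hc, ZMod.natCast_zmod_val, mul_assoc]
  field_simp
  ring

theorem key_NB (hφ : φ ∈ CF (⊤ : Subgroup G)) {a b : (ZMod p)ˣ} (h : a⁻¹ * b ∈ zpowers ν) :
    NB hs ω θ φ b = NB hs ω θ φ a := by
  rw [NB, NB, dot_lt_eq, dot_lt_eq, hs.dc_eq_of_mem le_top hφ (hS.EE_eq hθ ▸ h)]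

omit hS in
theorem key_NB0 (φ : G → ℂ) : NB hs ω θ φ 0 = dot (CC x) φ θ := by rw [NB, hs.lt_zero hθ.tr.1]

variable (D : GenData hs ω ⊤ θ)
include hω

theorem over_Y (a : (ZMod p)ˣ) : Over θ (D.Y a) := by
  have _ := hω
  obtain ⟨l, -, -, hl⟩ := (D.Y_irr a).exists_lin_Res (D := center G) le_top (by
    rw [commutator_eq_bot_iff_le_centralizer.2 fun z hz g _ => mem_center_iff.1 hz g]
    exact inKer_bot _)
  intro z hz g
  rw [hl z hz]
  congr 1
  have hc := key_cen (x := x) hz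
  have h1 : hs.dc ω θ a (D.Y a) = l z * conj (θ z) * hs.dc ω θ a (D.Y a) := by
    rw [Syl.dc, dot_def, mul_left_comm, Finset.mul_sum _ _ (_ * _), ← sum_els_mul_left hc]
    congr 1
    refine sum_els_congr fun c hc' => ?_
    rw [hl z hz, Pi.sub_apply, Pi.sub_apply, hs.lt_apply _ _ hc', hs.lt_apply _ _ (mul_mem hc hc'),
      hθ.key_lin.map_mul hc hc', hs.pi_mul hc hc', hs.pi_of_mem_KK (hS.cent ▸ hz), zero_add]
    simp only [map_sub, map_mul]
    ring
  rw [D.Y_dc a a (by simp)] at h1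
  have h2 := (mul_eq_right₀ (neg_ne_zero.2 D.ε_ne_zero)).1 h1.symm
  have h3 := hθ.key_lin.mul_conj hc
  exact mul_right_cancel₀ (fun h => by simp [h] at h3) (h2.trans h3.symm)

theorem NB_Y (a b : (ZMod p)ˣ) : NB hs ω θ (D.Y a) b =
    NB hs ω θ (D.Y a) 0 + if a⁻¹ * b ∈ zpowers ν then (D.ε : ℂ) else 0 := by
  have _ := hω
  rw [key_NB0 hθ, NB, dot_lt_eq]
  split_ifs with h
  · rw [D.Y_dc a b (hS.EE_eq hθ ▸ h), sub_neg_eq_add]
  · rw [D.Y_dc' a b (hS.EE_eq hθ ▸ h), sub_zero, add_zero]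

theorem Y_one (a : (ZMod p)ˣ) : D.Y a 1 = p * NB hs ω θ (D.Y a) 0 + D.ε * e := by
  have h1 := congrArg (Int.cast : ℤ → ℂ) (sum_ite_mem (zpowers ν) a D.ε)
  push_cast at h1
  rw [← hS.sum_NB hθ hω (hS.over_Y hθ hω D a), sum_zmod,
    Finset.sum_congr rfl fun b _ => hS.NB_Y hθ hω D a b, Finset.sum_add_distrib, h1, hS.key_card,
    Finset.sum_const, Finset.card_univ, nsmul_eq_mul, card_units_cast]
  ring

theorem Y_pow (a : (ZMod p)ˣ) {i : ZMod p} (hi : i ≠ 0) :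
    D.Y a (x ^ i.val) = D.ε * ∑ j : ZMod e, ω (a * ν ^ j.val * i) := by
  have h1 := hs.pow_mul_mem_AA hi (one_mem _)
  rw [mul_one] at h1
  rw [D.Y_val hω le_top hθ.tr a h1, Ind_lt_pow hs hθ.tr, hθ.one, mul_one,
    hS.sum_NN (fun g => ω (a * hs.nu g * i)) (fun n hn g hg => by
      rw [hs.nu_mul (mul_mem hn hg) (inv_mem hn), hs.nu_mul hn hg, mul_right_comm (hs.nu n),
        ← hs.nu_mul hn (inv_mem hn), mul_inv_cancel, hs.nu_one, one_mul]) (fun z hz g => by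
      rw [Syl.nu, Syl.nu, ← mem_center_iff.1 hz g, mul_assoc g z, ← mem_center_iff.1 hz x]
      congr 4
      group),
    sum_els_congr (g := fun _ => ω (a * hs.nu 1 * i)) fun c hc => by
      rw [(hs.nu_eq_one_iff (CC_le_NN x hc)).2 hc, hs.nu_one], sum_els_const, ncard_subgroup,
    nsmul_eq_mul, ← mul_add, inv_mul_cancel_left₀ (cardC_ne_zero _), add_sub_cancel]
  simp only [hS.key_nu]

theorem dotN (hφ : φ ∈ CF (⊤ : Subgroup G)) (hφ' : Over θ φ) (a : (ZMod p)ˣ) :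
    dot (NN x) φ (D.Y a) = D.ε * NB hs ω θ φ a + ∑ β, mu w h0 κ φ β *
      conj (mu w h0 κ (D.Y a) β - D.ε - t * NB hs ω θ (D.Y a) 0) := by
  have e0 : (e : ℂ) ≠ 0 := Nat.cast_ne_zero.2 (NeZero.ne e)
  have p0 : (p : ℂ) ≠ 0 := Nat.cast_ne_zero.2 hs.prime.ne_zero
  have hY := hS.over_Y hθ hω D a
  have hz : ∀ z ∈ center G, ∀ g, φ (z * g) * conj (D.Y a (z * g)) = φ g * conj (D.Y a g) :=
    fun z hz g => by
      rw [hφ' z hz, hY z hz, map_mul, mul_mul_mul_comm, hθ.key_lin.mul_conj (key_cen hz), one_mul]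
  obtain ⟨N, hN⟩ := dot_lt_nat hs (ω := ω) (D.Y_irr a).isChar hθ.tr 0
  replace hN : NB hs ω θ (D.Y a) 0 = N := hN
  have h1 : conj (D.Y a 1) = p * N + D.ε * e := by
    rw [hS.Y_one hθ hω D a, hN]; simp
  have h2 : ∀ i : ZMod p, φ (x ^ i.val) * conj (D.Y a (x ^ i.val)) =
      D.ε * ∑ j : ZMod e, φ (x ^ i.val) * ω (-((a * ν ^ j.val : (ZMod p)ˣ) * i)) +
        if i = 0 then φ 1 * (p * N) else 0 := fun i => by
    split_ifs with hi
    · subst hi
      simp only [ZMod.val_zero, pow_zero, h1, mul_zero, neg_zero, AddChar.map_zero_eq_one,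
        Finset.sum_const, Finset.card_univ, ZMod.card, nsmul_eq_mul]
      ring
    · rw [hS.Y_pow hθ hω D a hi, map_mul, map_sum, map_intCast, ← Finset.mul_sum, add_zero,
        mul_left_comm]
      simp only [AddChar.map_neg_eq_conj, Units.val_mul, Units.val_pow_eq_pow_val]
  have h3 : ∀ j : ZMod e, ∑ i : ZMod p, φ (x ^ i.val) * ω (-((a * ν ^ j.val : (ZMod p)ˣ) * i)) =
      p * NB hs ω θ φ a := fun j => by
    rw [← hS.key_NB hθ hφ (a := a) (b := a * ν ^ j.val) (by simp), hS.NB_eq hθ hφ',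
      mul_inv_cancel_left₀ p0]
  have h4 : ∑ c ∈ els (CC x : Set G), φ c * conj (D.Y a c) =
      Nat.card (CC x) * (D.ε * (e * NB hs ω θ φ a) + φ 1 * N) := by
    rw [hs.sum_CC, sum_els_congr (g := fun _ => ∑ i : ZMod p, φ (x ^ i.val) *
      conj (D.Y a (x ^ i.val))) fun y hy => Finset.sum_congr rfl fun i _ => by
        have hy' : y ∈ center G := hS.cent ▸ hy
        rw [mem_center_iff.1 hy', hz y hy'], sum_els_const, ncard_subgroup, card_CC_eq hs,
      Finset.sum_congr rfl fun i _ => h2 i, Finset.sum_add_distrib, Finset.sum_ite_eq',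
      if_pos (Finset.mem_univ _), ← Finset.mul_sum, Finset.sum_comm,
      Finset.sum_congr rfl fun j _ => h3 j]
    simp only [Finset.sum_const, Finset.card_univ, ZMod.card, nsmul_eq_mul, Nat.cast_mul]
    ring
  have h5 := hS.parseval hθ (φ := φ) (ψ := D.Y a)
  rw [eq_comm, inv_mul_eq_iff_eq_mul₀ e0] at h5
  rw [dot_def, hS.sum_NN (fun g => φ g * conj (D.Y a g)) (fun n _ g _ => by
    rw [CF_conj hφ _ (mem_top n), CF_conj (D.Y_irr a).mem_CF _ (mem_top n)]) hz, h4, h5, h1,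
    card_NN, hS.ee_eq, hN]
  simp only [map_sub, map_mul, map_intCast, map_natCast, mul_sub, Finset.sum_sub_distrib,
    ← Finset.sum_mul, hS.sum_mu, Nat.cast_mul]
  have c0 := cardC_ne_zero (CC x)
  field_simp
  linear_combination φ 1 * N * hS.key_te

theorem key {c : ZMod e → ℕ} (hc : Star D t h0 w κ c) (hφ : IsChar ⊤ φ) (hφ' : Over θ φ) :
    ∃ (M : ℕ) (u : ℤ), (∀ a : (ZMod p)ˣ, D.ε * dot ⊤ φ (D.Y a) = NB hs ω θ φ a + u) ∧
      (D.ε * e * M : ℂ) = t * e * u + φ 1 - NB hs ω θ φ 0 ∧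
      ∀ β, ∃ n : ℕ, mu w h0 κ φ β - (φ 1 - NB hs ω θ φ 0) / e = c β * M + n := by
  classical
  have e0 : (e : ℂ) ≠ 0 := Nat.cast_ne_zero.2 (NeZero.ne e)
  have hn : ∀ χ : G → ℂ, ∃ n : ℕ, IsIrr ⊤ χ → dot ⊤ φ χ = n := fun χ => by
    by_cases h : IsIrr ⊤ χ
    · obtain ⟨n, hn⟩ := hφ.dot_nat h.isChar
      exact ⟨n, fun _ => hn⟩
    · exact ⟨0, fun k => absurd k h⟩
  choose n hn using hn
  obtain ⟨N, hN⟩ := dot_lt_nat hs (ω := ω) hφ hθ.tr 0
  replace hN : NB hs ω θ φ 0 = N := hN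
  let I := Finset.univ.image D.Y
  have hI : ∀ {χ}, χ ∈ I → ∃ a, D.Y a = χ := fun h => by simpa [I] using h
  have hI' : ∀ {χ}, χ ∈ I → IsIrr ⊤ χ := fun h => by obtain ⟨a, rfl⟩ := hI h; exact D.Y_irr a
  have h1 : ∀ a : (ZMod p)ˣ, D.ε * dot ⊤ φ (D.Y a) =
      NB hs ω θ φ a + ((∑ χ ∈ D.X, D.δ χ * n χ - N : ℤ) : ℂ) := fun a => by
    have h2 := hs.dot_alpha_right (ω := ω) le_top hφ.mem_CF θ a
    rw [show hs.alpha ω ⊤ θ a = ∑ χ ∈ D.X, (D.δ χ : ℂ) • χ - (D.ε : ℂ) • D.Y a from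
      funext fun g => by rw [D.alpha_eq le_top hθ.tr]; simp, dot_sub_right, dot_sum_right,
      dot_intCast_smul_right, Finset.sum_congr rfl fun χ h => by
        rw [dot_intCast_smul_right, hn χ (D.X_irr χ h)]] at h2
    rw [NB, dot_lt_eq, ← key_NB0 (hs := hs) (ω := ω) hθ, hN, ← h2]
    push_cast
    ring
  have h2 : ∑ a, dot ⊤ φ (D.Y a) = e * ∑ χ ∈ I, (n χ : ℂ) := by
    rw [Finset.sum_comp (dot ⊤ φ) D.Y, Finset.mul_sum]
    refine Finset.sum_congr rfl fun χ h => ?_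
    obtain ⟨a, rfl⟩ := hI h
    have h3 := sum_ite_mem (hs.EE θ) a 1
    rw [Finset.sum_boole, mul_one, hS.card_EE hθ, Nat.cast_inj] at h3
    rw [hn _ (D.Y_irr a), nsmul_eq_mul, ← h3]
    congr 3
    ext b
    rw [Finset.mem_filter, Finset.mem_filter, eq_comm, D.Y_eq_iff]
  refine ⟨∑ χ ∈ I, n χ, _, h1, ?_, fun β => ?_⟩
  · have h3 := Finset.sum_congr (rfl : Finset.univ = _) fun a _ => h1 a
    have h4 := hS.sum_NB hθ hω hφ'
    rw [sum_zmod] at h4
    rw [← Finset.mul_sum, h2, Finset.sum_add_distrib, Finset.sum_const, Finset.card_univ,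
      nsmul_eq_mul, card_units_cast, ← hS.key_te] at h3
    rw [Nat.cast_sum]
    linear_combination h3 + h4
  · have h3 : IsChar ⊤ (φ - ∑ χ ∈ I, (n χ : ℂ) • χ) := isChar_of_dot_nat (sub_mem hφ.mem_CF
      (sum_mem fun χ h => Submodule.smul_mem _ _ (hI' h).mem_CF)) fun ψ hψ => by
        rw [dot_sub_left, dot_sum_left, hn ψ hψ, Finset.sum_congr rfl fun χ h => by
          rw [dot_smul_left, (hI' h).dot_eq hψ, mul_ite, mul_one, mul_zero], Finset.sum_ite_eq']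
        split_ifs
        · exact ⟨0, by simp⟩
        · exact ⟨_, sub_zero _⟩
    obtain ⟨m, hm⟩ := hS.kappa (ω := ω) hθ h3 (fun z hz g => by
      simp only [Pi.sub_apply, Finset.sum_apply, Pi.smul_apply, smul_eq_mul, mul_sub,
        Finset.mul_sum, hφ' z hz]
      congr 1
      refine Finset.sum_congr rfl fun χ h => ?_
      obtain ⟨a, rfl⟩ := hI h
      rw [hS.over_Y hθ hω D a z hz, mul_left_comm]) β
    have h4 : ∀ χ ∈ I, (n χ : ℂ) * (mu w h0 κ χ β - (χ 1 - NB hs ω θ χ 0) / e) = n χ * c β :=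
      fun χ h => by
        obtain ⟨a, rfl⟩ := hI h
        rw [hc.mu_eq, hS.Y_one hθ hω D a, hc.nb]
        congr 1
        field_simp
        linear_combination (∑ γ, (c γ : ℂ)) * hS.key_te
    have h5 : mu w h0 κ (φ - ∑ χ ∈ I, (n χ : ℂ) • χ) β =
        mu w h0 κ φ β - ∑ χ ∈ I, n χ * mu w h0 κ χ β := by
      simp only [mu, Pi.sub_apply, Finset.sum_apply, Pi.smul_apply, smul_eq_mul, mul_sub,
        Finset.mul_sum, Finset.sum_sub_distrib]
      rw [Finset.sum_comm]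
      congr 1
      exact Finset.sum_congr rfl fun _ _ => Finset.sum_congr rfl fun _ _ => by ring
    refine ⟨m, ?_⟩
    rw [← hm, h5, NB, NB, dot_sub_left, dot_sum_left, Nat.cast_sum, Finset.mul_sum,
      Finset.sum_congr rfl fun χ h => (mul_comm _ _).trans (h4 χ h).symm]
    simp only [dot_smul_left, NB, Pi.sub_apply, Finset.sum_apply, Pi.smul_apply, smul_eq_mul,
      mul_sub, Finset.sum_sub_distrib, ← mul_div_assoc, ← Finset.sum_div]
    ring

end BSet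

end CfsgLib.LowD2
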