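import Cfsg.Agent.Lib.LowD2.Chr
import Cfsg.Agent.Lib.LowD2.Blk
import Cfsg.Agent.Lib.LowD2.Op

set_option autoImplicit false

namespace CfsgLib.LowD2

open Cfsg CfsgLib.Char CfsgLib.PF CfsgLib.BG CfsgLib.DefectOne CfsgLib.DefectOne.B43
  CfsgLib.LowDeg Module Subgroup
open scoped ComplexConjugate

variable {G : Type*} [Group G] [Finite G] {p : ℕ} [Fact p.Prime] {x : G} {e : ℕ} [NeZero e]
  {B : ValuationSubring ℂ} [CharP (kk B) p] {hs : Syl p x} {t : ℕ} {h0 : G} {ν : (ZMod p)ˣ}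
  {w : AddChar (ZMod e) B} {ω : AddChar (ZMod p) ℂ} {θ φ ψ : G → ℂ} {κ : Bˣ}

namespace BSet

variable (hS : BSet hs t h0 ν w) (hθ : LinD x h0 e θ κ)
  {m n : Type} [Fintype m] [DecidableEq m] [Fintype n] [DecidableEq n]
include hS hθ

omit hS [NeZero e] in
theorem lat_center {T : G →* Matrix m m B} (hT : Over θ (chT T)) {z : G} (hz : z ∈ center G)
    {c : B} (hc : (c : ℂ) = θ z) : T z = c • (1 : Matrix m m B) := by
  have h1 : chT T z = θ z * finrank ℂ (m → ℂ) := by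
    rw [← mul_one z, hT z hz, mul_one, chT, Representation.char_one]
  have h2 := rep_eq_smul_of_norm_eq (rep B.subtype T) z (by
    rw [show (rep B.subtype T).character z = _ from h1, norm_mul,
      IsLin.norm_eq ⟨hθ.tr.1, hθ.one⟩ (mem_CC.2 (mem_center_iff.1 hz x)), one_mul,
      Complex.norm_natCast])
  ext i j
  have : Nonempty m := ⟨i⟩
  have h3 := congrFun (LinearMap.congr_fun h2 (Pi.single j 1)) i
  rw [show (rep B.subtype T).character z = _ from h1, mul_div_cancel_right₀ _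
    (Nat.cast_ne_zero.2 finrank_pos.ne'), rep_apply, Matrix.mulVec_single_one, ← hc] at h3
  refine h3.trans ?_
  simp only [LinearMap.smul_apply, LinearMap.id_apply, Pi.smul_apply, Pi.single_apply,
    Matrix.smul_apply, Matrix.one_apply]
  split_ifs <;> simp

theorem lat_pow {T : G →* Matrix m m B} (hT : Over θ (chT T)) :
    (((κ⁻¹ : Bˣ) : B) • T h0) ^ e = 1 := by
  rw [smul_pow, ← map_pow, lat_center hθ hT hS.reg (c := (κ : B) ^ e) hθ.pow, smul_smul, ← mul_pow,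
    Units.inv_mul, one_pow, one_smul]

omit hS hθ [Finite G] in
theorem AT_eq (T : G →* Matrix m m B) (c : B) :
    rs B c • rep (rs B) T h0 = Matrix.toLin' ((c • T h0).map (rs B)) := by
  rw [Matrix.map_smul' _ _ _ (map_mul _), map_smul]
  rfl

theorem isMd {T : G →* Matrix m m B} (hT : Over θ (chT T)) :
    IsMd (wb w) ν (AT h0 κ T) (rep (rs B) T x) := by
  refine ⟨hS.wb_inj, hS.res, ?_, by rw [← map_pow, hs.pow_p, map_one], ?_⟩
  · rw [AT, AT_eq, ← Matrix.toLin'_pow, ← Matrix.map_pow, hS.lat_pow hθ hT]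
    simp [End.one_eq_id]
  · rw [AT, smul_mul_assoc, mul_smul_comm, ← map_pow, ← hS.nu, ← conj_eq_pow hs hS.mem, ← map_mul,
      ← map_mul, inv_mul_cancel_right]

omit hθ in
theorem lat_ne_two : p ≠ 2 := by
  have := hS.pt
  have := Nat.mul_le_mul hS.two hS.e2
  omega

theorem isGr {T : G →* Matrix m m B} (hT : Over θ (chT T)) : IsGr p (PT w h0 κ T) (DT p x T) :=
  (hS.isMd hθ hT).isGr hS.lat_ne_two

theorem RR_zero {T : G →* Matrix m m B} (hT : Over θ (chT T)) (β : ZMod e) :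
    (RR (PT w h0 κ T) (DT p x T) 0 β : ℂ) = mu w h0 κ (chT T) β := by
  have h1 : w (-β) ^ e = 1 := by
    rw [← AddChar.map_nsmul_eq_pow, nsmul_eq_mul, ZMod.natCast_self, zero_mul,
      AddChar.map_zero_eq_one]
  have h2 := finrank_ker_eq (A := w (-β) • ((κ⁻¹ : Bˣ) : B) • T h0) (e := e)
    (natCast_ne_zero_of_inj hS.wb_inj) (by rw [smul_pow, hS.lat_pow hθ hT, h1, one_smul])
  rw [RR, pow_zero, End.one_eq_id, LinearMap.range_id, top_inf_eq, (hS.isMd hθ hT).range_PP, AT,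
    smul_smul, show wb w (-β) = rs B (w (-β)) from rfl, ← map_mul, AT_eq, ← smul_smul, h2, mu]
  congr 1
  refine (Finset.sum_bij (fun (j : ZMod e) _ => j.val) (fun j _ => Finset.mem_range.2 j.val_lt)
    (fun i _ j _ h => ZMod.val_injective e h) (fun j hj => ⟨j, Finset.mem_univ _,
      ZMod.val_cast_of_lt (Finset.mem_range.1 hj)⟩) fun j _ => ?_).symm
  have h3 : (((κ⁻¹ : Bˣ) : B) : ℂ) = ((κ : B) : ℂ)⁻¹ :=
    eq_inv_of_mul_eq_one_left (by exact_mod_cast congrArg Subtype.val κ.inv_mul)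
  rw [smul_pow, smul_pow, ← map_pow T, Matrix.trace_smul, Matrix.trace_smul, chT, char_rep,
    ← AddChar.map_nsmul_eq_pow, nsmul_eq_mul, ← h3, mul_neg, mul_comm β, ZMod.natCast_zmod_val]
  simp

theorem hom_le {T1 : G →* Matrix m m B} {T2 : G →* Matrix n n B} (h1 : Over θ (chT T1))
    (h2 : Over θ (chT T2)) (Bl : Blocks p (PT w h0 κ T1) (DT p x T1)) :
    (dot (NN x) (chT T2) (chT T1)).re ≤ (dot ⊤ (chT T2) (chT T1)).re +
      (∑ i, RR (PT w h0 κ T2) (DT p x T2) (p - Bl.l i) (Bl.a i) : ℕ) := by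
  let U : Submodule (kk B) ((m → kk B) →ₗ[kk B] (n → kk B)) :=
    { carrier := {f | f ∘ₗ AT h0 κ T1 = AT h0 κ T2 ∘ₗ f ∧
        f ∘ₗ rep (rs B) T1 x = rep (rs B) T2 x ∘ₗ f ∧
        ∀ (l : ℕ) v, (DT p x T1 ^ l) v = 0 → f v ∈ LinearMap.range (DT p x T2 ^ (p - l))}
      zero_mem' := ⟨by simp, by simp, fun _ _ _ => Submodule.zero_mem _⟩
      add_mem' := fun hf hg => ⟨by rw [LinearMap.add_comp, LinearMap.comp_add, hf.1, hg.1],
        by rw [LinearMap.add_comp, LinearMap.comp_add, hf.2.1, hg.2.1],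
        fun l v hv => Submodule.add_mem _ (hf.2.2 l v hv) (hg.2.2 l v hv)⟩
      smul_mem' := fun c f hf => ⟨by rw [LinearMap.smul_comp, LinearMap.comp_smul, hf.1],
        by rw [LinearMap.smul_comp, LinearMap.comp_smul, hf.2.1],
        fun l v hv => Submodule.smul_mem _ c (hf.2.2 l v hv)⟩ }
  have h3 := (hS.isMd hθ h1).powX
  have h4 := (hS.isMd hθ h2).powX
  refine (hom_ineq hs T1 T2 U fun f hf ⟨η, hη⟩ => ⟨?_, (hf x (CC_le_NN x (self_mem_CC x))).symm,
    fun l v hv => ?_⟩).trans (add_le_add_right (Nat.cast_le.2 (Bl.ph_le U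
      (fun f hf => comp_DD hf.2.1) (fun f hf β => comp_PP hf.1 β) fun f hf => hf.2.2)) _)
  · rw [AT, AT, LinearMap.smul_comp, LinearMap.comp_smul, hf h0 hS.mem]
  · rw [range_DD_pow hS.lat_ne_two h4, hη]
    simp only [← inv_pow, map_pow]
    exact tr_mem_range h3 h4 (map_inv_mul_map _ x) η
      ((DD_pow_apply_eq_zero hS.lat_ne_two h3 l v).1 hv)

theorem tenHyp {T1 : G →* Matrix m m B} {T2 : G →* Matrix n n B} (h1 : Over θ (chT T1))
    (h2 : Over θ (chT T2)) : ∃ τ : (m → kk B) →ₗ[kk B] (n → kk B) →ₗ[kk B] (m × n → kk B),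
    TenHyp (wb w) ν τ (AT h0 κ T1) (rep (rs B) T1 x) (AT h0 κ T2) (rep (rs B) T2 x)
      (AT h0 (κ * κ) (tenLat T1 T2)) (rep (rs B) (tenLat T1 T2) x) := by
  refine ⟨LinearMap.mk₂ (kk B) (fun u v q => u q.1 * v q.2) (fun _ _ _ => by ext; simp [add_mul])
    (fun _ _ _ => by ext; simp [mul_assoc]) (fun _ _ _ => by ext; simp [mul_add])
    (fun _ _ _ => by ext; simp [mul_left_comm]), hS.isMd hθ h1, hS.isMd hθ h2,
    hS.isMd hθ.sq (by rw [chT, char_tenLat]; exact h1.mul h2), fun U hU => ?_, by simp,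
    fun u v => ?_, fun u v => rep_tenLat _ T1 T2 x u v⟩
  · rw [eq_top_iff, ← (Pi.basisFun (kk B) (m × n)).span_eq, Submodule.span_le]
    rintro _ ⟨q, rfl⟩
    refine Set.mem_of_eq_of_mem ?_ (hU (Pi.single q.1 1) (Pi.single q.2 1))
    ext r
    simp [Pi.single_apply, Prod.ext_iff, ← ite_and, and_comm]
  · simp only [AT, LinearMap.smul_apply, LinearMap.mk₂_apply, rep_tenLat]
    ext q
    simp only [mul_inv, Units.val_mul, map_mul, Pi.smul_apply, smul_eq_mul]
    ring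

end BSet

end CfsgLib.LowD2
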