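import Cfsg.Agent.Lib.LowD2.Key
import Cfsg.Agent.Lib.LowD2.Lat2
import Cfsg.Agent.Lib.LowD2.Comb

set_option autoImplicit false

namespace CfsgLib.LowD2

open Cfsg CfsgLib.Char CfsgLib.PF CfsgLib.BG CfsgLib.DefectOne CfsgLib.DefectOne.B43
  CfsgLib.LowDeg Module Subgroup
open scoped ComplexConjugate

variable {G : Type*} [Group G] [Finite G] {p : ℕ} [Fact p.Prime] {x : G} {e : ℕ} [NeZero e]
  {B : ValuationSubring ℂ} [CharP (kk B) p] {hs : Syl p x} {t : ℕ} {h0 : G} {ν : (ZMod p)ˣ}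
  {w : AddChar (ZMod e) B} {ω : AddChar (ZMod p) ℂ} {θ φ ψ : G → ℂ} {κ : Bˣ}

namespace BSet

variable (hS : BSet hs t h0 ν w) (hθ : LinD x h0 e θ κ) (hω : ω.IsPrimitive)
  (D : GenData hs ω ⊤ θ)
include hS hθ hω

omit hθ hω in
theorem star_reg (j : ℕ) : ¬ p ∣ orderOf (h0 ^ j) := fun h => by
  have h1 : h0 ^ e ∈ hs.KK := hS.cent ▸ hS.reg
  have h2 : orderOf (h0 ^ j) ∣ e * orderOf (h0 ^ e) := (orderOf_pow_dvd j).trans
    (orderOf_dvd_of_pow_eq_one (by rw [pow_mul, pow_orderOf_eq_one]))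
  rcases (Nat.Prime.dvd_mul hs.prime).1 (h.trans h2) with h3 | h3
  · have := Nat.le_of_dvd (NeZero.pos e) h3
    have := hS.pt
    have := Nat.mul_le_mul_right e hS.two
    omega
  · exact h1.2 h3

theorem star_aux (a : (ZMod p)ˣ) : ∃ c : ZMod e → ℕ,
    (∀ β, mu w h0 κ (D.Y a) β = D.ε + c β + t * ∑ γ, (c γ : ℂ)) ∧
    NB hs ω θ (D.Y a) 0 = ∑ γ, (c γ : ℂ) ∧ ∃ (n : ℕ) (T : G →* Matrix (Fin n) (Fin n) B)
    (Bl : Blocks p (PT w h0 κ T) (DT p x T)), chT T = D.Y a ∧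
    (∀ β, c β = (Finset.univ.filter fun i => p < 2 * Bl.l i ∧ Bl.a i = β).card) ∧
    (D.ε = -1 → (∀ i, p < 2 * Bl.l i) ∧ (∃ i, Bl.l i < p) ∧ ∀ F : ZMod e → ℕ,
      ∑ i, F (Bl.a i) = ∑ i, F (Bl.a i - ((p - Bl.l i : ℕ) : ZMod e))) ∧
    (D.ε = 1 → (∀ i, p < 2 * Bl.l i → Bl.l i = p) ∧ ∀ β,
      ∑ i ∈ Finset.univ.filter (fun i => ¬ p < 2 * Bl.l i), cnt (Bl.a i) 0 (Bl.l i) β = 1) := by
  have hY := D.Y_irr a
  obtain ⟨n, T, hT⟩ := exists_lat B (isChar_top.1 hY.isChar)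
  replace hT : chT T = D.Y a := hT
  have hO := hS.over_Y hθ hω D a
  have hO' : Over θ (chT T) := hT ▸ hO
  have hG := hS.isGr hθ hO'
  obtain ⟨Bl⟩ := hG.nonempty_blocks
  obtain ⟨N, hN⟩ := dot_lt_nat hs (ω := ω) hY.isChar hθ.tr 0
  replace hN : NB hs ω θ (D.Y a) 0 = N := hN
  have h1 : ∀ β, mu w h0 κ (D.Y a) β = (∑ i, cnt (Bl.a i) 0 (Bl.l i) β : ℕ) := fun β => by
    rw [← hT, ← hS.RR_zero hθ hO', Bl.RR_eq hG]
  let c : ZMod e → ℤ := fun β => (∑ i, cnt (Bl.a i) 0 (Bl.l i) β : ℕ) - D.ε - t * N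
  have h2 : ∀ β, mu w h0 κ (D.Y a) β = D.ε + c β + t * N := fun β => by
    rw [h1]; simp only [c]; push_cast; ring
  have hp : (p : ℂ) = t * e + 1 := by exact_mod_cast hS.pt
  have h3 : ∑ γ, (c γ : ℂ) = N := by
    have h4 := hS.sum_mu (κ := κ) (φ := D.Y a)
    simp only [h2, Finset.sum_add_distrib, Finset.sum_const, Finset.card_univ, ZMod.card,
      nsmul_eq_mul] at h4
    rw [hS.Y_one hθ hω D, hN, hp] at h4
    linear_combination h4
  have h3' : ∑ γ, c γ = N := by exact_mod_cast h3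
  have h4 := hS.hom_le hθ hO' hO' Bl
  have h5 : dot (NN x) (D.Y a) (D.Y a) =
      ((1 + (2 * D.ε * N + t * N ^ 2 + ∑ γ, c γ ^ 2) : ℤ) : ℂ) := by
    rw [hS.dotN hθ hω D hY.mem_CF hO, hS.NB_Y hθ hω D, if_pos (by simp), hN,
      Finset.sum_congr rfl (g := fun β => (D.ε + t * N) * (c β : ℂ) + c β ^ 2) fun β _ => by
        rw [h2, show (D.ε + c β + t * N - D.ε - t * N : ℂ) = c β by ring, map_intCast]; ring,
      Finset.sum_add_distrib, ← Finset.mul_sum, h3]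
    push_cast
    linear_combination D.ε_mul_self
  rw [hT, h5, hY.dot_self, Complex.intCast_re, Complex.one_re] at h4
  simp only [Bl.RR_eq hG] at h4
  obtain ⟨h6, h7⟩ := comb hS.pt hS.two Bl.a Bl.l (fun i => ⟨Bl.pos i, Bl.le i⟩) D.ε_sign c
    (fun β => by rw [h3']; simp only [c]; ring) (by
      rw [h3']
      exact_mod_cast le_of_add_le_add_left (by exact_mod_cast h4 : (1 : ℤ) + _ ≤ 1 + _))
  have h8 : ∀ β, (c β : ℂ) =
      ((Finset.univ.filter fun i => p < 2 * Bl.l i ∧ Bl.a i = β).card : ℕ) := fun β => by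
    rw [h6, Int.cast_natCast]
  exact ⟨_, fun β => by simp only [← h8, h2, h3], by simp only [← h8, hN, h3], n, T, Bl, hT,
    fun _ => rfl, h7⟩

theorem exists_star : ∃ c, Star D t h0 w κ c := by
  choose c h1 h2 h3 using hS.star_aux hθ hω D
  have h4 : ∀ a, c a = c 1 := fun a => by
    have h5 := hS.Y_one hθ hω D a
    rw [D.Y_reg a 1 not_dvd_orderOf_one, hS.Y_one hθ hω D, add_left_inj, h2, h2] at h5
    replace h5 := mul_left_cancel₀ (Nat.cast_ne_zero.2 hs.prime.ne_zero) h5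
    ext β
    have h6 : mu w h0 κ (D.Y a) β = mu w h0 κ (D.Y 1) β := by
      simp only [mu, D.Y_reg a 1 (hS.star_reg _)]
    rw [h1, h1, h5, add_left_inj, add_right_inj] at h6
    exact_mod_cast h6
  exact ⟨c 1, fun a => h4 a ▸ h1 a, fun a => h4 a ▸ h2 a, fun a => h4 a ▸ h3 a⟩

theorem exists_zeta (hε : D.ε = -1) {d : ℕ} (hd : d + e = p) {a : (ZMod p)ˣ} (ha : D.Y a 1 = d) :
    ∃ a0, Zeta D t h0 w κ d a0 := by
  obtain ⟨c, hc⟩ := hS.exists_star hθ hω D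
  have h1 : ∑ γ, (c γ : ℂ) = 1 := by
    have h2 := hS.Y_one hθ hω D a
    rw [ha, hc.nb, hε] at h2
    refine mul_left_cancel₀ (Nat.cast_ne_zero.2 hs.prime.ne_zero : (p : ℂ) ≠ 0) ?_
    have h3 : (d : ℂ) + e = p := by exact_mod_cast hd
    push_cast at h2
    linear_combination h3 - h2
  have h2 : ∑ γ, c γ = 1 := by exact_mod_cast h1
  obtain ⟨a0, h3⟩ : ∃ a0, ∀ β, c β = if β = a0 then 1 else 0 := by
    obtain ⟨a0, -, h3⟩ := Finset.exists_ne_zero_of_sum_ne_zero (h2 ▸ one_ne_zero)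
    rw [← Finset.add_sum_erase _ _ (Finset.mem_univ a0)] at h2
    refine ⟨a0, fun β => ?_⟩
    split_ifs with h
    · rw [h]; omega
    · exact Finset.sum_eq_zero_iff.1 (by omega) β (Finset.mem_erase.2 ⟨h, Finset.mem_univ _⟩)
  refine ⟨a0, hε, hd, fun b j => ?_, fun b => ?_⟩
  · rw [hS.val_eq hθ (hS.over_Y hθ hω D b)]
    simp only [hc.mu_eq, h1, hε, add_mul, Finset.sum_add_distrib, ← Finset.mul_sum, hS.sum_w,
      ZMod.natCast_eq_zero_iff]
    simp only [h3, Nat.cast_ite, ite_mul, Nat.cast_zero, zero_mul, Finset.sum_ite_eq',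
      Finset.mem_univ, if_true]
    split_ifs <;> push_cast <;> ring
  · obtain ⟨n, T, Bl, hT, h4, h5, -⟩ := hc.lat b
    obtain ⟨h5, -⟩ := h5 hε
    simp only [h5, true_and] at h4
    have h6 : Bl.n = 1 := by
      rw [← h2, Finset.sum_congr rfl fun β _ => h4 β,
        ← Finset.card_eq_sum_card_fiberwise (by simp), Finset.card_univ, Fintype.card_fin]
    obtain ⟨i, hi⟩ : (Finset.univ.filter fun i => Bl.a i = a0).Nonempty :=
      Finset.card_pos.1 (by rw [← h4, h3, if_pos rfl]; exact one_pos)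
    have h7 : finrank (kk B) (Fin n → kk B) = d := by
      have h8 := congrFun hT 1
      rw [chT, Representation.char_one, D.Y_reg b a not_dvd_orderOf_one, ha] at h8
      rw [Module.finrank_fin_fun] at h8 ⊢
      exact_mod_cast h8
    exact ⟨n, T, hT, h7 ▸ (Finset.mem_filter.1 hi).2 ▸ Bl.single h6 i⟩

end BSet

end CfsgLib.LowD2
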