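import Cfsg.Agent.Lib.LowD2.Blk
import Cfsg.Agent.Lib.LowD2.Op
import Cfsg.Agent.Lib.LowDeg.Green1

set_option autoImplicit false

namespace CfsgLib.LowD2

open Module

variable {k : Type} [Field k] {e p : ℕ} [NeZero e] [Fact p.Prime] [CharP k p]
  {V1 V2 W : Type} [AddCommGroup V1] [Module k V1] [AddCommGroup V2] [Module k V2]
  [AddCommGroup W] [Module k W] [FiniteDimensional k W] {w : AddChar (ZMod e) k} {ν : (ZMod p)ˣ}
  {τ : V1 →ₗ[k] V2 →ₗ[k] W} {A1 X1 : End k V1} {A2 X2 : End k V2} {A X : End k W}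
  {d : ℕ} {a1 a2 : ZMod e}

section single

variable {V : Type} [AddCommGroup V] [Module k V] {P : ZMod e → End k V} {D : End k V}
  {a : ZMod e}

omit [NeZero e] in
theorem Single.tena_kill (S : Single P D d a) {n : ℕ} (hn : d ≤ n) : (D ^ n) S.v = 0 := by
  obtain ⟨m, rfl⟩ := Nat.exists_eq_add_of_le' hn
  rw [pow_add, End.mul_apply, S.kill, map_zero]

omit [NeZero e] in
theorem Single.tena_pow (S : Single P D d a) (n : ℕ) (i : Fin d) :
    (D ^ n) (S.b i) = (D ^ (n + i)) S.v := by
  rw [S.bas, pow_add, End.mul_apply]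

omit [NeZero e] in
theorem Single.tena_nil (S : Single P D d a) : D ^ d = 0 :=
  S.b.ext fun i => by rw [S.tena_pow, S.tena_kill (Nat.le_add_right _ _)]; rfl

omit [NeZero e] in
theorem Single.tena_le_rank (S : Single P D d a) (n : ℕ) :
    d - n ≤ finrank k (LinearMap.range (D ^ n)) := by
  have := Module.Finite.of_basis S.b
  let g : Fin (d - n) → Fin d := fun i => ⟨n + i, by have := i.2; omega⟩
  have hg : Function.Injective g := fun i j hij => by
    have := congrArg Fin.val hij
    simp only [g] at this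
    exact Fin.ext (by omega)
  let f : Fin (d - n) → LinearMap.range (D ^ n) := fun i =>
    ⟨S.b (g i), (D ^ (i : ℕ)) S.v, by rw [S.bas, ← End.mul_apply, ← pow_add]⟩
  have hf : LinearIndependent k f :=
    LinearIndependent.of_comp (LinearMap.range (D ^ n)).subtype (S.b.linearIndependent.comp g hg)
  simpa using hf.fintype_card_le_finrank

end single

omit [NeZero e] in
theorem tena_geom {R : Type} [Ring R] [Algebra k R] (Y : R) :
    (Y - 1) ^ (p - 1) = ∑ j ∈ Finset.range p, Y ^ j := by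
  have hp : (p : R) = 0 := by
    rw [← map_natCast (algebraMap k R), CharP.cast_eq_zero, map_zero]
  have := Cyc.geom_eq hp 1 (Commute.one_right Y)
  simpa using this.symm

open Polynomial in
omit [NeZero e] in
theorem tena_desc {R : Type} [Ring R] [Algebra k R] (Y : R) (r : ℕ) :
    ∑ j ∈ Finset.range p, (j.descFactorial r : k) • Y ^ j =
      ((p - 1).descFactorial r : k) • ((Y - 1) ^ (p - 1 - r) * Y ^ r) := by
  have h1 := congrArg (derivative^[r]) (tena_geom (k := k) (p := p) (X : k[X]))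
  rw [← C_1, iterate_derivative_X_sub_pow, iterate_derivative_sum] at h1
  have h2 := congrArg (fun q => aeval Y (q * X ^ r)) h1
  simp only [Finset.sum_mul, map_sum, iterate_derivative_X_pow_eq_natCast_mul, nsmul_eq_mul,
    map_mul, map_natCast, map_pow, map_sub, aeval_X, map_one] at h2
  rw [Nat.cast_smul_eq_nsmul, nsmul_eq_mul, ← mul_assoc, h2]
  refine Finset.sum_congr rfl fun j _ => ?_
  rw [Nat.cast_smul_eq_nsmul, nsmul_eq_mul]
  rcases lt_or_ge j r with hj | hj
  · simp [Nat.descFactorial_of_lt hj]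
  · rw [mul_assoc, ← pow_add, Nat.sub_add_cancel hj]

variable (h : TenHyp w ν τ A1 X1 A2 X2 A X) (hp : p ≠ 2)
  (S1 : Single (PP w A1) (DD k p X1) d a1) (S2 : Single (PP w A2) (DD k p X2) d a2)

include h in
theorem TenHyp.tena_basis : ∃ b : Basis (Fin d × Fin d) k W, ∀ q, b q = τ (S1.b q.1) (S2.b q.2) := by
  refine ⟨basisOfTopLeSpanOfCardEqFinrank (fun q : Fin d × Fin d => τ (S1.b q.1) (S2.b q.2))
    (h.span _ fun u v => ?_).ge ?_, fun q => by rw [coe_basisOfTopLeSpanOfCardEqFinrank]⟩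
  · rw [← S1.b.sum_repr u, ← S2.b.sum_repr v]
    simp only [map_sum, map_smul, LinearMap.sum_apply, LinearMap.smul_apply]
    exact Submodule.sum_mem _ fun j _ => Submodule.smul_mem _ _ (Submodule.sum_mem _ fun i _ =>
      Submodule.smul_mem _ _ (Submodule.subset_span ⟨(i, j), rfl⟩))
  · rw [h.dim, finrank_eq_card_basis S1.b, finrank_eq_card_basis S2.b, Fintype.card_prod]

include h hp in
omit [FiniteDimensional k W] in
theorem TenHyp.tena_wt (q : Fin d × Fin d) :
    PP w A (a1 + a2 + ((q.1 + q.2 : ℕ) : ZMod e)) (τ (S1.b q.1) (S2.b q.2)) =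
      τ (S1.b q.1) (S2.b q.2) := by
  have h1 := (h.md1.PP_apply_eq_iff _ _).1 ((h.md1.isGr hp).pow_wt S1.wt q.1)
  have h2 := (h.md2.PP_apply_eq_iff _ _).1 ((h.md2.isGr hp).pow_wt S2.wt q.2)
  rw [← S1.bas] at h1
  rw [← S2.bas] at h2
  rw [h.md.PP_apply_eq_iff, h.hA, h1, h2]
  simp only [map_smul, LinearMap.smul_apply, smul_smul, ← AddChar.map_add_eq_mul]
  congr 2
  push_cast
  ring

/-- the degree filtration of the tensor product -/
def tenaF {d : ℕ} (b : Basis (Fin d × Fin d) k W) (m : ℕ) : Submodule k W :=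
  Submodule.span k (b '' (Finset.univ.filter fun q : Fin d × Fin d => m ≤ q.1 + q.2))

omit [FiniteDimensional k W] in
theorem tenaF_anti (b : Basis (Fin d × Fin d) k W) {m n : ℕ} (hmn : m ≤ n) :
    tenaF b n ≤ tenaF b m :=
  Submodule.span_mono (Set.image_mono fun q hq => by
    simp only [Finset.coe_filter, Finset.mem_univ, true_and, Set.mem_setOf_eq] at hq ⊢
    omega)

omit [FiniteDimensional k W] in
theorem tena_mem {b : Basis (Fin d × Fin d) k W} (hb : ∀ q, b q = τ (S1.b q.1) (S2.b q.2))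
    {r s : ℕ} {u : V1} {v : V2} (hu : u ∈ LinearMap.range (DD k p X1 ^ r))
    (hv : v ∈ LinearMap.range (DD k p X2 ^ s)) : τ u v ∈ tenaF b (r + s) := by
  obtain ⟨u, rfl⟩ := hu
  obtain ⟨v, rfl⟩ := hv
  rw [← S1.b.sum_repr u, ← S2.b.sum_repr v]
  simp only [map_sum, map_smul, LinearMap.sum_apply, LinearMap.smul_apply, Single.tena_pow]
  refine Submodule.sum_mem _ fun j _ => Submodule.smul_mem _ _ (Submodule.sum_mem _ fun i _ =>
      Submodule.smul_mem _ _ ?_)
  rcases lt_or_ge (r + i) d with hi | hi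
  · rcases lt_or_ge (s + j) d with hj | hj
    · refine Submodule.subset_span ⟨(⟨r + i, hi⟩, ⟨s + j, hj⟩), ?_, ?_⟩
      · simp only [Finset.coe_filter, Finset.mem_univ, true_and, Set.mem_setOf_eq]
        omega
      · rw [hb, S1.bas, S2.bas]
    · rw [S2.tena_kill hj, map_zero]
      exact Submodule.zero_mem _
  · rw [S1.tena_kill hi, map_zero, LinearMap.zero_apply]
    exact Submodule.zero_mem _

omit [NeZero e] in
include hp in
theorem tena_step {V : Type} [AddCommGroup V] [Module k V] {Y : End k V} (hY : Y ^ p = 1) {r : ℕ}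
    {u : V} (hu : u ∈ LinearMap.range (DD k p Y ^ r)) :
    (Y - 1) u ∈ LinearMap.range (DD k p Y ^ (r + 1)) ∧ Y u ∈ LinearMap.range (DD k p Y ^ r) := by
  rw [range_DD_pow hp hY] at hu
  rw [range_DD_pow hp hY, range_DD_pow hp hY]
  obtain ⟨u, rfl⟩ := hu
  refine ⟨⟨u, by rw [pow_succ', End.mul_apply]⟩, Y u, ?_⟩
  rw [← End.mul_apply, ← End.mul_apply,
    (((Commute.refl Y).sub_left (Commute.one_left Y)).pow_left r).eq]

include h hp in
omit [FiniteDimensional k W] in
theorem TenHyp.tena_D {b : Basis (Fin d × Fin d) k W} (hb : ∀ q, b q = τ (S1.b q.1) (S2.b q.2))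
    (n m : ℕ) {y : W} (hy : y ∈ tenaF b m) : (DD k p X ^ n) y ∈ tenaF b (m + n) := by
  have h1 : ∀ m, tenaF b m ≤ (tenaF b (m + 1)).comap (X - 1) := by
    intro m
    refine Submodule.span_le.2 ?_
    rintro _ ⟨q, hq, rfl⟩
    simp only [Finset.coe_filter, Finset.mem_univ, true_and, Set.mem_setOf_eq] at hq
    have hu : S1.b q.1 ∈ LinearMap.range (DD k p X1 ^ (q.1 : ℕ)) := ⟨_, (S1.bas _).symm⟩
    have hv : S2.b q.2 ∈ LinearMap.range (DD k p X2 ^ (q.2 : ℕ)) := ⟨_, (S2.bas _).symm⟩
    have e1 : (X - 1) (b q) = τ ((X1 - 1) (S1.b q.1)) (X2 (S2.b q.2)) +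
        τ (S1.b q.1) ((X2 - 1) (S2.b q.2)) := by
      simp [hb, h.hX]
    change (X - 1) (b q) ∈ tenaF b (m + 1)
    rw [e1]
    exact Submodule.add_mem _
      (tenaF_anti b (by omega) (tena_mem S1 S2 hb (tena_step hp h.md1.powX hu).1
        (tena_step hp h.md2.powX hv).2))
      (tenaF_anti b (by omega) (tena_mem S1 S2 hb hu (tena_step hp h.md2.powX hv).1))
  have h2 : ∀ m, tenaF b m ≤ (tenaF b m).comap X := by
    intro m y hy
    have : X y = (X - 1) y + y := by simp
    rw [Submodule.mem_comap, this]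
    exact Submodule.add_mem _ (tenaF_anti b (Nat.le_succ m) (h1 m hy)) hy
  obtain ⟨q, -, hq, -⟩ := exists_DD_unit (k := k) hp h.md.powX
  induction n with
  | zero => simpa using hy
  | succ n ih =>
    rw [pow_succ', End.mul_apply]
    nth_rw 1 [hq]
    exact h1 _ (Polynomial.aeval_apply_smul_mem_of_le_comap ih q X (h2 _))

include h hp S1 S2

theorem TenHyp.RR_zero (β : ZMod e) : RR (PP w A) (DD k p X) 0 β =
    (Finset.univ.filter fun q : Fin d × Fin d => a1 + a2 + ((q.1 + q.2 : ℕ) : ZMod e) = β).card := by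
  obtain ⟨b, hb⟩ := h.tena_basis S1 S2
  rw [← (h.md.isGr hp).finrank_span_inf b _ (fun q => by rw [hb]; exact h.tena_wt hp S1 S2 q), RR,
    pow_zero, Finset.coe_univ, Set.image_univ, b.span_eq]
  rw [show LinearMap.range (1 : End k W) = ⊤ from LinearMap.range_id]

theorem TenHyp.RR_le (n m : ℕ) (β : ZMod e) : RR (PP w A) (DD k p X) n β ≤
    (Finset.univ.filter fun q : Fin d × Fin d =>
      a1 + a2 + ((q.1 + q.2 : ℕ) : ZMod e) = β ∧ m < q.1 + q.2).card +
    (Finset.univ.filter fun q : Fin d × Fin d =>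
      a1 + a2 + ((q.1 + q.2 : ℕ) : ZMod e) + n = β ∧ q.1 + q.2 + n ≤ m).card := by
  classical
  obtain ⟨b, hb⟩ := h.tena_basis S1 S2
  have hG := h.md.isGr hp
  have hwt : ∀ q : Fin d × Fin d, PP w A (a1 + a2 + ((q.1 + q.2 : ℕ) : ZMod e)) (b q) = b q :=
    fun q => by rw [hb]; exact h.tena_wt hp S1 S2 q
  set Q2 := Finset.univ.filter fun q : Fin d × Fin d =>
      a1 + a2 + ((q.1 + q.2 : ℕ) : ZMod e) + n = β ∧ q.1 + q.2 + n ≤ m with hQ2
  have h1 := hG.finrank_span_inf b _ hwt
    (Finset.univ.filter fun q : Fin d × Fin d => m + 1 ≤ q.1 + q.2) β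
  have h2 := finrank_span_finset_le_card (R := k) (Q2.image fun q => (DD k p X ^ n) (b q))
  have h3 : (LinearMap.range (DD k p X ^ n) ⊓ LinearMap.range (PP w A β) : Submodule k W) ≤
      (tenaF b (m + 1) ⊓ LinearMap.range (PP w A β)) ⊔
        Submodule.span k (Q2.image fun q => (DD k p X ^ n) (b q)) := by
    rintro y ⟨⟨u, rfl⟩, z, hz⟩
    have h4 : PP w A β ((DD k p X ^ n) u) = (DD k p X ^ n) u := by
      rw [← hz, ← End.mul_apply, hG.orth, if_pos rfl]
    rw [← h4, ← b.sum_repr u]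
    simp only [map_sum, map_smul]
    refine Submodule.sum_mem _ fun q _ => Submodule.smul_mem _ _ ?_
    have h5 := hG.pow_wt (hwt q) n
    by_cases hq : β = a1 + a2 + ((q.1 + q.2 : ℕ) : ZMod e) + n
    · rw [← hq] at h5
      rcases le_or_gt (q.1 + q.2 + n) m with hm | hm
      · rw [h5]
        refine Submodule.mem_sup_right (Submodule.subset_span ?_)
        rw [Finset.coe_image]
        exact ⟨q, by simp [hQ2, hq, hm], rfl⟩
      · refine Submodule.mem_sup_left ⟨?_, _, rfl⟩
        rw [h5]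
        refine tenaF_anti b hm (h.tena_D hp S1 S2 hb n _ (Submodule.subset_span ⟨q, ?_, rfl⟩))
        simp
    · rw [← h5, ← End.mul_apply, hG.orth, if_neg hq]
      exact Submodule.zero_mem _
  refine (Submodule.finrank_mono h3).trans
    ((Submodule.finrank_add_le_finrank_add_finrank _ _).trans (Nat.add_le_add ?_ ?_))
  · refine (le_of_eq h1).trans (le_of_eq ?_)
    rw [Finset.filter_filter]
    congr 1
    exact Finset.filter_congr fun q _ => by rw [and_comm, Nat.succ_le_iff]
  · exact h2.trans Finset.card_image_le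

theorem TenHyp.le_rank (hd : d ≤ p) :
    2 * d - p ≤ finrank k (LinearMap.range (DD k p X ^ (p - 1))) := by
  rcases d with _ | r
  · simp
  have hpp : p.Prime := Fact.out
  obtain ⟨b, hb⟩ := h.tena_basis S1 S2
  have hT : (X2 - 1) ^ (r + 1) = 0 := LinearMap.ext fun v =>
    (DD_pow_apply_eq_zero hp h.md2.powX _ _).1 (by rw [S2.tena_nil]; rfl)
  have hv : ((X2 - 1) ^ r) S2.v ≠ 0 := fun h0 => S2.b.ne_zero (Fin.last r) (by
    rw [S2.bas]; exact (DD_pow_apply_eq_zero hp h.md2.powX _ _).2 h0)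
  let c : Basis (Fin (r + 1)) k V2 := basisOfLinearIndependentOfCardEqFinrank
    (LowDeg.li_pow hT hv) (finrank_eq_card_basis S2.b).symm
  have hc : ∀ i, c i = ((X2 - 1) ^ (i : ℕ)) S2.v := fun i => by simp [c]
  let f : V2 →ₗ[k] k := (r.factorial : k) • c.coord (Fin.last r)
  have hf1 : ∀ s : ℕ, f (((X2 - 1) ^ s) S2.v) = if s = r then (r.factorial : k) else 0 := by
    intro s
    rcases lt_or_ge s (r + 1) with hs | hs
    · have := hc ⟨s, hs⟩
      simp only at this
      rw [← this]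
      simp only [f, LinearMap.smul_apply, Basis.coord_apply, Basis.repr_self, smul_eq_mul,
        Finsupp.single_apply, Fin.ext_iff, Fin.val_last, mul_ite, mul_one, mul_zero]
    · rw [pow_eq_zero_of_le hs hT, if_neg (by omega)]
      simp
  have hf : ∀ j : ℕ, f ((X2 ^ j) S2.v) = (j.descFactorial r : k) := by
    intro j
    have e1 : X2 ^ j = (X2 - 1 + 1) ^ j := by rw [sub_add_cancel]
    rw [e1, (Commute.one_right _).add_pow, LinearMap.sum_apply, map_sum]
    simp only [one_pow, mul_one, End.mul_apply, End.natCast_apply, map_nsmul, hf1, smul_ite,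
      smul_zero, Finset.sum_ite_eq', Finset.mem_range]
    split_ifs with hj
    · rw [Nat.descFactorial_eq_factorial_mul_choose, nsmul_eq_mul, Nat.cast_mul, mul_comm]
    · rw [Nat.descFactorial_of_lt (by omega), Nat.cast_zero]
  let con : W →ₗ[k] V1 := b.constr k fun q => f (S2.b q.2) • S1.b q.1
  have hcon : ∀ u v, con (τ u v) = f v • u := by
    have : τ.compr₂ con = ((LinearMap.lsmul k V1).comp f).flip :=
      LinearMap.ext_basis S1.b S2.b fun i j => by
        have := hb (i, j)
        simp only at this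
        simp [← this, con]
    intro u v
    exact LinearMap.congr_fun (LinearMap.congr_fun this u) v
  have hXj : ∀ (j : ℕ) u v, (X ^ j) (τ u v) = τ ((X1 ^ j) u) ((X2 ^ j) v) := by
    intro j u v
    induction j with
    | zero => rfl
    | succ j ih => simp only [pow_succ', End.mul_apply, ih, h.hX]
  have hne : (((p - 1).descFactorial r : ℕ) : k) ≠ 0 := by
    rw [Ne, CharP.cast_eq_zero_iff k p]
    intro hdvd
    have h1 : (p - 1).descFactorial r ∣ (p - 1).factorial :=
      ⟨(p - 1 - r).factorial, by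
        rw [mul_comm, Nat.factorial_mul_descFactorial (by omega)]⟩
    have := (hpp.dvd_factorial).1 (hdvd.trans h1)
    have := hpp.pos
    omega
  have hle : LinearMap.range (DD k p X1 ^ (p - 1 - r)) ≤
      (LinearMap.range (DD k p X ^ (p - 1))).map con := by
    rw [range_DD_pow hp h.md1.powX, range_DD_pow hp h.md.powX]
    rintro _ ⟨u, rfl⟩
    refine ⟨_, ⟨τ ((((p - 1).descFactorial r : ℕ) : k)⁻¹ • (X1 ^ (p - r)) u) S2.v, rfl⟩, ?_⟩
    have e1 := LinearMap.congr_fun (tena_desc (k := k) (p := p) X1 r)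
      ((((p - 1).descFactorial r : ℕ) : k)⁻¹ • (X1 ^ (p - r)) u)
    rw [tena_geom (k := k), LinearMap.sum_apply, map_sum]
    simp only [hXj, hcon, hf]
    rw [LinearMap.sum_apply] at e1
    refine e1.trans ?_
    rw [LinearMap.smul_apply, map_smul, smul_smul, mul_inv_cancel₀ hne, one_smul, End.mul_apply,
      ← End.mul_apply (X1 ^ r), ← pow_add, Nat.add_sub_cancel' (by omega), h.md1.powX]
    rfl
  have := Module.Finite.of_basis S1.b
  have h1 := S1.tena_le_rank (p - 1 - r)
  have h2 := (Submodule.finrank_mono hle).trans (Submodule.finrank_map_le _ _)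
  omega

end CfsgLib.LowD2
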